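import Cfsg.Agent.SL2Recognition.Offender

/-!
A torus at a strict offender: `G` acts faithfully on a finite abelian `p`-group `V` (`p` odd),
`M` is the stabiliser of a subgroup `T₀` whose `p`-elements fix `T₀`, and `M` contains the
normaliser of the subgroup generated by the strict quadratic offenders of a Sylow `p`-subgroup.
Then an element of `M` of order prime to `p` permutes transitively the nonzero elements of a
subgroup containing its commutator with `T₀`.

Proof: take a `p`-subgroup `R` of `M` generated by offenders, of largest order with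
`N(R) ⊄ M`, an offender `B` normalising but not contained in it, and `L` minimal with
`B ≤ L ≤ N(R)`, `L ⊄ M`. Then `L ≅ SL₂(q)` acts naturally and `N_L(B) ≤ M`.
-/

set_option autoImplicit false

namespace CfsgLib.WeakClosed.Torus

open Subgroup CfsgLib.SL2Recognition Matrix
open scoped MatrixGroups Pointwise

variable {G V : Type*} [Group G] [AddCommGroup V] (σ : G →* AddMonoid.End V)

/-- A quadratic offender none of whose proper nontrivial subgroups is as good. -/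
structure IsStrict (p : ℕ) (A : Subgroup G) : Prop where
  pgroup : IsPGroup p A
  ne_bot : A ≠ ⊥
  quad : ∀ a ∈ A, ∀ b ∈ A, ∀ v, σ a (σ b v - v) = σ b v - v
  smul : ∀ a ∈ A, ∀ v : V, σ a (p • v) = p • v
  le : Nat.card V ≤ Nat.card A * Nat.card (fix σ A)
  strict : ∀ A₀ : Subgroup G, A₀ ≤ A → A₀ ≠ ⊥ → A₀ ≠ A →
    Nat.card A₀ * Nat.card (fix σ A₀) < Nat.card A * Nat.card (fix σ A)

theorem map_conj_inv_map (A : Subgroup G) (g : G) :
    (A.map (MulAut.conj g⁻¹).toMonoidHom).map (MulAut.conj g).toMonoidHom = A := by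
  rw [Subgroup.map_map]
  refine (congrArg (Subgroup.map · A) ?_).trans (Subgroup.map_id A)
  ext x; simp [mul_assoc]

theorem card_fix_conj (A : Subgroup G) (g : G) :
    Nat.card (fix σ (A.map (MulAut.conj g).toMonoidHom)) = Nat.card (fix σ A) :=
  Nat.card_congr
    { toFun := fun v => ⟨σ g⁻¹ v.1, (mem_fix_conj σ).1 v.2⟩
      invFun := fun v => ⟨σ g v.1, (mem_fix_conj σ).2 (by rw [apply_inv_apply]; exact v.2)⟩
      left_inv := fun v => Subtype.ext (apply_apply_inv σ g v.1)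
      right_inv := fun v => Subtype.ext (apply_inv_apply σ g v.1) }

theorem card_conj (A : Subgroup G) (g : G) :
    Nat.card (A.map (MulAut.conj g).toMonoidHom) = Nat.card A :=
  card_map_of_injective (MulAut.conj g).injective

variable {σ} {p : ℕ}

theorem IsStrict.map_conj {A : Subgroup G} (h : IsStrict σ p A) (g : G) :
    IsStrict σ p (A.map (MulAut.conj g).toMonoidHom) where
  pgroup := h.pgroup.map _
  ne_bot := fun e => h.ne_bot ((map_eq_bot_iff_of_injective _ (MulAut.conj g).injective).1 e)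
  quad := by
    rintro _ ⟨a, ha, rfl⟩ _ ⟨b, hb, rfl⟩ v
    show σ (g * a * g⁻¹) (σ (g * b * g⁻¹) v - v) = σ (g * b * g⁻¹) v - v
    have e : σ (g * b * g⁻¹) v - v = σ g (σ b (σ g⁻¹ v) - σ g⁻¹ v) := by
      rw [map_sub, apply_mul, apply_mul, apply_apply_inv]
    rw [e, apply_mul, apply_mul, apply_inv_apply, h.quad a ha b hb]
  smul := by
    rintro _ ⟨a, ha, rfl⟩ v
    show σ (g * a * g⁻¹) (p • v) = p • v
    rw [apply_mul, apply_mul, map_nsmul, h.smul a ha, map_nsmul, apply_apply_inv]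
  le := by rw [card_fix_conj, card_conj]; exact h.le
  strict A₀ h1 h2 h3 := by
    have e := map_conj_inv_map A₀ g
    rw [card_fix_conj, card_conj A g, ← e, card_fix_conj, card_conj (A₀.map _) g]
    refine h.strict _ ?_ ?_ ?_
    · rintro _ ⟨x, hx, rfl⟩
      obtain ⟨a, ha, rfl⟩ := h1 hx
      simpa [mul_assoc] using ha
    · exact fun e' => h2 ((map_eq_bot_iff_of_injective _ (MulAut.conj g⁻¹).injective).1 e')
    · exact fun e' => h3 (by rw [← e, e'])

theorem mem_normalizer_of_map_le [Finite G] {H : Subgroup G} {g : G}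
    (h : H.map (MulAut.conj g).toMonoidHom ≤ H) : g ∈ normalizer (H : Set G) :=
  mem_normalizer_iff_map_conj_eq.2 (eq_of_le_of_card_ge h (card_conj H g).ge)

/-- An offender of `Es` normalises `R < Es` without lying in it. -/
theorem exists_normalizing [Finite G] {p : ℕ} [Fact p.Prime] {S : Subgroup G} (hS : IsPGroup p S)
    {D : Set (Subgroup G)} (hD : ∀ A ∈ D, ∀ g, A.map (MulAut.conj g).toMonoidHom ∈ D)
    {R : Subgroup G} (hR : R = sSup {A | A ∈ D ∧ A ≤ R}) (hRS : R ≤ S)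
    (hne : R ≠ sSup {A | A ∈ D ∧ A ≤ S}) :
    ∃ B ∈ D, B ≤ S ∧ B ≤ normalizer (R : Set G) ∧ ¬ B ≤ R := by
  by_contra hcon
  push Not at hcon
  set H := S ⊓ normalizer (R : Set G) with hH
  have hRH : R = sSup {A | A ∈ D ∧ A ≤ H} := by
    refine le_antisymm ?_ (sSup_le fun A hA => hcon A hA.1 (hA.2.trans inf_le_left)
      (hA.2.trans inf_le_right))
    conv_lhs => rw [hR]
    exact sSup_le_sSup fun A hA => ⟨hA.1, hA.2.trans (le_inf hRS le_normalizer)⟩
  have hnorm : ∀ g ∈ S, g ∈ normalizer (H : Set G) → g ∈ H := by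
    intro g hgS hg
    refine mem_inf.2 ⟨hgS, mem_normalizer_of_map_le ?_⟩
    have hgH := mem_normalizer_iff_map_conj_eq.1 hg
    conv_lhs => rw [hRH]
    rw [map_le_iff_le_comap]
    refine sSup_le fun A hA => map_le_iff_le_comap.1 ?_
    rw [hRH]
    exact le_sSup ⟨hD A hA.1 g, (map_mono hA.2).trans hgH.le⟩
  have hHS : H = S := by
    by_contra hne'
    haveI : Group.IsNilpotent S := hS.isNilpotent
    have hlt : H.subgroupOf S < ⊤ := lt_top_iff_ne_top.2 fun h =>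
      hne' (le_antisymm inf_le_left (subgroupOf_eq_top.1 h))
    have h2 := Group.normalizerCondition_of_isNilpotent (H.subgroupOf S) hlt
    obtain ⟨x, hx, hxn⟩ := SetLike.exists_of_lt h2
    refine hxn (mem_subgroupOf.2 (hnorm x x.2 (mem_normalizer_of_map_le ?_)))
    rintro _ ⟨y, hy, rfl⟩
    exact (mem_normalizer_iff.1 hx ⟨y, hy.1⟩).1 (mem_subgroupOf.2 hy)
  exact hne (by rw [hHS] at hRH; exact hRH)

variable [Finite G] [Finite V] [Fact p.Prime]

/-- The minimal subgroup `L`. -/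
theorem exists_pair {M : Subgroup G} (hM : M ≠ ⊤) (S : Sylow p G) (hSM : (S : Subgroup G) ≤ M)
    (hN : normalizer ((sSup {A | IsStrict σ p A ∧ A ≤ (S : Subgroup G)} : Subgroup G) : Set G) ≤ M) :
    ∃ B L : Subgroup G, IsStrict σ p B ∧ B ≤ L ∧ B ≤ M ∧ ¬ L ≤ M ∧
      (∀ K : Subgroup G, B ≤ K → K < L → K ≤ M) ∧
      ∀ x ∈ L, x ∉ M → ¬ B.map (MulAut.conj x).toMonoidHom ≤ M := by
  classical
  let good : Set (Subgroup G) := {R | IsPGroup p R ∧ R ≤ M ∧ ¬ normalizer (R : Set G) ≤ M ∧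
    R = sSup {A | IsStrict σ p A ∧ A ≤ R}}
  have hbot : (⊥ : Subgroup G) ∈ good := by
    refine ⟨IsPGroup.of_bot, bot_le, fun h => hM (top_le_iff.1 ?_), le_antisymm bot_le ?_⟩
    · intro g _
      exact h (mem_normalizer_of_map_le (by simp))
    · exact sSup_le fun A hA => hA.2
  obtain ⟨R₁, hR₁, hmax⟩ := Set.exists_max_image good (fun R => Nat.card R) (Set.toFinite _)
    ⟨_, hbot⟩
  -- move `R₁` into `S`
  obtain ⟨R, hR, hRS, hcardR⟩ : ∃ R ∈ good, R ≤ (S : Subgroup G) ∧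
      Nat.card R = Nat.card R₁ := by
    obtain ⟨P, hP⟩ := (hR₁.1.comap_subtype (K := M)).exists_le_sylow
    obtain ⟨m, hm⟩ := MulAction.exists_smul_eq M P (S.subtype hSM)
    refine ⟨R₁.map (MulAut.conj (m : G)).toMonoidHom, ⟨hR₁.1.map _, ?_, ?_, ?_⟩, ?_, card_conj _ _⟩
    · rintro _ ⟨x, hx, rfl⟩
      exact mul_mem (mul_mem m.2 (hR₁.2.1 hx)) (inv_mem m.2)
    · intro hle
      refine hR₁.2.2.1 fun g hg => ?_
      have h1 : (m : G) * g * (m : G)⁻¹ ∈ M := hle (mem_normalizer_of_map_le (by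
        rintro _ ⟨_, ⟨x, hx, rfl⟩, rfl⟩
        exact ⟨g * x * g⁻¹, (mem_normalizer_iff.1 hg x).1 hx, by simp [mul_assoc]⟩))
      have := mul_mem (mul_mem (inv_mem m.2) h1) m.2
      simpa [mul_assoc] using this
    · refine le_antisymm ?_ (sSup_le fun A hA => hA.2)
      conv_lhs => rw [hR₁.2.2.2]
      rw [map_le_iff_le_comap]
      exact sSup_le fun A hA => map_le_iff_le_comap.1
        (le_sSup ⟨hA.1.map_conj (m : G), map_mono hA.2⟩)
    · rintro _ ⟨x, hx, rfl⟩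
      have h3 : MulAut.conj m (⟨x, hR₁.2.1 hx⟩ : M) ∈ ((m • P : Sylow p M) : Subgroup M) := by
        rw [Sylow.coe_subgroup_smul]
        exact ⟨_, hP (mem_subgroupOf.2 hx), rfl⟩
      rw [hm] at h3
      exact h3
  have hne : R ≠ sSup {A | IsStrict σ p A ∧ A ≤ (S : Subgroup G)} := fun e =>
    hR.2.2.1 (by rw [e]; exact hN)
  obtain ⟨B, hB, hBS, hBN, hBR⟩ := exists_normalizing (D := {A | IsStrict σ p A})
    S.isPGroup' (fun A hA g => hA.map_conj g) hR.2.2.2 hRS hne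
  obtain ⟨L, ⟨hBL, hLN, hLM⟩, hmin⟩ := Set.exists_min_image
    {L : Subgroup G | B ≤ L ∧ L ≤ normalizer (R : Set G) ∧ ¬ L ≤ M} (fun L => Nat.card L)
    (Set.toFinite _) ⟨normalizer (R : Set G), hBN, le_rfl, hR.2.2.1⟩
  have hprop : ∀ K : Subgroup G, B ≤ K → K < L → K ≤ M := by
    intro K hBK hKL
    by_contra hKM
    exact hKL.ne (eq_of_le_of_card_ge hKL.le (hmin K ⟨hBK, hKL.le.trans hLN, hKM⟩))
  refine ⟨B, L, hB, hBL, hBS.trans hSM, hLM, hprop, fun x hx hxM hle => ?_⟩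
  -- otherwise `L ∩ M` is normal in `L` and `R` grows
  set L₀ := M.subgroupOf L with hL₀
  have hBL₀ : B.subgroupOf L ≤ L₀ := fun y hy => hBS.trans hSM hy
  have hmaxL : ∀ K : Subgroup L, B.subgroupOf L ≤ K → K ≠ ⊤ → K ≤ L₀ := by
    intro K hBK hK y hy
    refine hprop (K.map L.subtype) (fun b hb => ⟨⟨b, hBL hb⟩, hBK hb, rfl⟩)
      (lt_of_le_of_ne (map_subtype_le K) fun e => hK ?_) ⟨y, hy, rfl⟩
    exact map_injective L.subtype_injective (by rw [e, ← MonoidHom.range_eq_map, range_subtype])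
  have hL₀ne : L₀ ≠ ⊤ := fun e => hLM (subgroupOf_eq_top.1 e)
  have hxn : (⟨x, hx⟩ : L)⁻¹ ∈ normalizer (L₀ : Set L) := by
    refine mem_normalizer_of_map_le (hmaxL _ (fun b hb => ?_) fun e => hL₀ne ?_)
    · refine ⟨⟨x, hx⟩ * b * (⟨x, hx⟩ : L)⁻¹, hle ⟨b, hb, rfl⟩, ?_⟩
      simp [mul_assoc]
    · refine eq_top_of_card_eq _ ?_
      rw [← card_conj L₀ (⟨x, hx⟩ : L)⁻¹, e, card_top]
  have hL₀n : normalizer (L₀ : Set L) = ⊤ := by
    by_contra hne'
    exact hxM (by simpa [hL₀, mem_subgroupOf] using (inv_mem (hmaxL _ (hBL₀.trans le_normalizer) hne' hxn)))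
  set N₀ := normalClosure ((B.subgroupOf L : Subgroup L) : Set L) with hN₀
  have hN₀le : N₀ ≤ L₀ := by
    haveI : L₀.Normal := normalizer_eq_top_iff.1 hL₀n
    exact normalClosure_le_normal hBL₀
  obtain ⟨P, hP⟩ := (hB.pgroup.comap_subtype (K := L)).exists_le_sylow
  obtain ⟨Q, hQ⟩ := CfsgLib.LocalEvenBasic.exists_sylow_map_eq_inf P N₀
  have hfr := Sylow.normalizer_sup_eq_top Q
  rw [hQ] at hfr
  set Rc := (P : Subgroup L) ⊓ N₀
  have hBRc : B.subgroupOf L ≤ Rc := le_inf hP subset_normalClosure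
  have hRcn : normalizer (Rc : Set L) = ⊤ := by
    by_contra hne'
    exact hL₀ne (top_le_iff.1
      (hfr.ge.trans (sup_le (hmaxL _ (hBRc.trans le_normalizer) hne') hN₀le)))
  haveI : Rc.Normal := normalizer_eq_top_iff.1 hRcn
  have hN₀p : IsPGroup p N₀ := P.isPGroup'.to_le
    ((normalClosure_le_normal hBRc).trans inf_le_left)
  set N₁ := N₀.map L.subtype with hN₁
  have hBN₁ : B ≤ N₁ := fun b hb => ⟨⟨b, hBL hb⟩, subset_normalClosure hb, rfl⟩
  set R' := R ⊔ N₁ with hR'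
  have hN₁L : N₁ ≤ L := map_subtype_le _
  have hR'p : IsPGroup p R' :=
    hR.1.to_sup_of_normal_left' (hN₀p.map _) (hN₁L.trans hLN)
  have hLR' : L ≤ normalizer (R' : Set G) := fun l hl => by
    refine mem_normalizer_of_map_le ?_
    rw [hR', Subgroup.map_sup]
    refine sup_le_sup (mem_normalizer_iff_map_conj_eq.1 (hLN hl)).le ?_
    rintro _ ⟨_, ⟨y, hy, rfl⟩, rfl⟩
    exact ⟨⟨l, hl⟩ * y * ⟨l, hl⟩⁻¹, (inferInstance : N₀.Normal).conj_mem y hy _, rfl⟩
  have hgood : R' ∈ good := by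
    refine ⟨hR'p, sup_le hR.2.1 (map_le_iff_le_comap.2 hN₀le),
      fun h => hLM (hLR'.trans h), le_antisymm (sup_le ?_ ?_) (sSup_le fun A hA => hA.2)⟩
    · conv_lhs => rw [hR.2.2.2]
      exact sSup_le_sSup fun A hA => ⟨hA.1, hA.2.trans le_sup_left⟩
    · rw [hN₁, map_le_iff_le_comap]
      refine (closure_le _).2 ?_
      intro y hy
      obtain ⟨b, hb, hc⟩ := Group.mem_conjugatesOfSet_iff.1 hy
      obtain ⟨c, rfl⟩ := isConj_iff.1 hc
      refine le_sSup (s := {A | IsStrict σ p A ∧ A ≤ R'}) (a := B.map (MulAut.conj (c : G)).toMonoidHom)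
        ⟨hB.map_conj c, ?_⟩ ⟨b, hb, rfl⟩
      rintro _ ⟨b', hb', rfl⟩
      exact le_sup_right (a := R) ⟨c * ⟨b', hBL hb'⟩ * c⁻¹,
        (inferInstance : N₀.Normal).conj_mem _ (subset_normalClosure hb') _, rfl⟩
  refine hBR ?_
  have := eq_of_le_of_card_ge (le_sup_left : R ≤ R') ((hmax R' hgood).trans hcardR.ge)
  rw [this]
  exact hBN₁.trans le_sup_right

/-- The diagonal torus. -/
def diag {F : Type*} [Field F] : Fˣ →* SL(2, F) where
  toFun u := ⟨!![(u : F), 0; 0, ((u⁻¹ : Fˣ) : F)], by simp [Matrix.det_fin_two]⟩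
  map_one' := Subtype.ext (by ext i j; fin_cases i <;> fin_cases j <;> simp)
  map_mul' u v := Subtype.ext (by
    show _ = !![(u : F), 0; 0, ((u⁻¹ : Fˣ) : F)] * !![(v : F), 0; 0, ((v⁻¹ : Fˣ) : F)]
    ext i j; fin_cases i <;> fin_cases j <;> simp [Matrix.mul_apply, Fin.sum_univ_two, mul_comm])

theorem exists_col {F : Type*} [Field F] {w : Fin 2 → F} (hw : w ≠ 0) :
    ∃ C : SL(2, F), C.1 *ᵥ ![1, 0] = w := by
  by_cases h0 : w 0 = 0
  · have h1 : w 1 ≠ 0 := fun h1 => hw (by ext i; fin_cases i <;> assumption)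
    refine ⟨⟨!![0, -(w 1)⁻¹; w 1, 0], by simp [Matrix.det_fin_two, h1]⟩, ?_⟩
    ext i; fin_cases i <;> simp [h0]
  · refine ⟨⟨!![w 0, 0; w 1, (w 0)⁻¹], by simp [Matrix.det_fin_two, h0]⟩, ?_⟩
    ext i; fin_cases i <;> simp

/-- The fixed vectors of a nontrivial element lie on one line, and its stabiliser is small. -/
theorem eq_smul_of_fix {F : Type*} [Field F] {s : SL(2, F)} (hs : s ≠ 1) {w c : Fin 2 → F}
    (hw : w ≠ 0) (h1 : s.1 *ᵥ w = w) (h2 : s.1 *ᵥ c = c) : ∃ r : F, c = r • w := by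
  obtain ⟨C, hC⟩ := exists_col hw
  have key : ∀ v, C.1 *ᵥ ((C⁻¹).1 *ᵥ v) = v := fun v => by
    rw [mulVec_mulVec, ← Matrix.SpecialLinearGroup.coe_mul, mul_inv_cancel]; simp
  set c' := (C⁻¹).1 *ᵥ c with hc'
  by_cases h : c' 1 = 0
  · refine ⟨c' 0, ?_⟩
    have e : c' = c' 0 • ![1, 0] := by ext i; fin_cases i <;> simp [h]
    rw [← key c, ← hc', e, mulVec_smul, hC]
    simp
  · exfalso
    refine hs ?_
    set s' := C⁻¹ * s * C with hs'
    have h1' : s'.1 *ᵥ ![1, 0] = ![1, 0] := by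
      rw [hs', Matrix.SpecialLinearGroup.coe_mul, Matrix.SpecialLinearGroup.coe_mul,
        ← mulVec_mulVec, ← mulVec_mulVec, hC, h1, ← hC, mulVec_mulVec,
        ← Matrix.SpecialLinearGroup.coe_mul, inv_mul_cancel]
      simp
    have h2' : s'.1 *ᵥ c' = c' := by
      rw [hs', Matrix.SpecialLinearGroup.coe_mul, Matrix.SpecialLinearGroup.coe_mul,
        ← mulVec_mulVec, ← mulVec_mulVec, hc', key c, h2]
    have e00 : s'.1 0 0 = 1 := by simpa using congrFun h1' 0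
    have e10 : s'.1 1 0 = 0 := by simpa using congrFun h1' 1
    have hdet : s'.1 1 1 = 1 := by
      have hd := s'.2
      rw [Matrix.det_fin_two, e00, e10] at hd
      simpa using hd
    have e01 : s'.1 0 1 = 0 := by
      have := congrFun h2' 0
      rw [Matrix.mulVec, dotProduct, Fin.sum_univ_two, e00, one_mul] at this
      simpa [h] using this
    have : s' = 1 := Subtype.ext (by
      ext i j; fin_cases i <;> fin_cases j <;> simp [e00, e10, e01, hdet])
    rw [hs'] at this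
    calc s = C * (C⁻¹ * s * C) * C⁻¹ := by group
      _ = 1 := by rw [this]; group

/-- An element of `SL₂` scaling `w` by a generator of `Fˣ` normalises the stabiliser image. -/
theorem exists_scale {F : Type*} [Field F] [Fintype F] {w : Fin 2 → F} (hw : w ≠ 0) :
    ∃ (g : SL(2, F)) (ζ : Fˣ), g ^ (Fintype.card F - 1) = 1 ∧ g.1 *ᵥ w = (ζ : F) • w ∧
      ∀ u : Fˣ, u ∈ zpowers ζ := by
  classical
  obtain ⟨ζ, hζ⟩ := IsCyclic.exists_generator (α := Fˣ)
  obtain ⟨C, hC⟩ := exists_col hw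
  refine ⟨MulAut.conj C (diag ζ), ζ, ?_, ?_, hζ⟩
  · rw [← map_pow, ← map_pow, ← Fintype.card_units, pow_card_eq_one, map_one, map_one]
  · show (C * diag ζ * C⁻¹).1 *ᵥ w = _
    rw [← hC, mulVec_mulVec, ← Matrix.SpecialLinearGroup.coe_mul,
      inv_mul_cancel_right, Matrix.SpecialLinearGroup.coe_mul, ← mulVec_mulVec]
    have e : (diag ζ).1 *ᵥ ![1, 0] = (ζ : F) • ![1, 0] := by
      show !![(ζ : F), 0; 0, ((ζ⁻¹ : Fˣ) : F)] *ᵥ ![1, 0] = _
      ext i; fin_cases i <;> simp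
    rw [e, mulVec_smul]

/-- The stabiliser of a nonzero vector has at most `|F|` elements. -/
theorem exists_param {F : Type*} [Field F] {w : Fin 2 → F} (hw : w ≠ 0) :
    ∃ f : SL(2, F) → F, ∀ s t : SL(2, F), s.1 *ᵥ w = w → t.1 *ᵥ w = w → f s = f t → s = t := by
  obtain ⟨C, hC⟩ := exists_col hw
  refine ⟨fun s => (C⁻¹ * s * C).1 0 1, fun s t hs ht h => ?_⟩
  have key : ∀ u : SL(2, F), u.1 *ᵥ w = w → (C⁻¹ * u * C).1 0 0 = 1 ∧ (C⁻¹ * u * C).1 1 0 = 0 ∧
      (C⁻¹ * u * C).1 1 1 = 1 := by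
    intro u hu
    have h1 : (C⁻¹ * u * C).1 *ᵥ ![1, 0] = ![1, 0] := by
      rw [Matrix.SpecialLinearGroup.coe_mul, Matrix.SpecialLinearGroup.coe_mul,
        ← mulVec_mulVec, ← mulVec_mulVec, hC, hu, ← hC, mulVec_mulVec,
        ← Matrix.SpecialLinearGroup.coe_mul, inv_mul_cancel]
      simp
    have e00 : (C⁻¹ * u * C).1 0 0 = 1 := by simpa [-Matrix.SpecialLinearGroup.coe_mul] using congrFun h1 0
    have e10 : (C⁻¹ * u * C).1 1 0 = 0 := by simpa [-Matrix.SpecialLinearGroup.coe_mul] using congrFun h1 1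
    refine ⟨e00, e10, ?_⟩
    have hd := (C⁻¹ * u * C).2
    rw [Matrix.det_fin_two, e00, e10] at hd
    simpa [-Matrix.SpecialLinearGroup.coe_mul] using hd
  obtain ⟨a1, a2, a3⟩ := key s hs
  obtain ⟨b1, b2, b3⟩ := key t ht
  have : C⁻¹ * s * C = C⁻¹ * t * C := Subtype.ext (by
    ext i j
    fin_cases i <;> fin_cases j
    · exact a1.trans b1.symm
    · exact h
    · exact a2.trans b2.symm
    · exact a3.trans b3.symm)
  simpa using this

/-- The torus. -/
theorem exists_torus (hinj : Function.Injective σ) (hp : p ≠ 2) {M : Subgroup G} (hM : M ≠ ⊤)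
    (T₀ : AddSubgroup V) (hMT : ∀ g : G, (∀ t ∈ T₀, σ g t = t) → g ∈ M)
    (hfix : ∀ g ∈ M, (∃ k : ℕ, g ^ p ^ k = 1) → ∀ t ∈ T₀, σ g t = t)
    (S : Sylow p G) (hSM : (S : Subgroup G) ≤ M)
    (hN : normalizer ((sSup {A | IsStrict σ p A ∧ A ≤ (S : Subgroup G)} : Subgroup G) : Set G) ≤ M) :
    ∃ k ∈ M, (orderOf k).Coprime p ∧ (∃ t ∈ T₀, σ k t ≠ t) ∧
      ∃ Y : AddSubgroup V, (∀ t ∈ T₀, ∀ i : ℕ, σ (k ^ i) t - t ∈ Y) ∧
        ∀ a ∈ Y, ∀ b ∈ Y, a ≠ 0 → b ≠ 0 → ∃ i : ℕ, σ (k ^ i) a = b := by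
  classical
  obtain ⟨B, L, hB, hBL, hBM, hLM, hprop, hgen⟩ := exists_pair hM S hSM hN
  set L₀ := M.subgroupOf L with hL₀
  set B' := B.subgroupOf L with hB'
  let σL : L →* AddMonoid.End V := σ.comp L.subtype
  have hmaxL : ∀ K : Subgroup L, B' ≤ K → K ≠ ⊤ → K ≤ L₀ := by
    intro K hBK hK y hy
    refine hprop (K.map L.subtype) (fun b hb => ⟨⟨b, hBL hb⟩, hBK hb, rfl⟩)
      (lt_of_le_of_ne (map_subtype_le K) fun e => hK ?_) ⟨y, hy, rfl⟩
    exact map_injective L.subtype_injective (by rw [e, ← MonoidHom.range_eq_map, range_subtype])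
  have hB'L₀ : B' ≤ L₀ := fun y hy => hBM hy
  have hL₀ne : L₀ ≠ ⊤ := fun e => hLM (subgroupOf_eq_top.1 e)
  have hcoat : IsCoatom L₀ :=
    ⟨hL₀ne, fun K hK => by_contra fun hne => hK.not_ge (hmaxL K (hB'L₀.trans hK.le) hne)⟩
  obtain ⟨TL, hTL⟩ := (hB.pgroup.comap_subtype (K := L)).exists_le_sylow
  have hB'ne : B' ≠ ⊥ := fun e => hB.ne_bot (by
    rw [← map_subgroupOf_eq_of_le hBL]; show B'.map L.subtype = ⊥; rw [e, Subgroup.map_bot])
  have hgenL : ∀ x : L, x ∉ L₀ → B' ⊔ B'.map (MulAut.conj x).toMonoidHom = ⊤ := by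
    intro x hx
    by_contra hne
    refine hgen x x.2 hx ?_
    rintro _ ⟨b, hb, rfl⟩
    exact hmaxL _ le_sup_left hne
      (le_sup_right (a := B') ⟨⟨b, hBL hb⟩, hb, rfl⟩ :
        x * ⟨b, hBL hb⟩ * x⁻¹ ∈ B' ⊔ B'.map (MulAut.conj x).toMonoidHom)
  obtain ⟨x₀, hx₀⟩ : ∃ x : L, x ∉ L₀ := by
    by_contra h
    push Not at h
    exact hL₀ne (eq_top_iff.2 fun x _ => h x)
  have hTLne : (TL : Subgroup L) ≠ ⊤ := by
    intro e
    -- a `p`-group `L` would normalise `L ∩ M`, which contains the conjugate of `B`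
    haveI : Group.IsNilpotent L :=
      ((IsPGroup.of_equiv (e ▸ TL.isPGroup') Subgroup.topEquiv : IsPGroup p L)).isNilpotent
    haveI : L₀.Normal := Subgroup.NormalizerCondition.normal_of_coatom _
      Group.normalizerCondition_of_isNilpotent hcoat
    refine hL₀ne (top_le_iff.1 ((hgenL x₀ hx₀).ge.trans (sup_le hB'L₀ ?_)))
    rintro _ ⟨b, hb, rfl⟩
    exact (inferInstance : L₀.Normal).conj_mem b (hB'L₀ hb) x₀
  have huniq : ∀ N : Subgroup L, IsCoatom N → (TL : Subgroup L) ≤ N → N = L₀ := fun N hN hTN =>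
    ((hN.le_iff.1 (hmaxL N (hTL.trans hTN) hN.1)).resolve_left hL₀ne).symm
  have hTL₀ : (TL : Subgroup L) ≤ L₀ := hmaxL _ hTL hTLne
  have hfixB : fix σL B' = fix σ B := AddSubgroup.ext fun v =>
    ⟨fun h b hb => h ⟨b, hBL hb⟩ hb, fun h b hb => h b hb⟩
  have hcardB : Nat.card B' = Nat.card B := Nat.card_congr (subgroupOfEquivOfLe hBL).toEquiv
  have hfixTL : ∀ g ∈ (TL : Subgroup L), ∀ t ∈ T₀, σ g t = t := fun g hg => by
    obtain ⟨k, hk⟩ := TL.isPGroup' ⟨g, hg⟩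
    exact hfix g (hTL₀ hg) ⟨k, congrArg (fun z : (TL : Subgroup L) => ((z : L) : G)) hk⟩
  obtain ⟨t₀, ht₀, ht₀n⟩ : ∃ t ∈ T₀, t ∉ fix σL ⊤ := by
    by_contra h
    push Not at h
    exact hLM fun l hl => hMT l fun t ht => h t ht ⟨l, hl⟩ (mem_top _)
  obtain ⟨F, _, _, φ, ψ, hcardF, -, hψ0, hψe, -⟩ := exists_natural_of_smul (p := p) σL
    (hinj.comp L.subtype_injective) TL L₀ hcoat hTL₀ huniq B' hTL
    (fun a ha b hb v => hB.quad a ha b hb v)
    (by rw [hfixB, hcardB]; exact hB.le)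
    (fun A₀ h1 h2 h3 => by
      have e1 : Nat.card (A₀.map L.subtype) = Nat.card A₀ := card_map_of_injective L.subtype_injective
      have e2 : fix σL A₀ = fix σ (A₀.map L.subtype) := AddSubgroup.ext fun v =>
        ⟨fun h => by rintro _ ⟨b, hb, rfl⟩; exact h b hb, fun h b hb => h b ⟨b, hb, rfl⟩⟩
      rw [hfixB, hcardB, e2, ← e1]
      refine hB.strict _ (fun y hy => ?_) ?_ ?_
      · obtain ⟨z, hz, rfl⟩ := hy; exact h1 hz
      · exact fun e => h2 ((map_eq_bot_iff_of_injective _ L.subtype_injective).1 e)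
      · exact fun e => h3 (map_injective L.subtype_injective (e.trans (map_subgroupOf_eq_of_le hBL).symm)))
    ⟨t₀, fun g hg => hfixTL g hg t₀ ht₀, ht₀n⟩ hgenL
    (fun a ha v => hB.smul a ha v)
  -- the line of `T₀`
  set w := ψ t₀ with hwdef
  have hw : w ≠ 0 := fun h => ht₀n ((hψ0 t₀).1 h)
  have hBfix : ∀ b ∈ B', ∀ t ∈ T₀, (φ b).1 *ᵥ ψ t = ψ t := fun b hb t ht => by
    rw [← hψe, show σL b t = t from hfixTL b (hTL hb) t ht]
  obtain ⟨b₀, hb₀, hb₀1⟩ := B'.bot_or_exists_ne_one.resolve_left hB'ne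
  have hline : ∀ t ∈ T₀, ∃ r : F, ψ t = r • w := fun t ht =>
    eq_smul_of_fix (fun e => hb₀1 ((map_eq_one_iff φ φ.injective).1 e)) hw
      (hBfix b₀ hb₀ t₀ ht₀) (hBfix b₀ hb₀ t ht)
  obtain ⟨g, ζ, hg, hgw, hζ⟩ := exists_scale hw
  set k := φ.symm g with hk
  have hφk : φ k = g := φ.apply_symm_apply g
  -- `k` normalises `B'`
  have hkM : k ∈ L₀ := by
    by_contra hkM
    obtain ⟨f, hf⟩ := exists_param hw
    have hsurj : Function.Surjective fun b : B' => f (φ b) := by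
      refine ((Nat.bijective_iff_injective_and_card _).2 ⟨fun a b h => ?_, ?_⟩).2
      · exact Subtype.ext (φ.injective (hf _ _ (hBfix a a.2 t₀ ht₀) (hBfix b b.2 t₀ ht₀) h))
      · rw [← hcardF, Nat.card_eq_fintype_card]
    have hconj : B'.map (MulAut.conj k).toMonoidHom ≤ B' := by
      rintro _ ⟨b, hb, rfl⟩
      obtain ⟨c, hc⟩ := hsurj (f (φ (k * b * k⁻¹)))
      have hfixed : (φ (k * b * k⁻¹)).1 *ᵥ w = w := by
        have hginv : (g⁻¹).1 *ᵥ w = ((ζ⁻¹ : Fˣ) : F) • w := by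
          have h1 : (g⁻¹).1 *ᵥ (g.1 *ᵥ w) = w := by
            rw [mulVec_mulVec, ← Matrix.SpecialLinearGroup.coe_mul, inv_mul_cancel]; simp
          rw [hgw, mulVec_smul] at h1
          conv_rhs => rw [← h1]
          rw [smul_smul]; simp
        rw [map_mul, map_mul, map_inv, hφk, Matrix.SpecialLinearGroup.coe_mul,
          Matrix.SpecialLinearGroup.coe_mul, ← mulVec_mulVec, ← mulVec_mulVec, hginv, mulVec_smul,
          hBfix b hb t₀ ht₀, mulVec_smul, hgw, smul_smul]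
        simp
      have := φ.injective (hf _ _ (hBfix c c.2 t₀ ht₀) hfixed hc)
      show k * b * k⁻¹ ∈ B'
      rw [← this]; exact c.2
    have := hgenL k hkM
    rw [eq_of_le_of_card_ge hconj (card_conj B' k).ge, sup_idem] at this
    exact hL₀ne (top_le_iff.1 (this ▸ hB'L₀))
  have hζ1 : (ζ : F) ≠ 1 := by
    intro h
    have hζ' : ζ = 1 := Units.ext h
    have hsub : Fintype.card Fˣ ≤ 1 := Fintype.card_le_one_iff.2 fun a b => by
      have ha := hζ a
      have hb := hζ b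
      rw [hζ', zpowers_one_eq_bot, mem_bot] at ha hb
      rw [ha, hb]
    rw [Fintype.card_units, hcardF, hcardB] at hsub
    obtain ⟨n, hn⟩ := IsPGroup.iff_card.1 hB.pgroup
    have hne1 : Nat.card B ≠ 1 := fun e => hB.ne_bot (eq_bot_of_card_eq B e)
    rw [hn] at hsub hne1
    have hn0 : n ≠ 0 := fun e => hne1 (by rw [e, pow_zero])
    have h3 : 3 ≤ p := lt_of_le_of_ne (Fact.out : p.Prime).two_le (Ne.symm hp)
    have := h3.trans (Nat.le_self_pow hn0 p)
    omega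
  -- the line and its image under `k - 1`
  let Cw : AddSubgroup V :=
    { carrier := {v | ∃ r : F, ψ v = r • w}
      zero_mem' := ⟨0, by simp⟩
      add_mem' := fun {a b} ha hb => by
        obtain ⟨r, hr⟩ := ha
        obtain ⟨s, hs⟩ := hb
        exact ⟨r + s, by rw [map_add, hr, hs, add_smul]⟩
      neg_mem' := fun {a} ha => by
        obtain ⟨r, hr⟩ := ha
        exact ⟨-r, by rw [map_neg, hr, neg_smul]⟩ }
  have hscale : ∀ (v : V) (r : F), ψ v = r • w → ∀ i : ℕ,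
      ψ (σL (k ^ i) v) = (r * (ζ : F) ^ i) • w := by
    intro v r hr i
    induction i with
    | zero => simpa [apply_one] using hr
    | succ i ih =>
      rw [pow_succ', apply_mul, hψe, ih, hφk, mulVec_smul, hgw, smul_smul, pow_succ, mul_assoc]
  let d : V →+ V := AddMonoidHom.mk' (fun v => σL k v - v) fun a b => by rw [map_add]; abel
  have hd : ∀ v, d v = σL k v - v := fun v => rfl
  set Y := Cw.map d with hY
  refine ⟨k, hkM, ?_, ⟨t₀, ht₀, fun h => ?_⟩, Y, ?_, ?_⟩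
  · obtain ⟨n, hn⟩ := IsPGroup.iff_card.1 hB.pgroup
    have hdvd : orderOf (k : G) ∣ Fintype.card F - 1 := by
      rw [orderOf_coe]
      refine orderOf_dvd_of_pow_eq_one (φ.injective ?_)
      rw [map_pow, hφk, hg, map_one]
    have hn0 : n ≠ 0 := fun e => hB.ne_bot (eq_bot_of_card_eq B (by rw [hn, e, pow_zero]))
    rw [hcardF, hcardB, hn] at hdvd
    refine Nat.Coprime.coprime_dvd_left hdvd ?_
    rw [Nat.coprime_comm, (Fact.out : p.Prime).coprime_iff_not_dvd]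
    intro h
    have h1 : p ∣ p ^ n := dvd_pow_self p hn0
    have h2 := Nat.dvd_sub h1 h
    rw [Nat.sub_sub_self (Nat.one_le_pow _ _ (Fact.out : p.Prime).pos)] at h2
    exact (Fact.out : p.Prime).not_dvd_one h2
  · have h1 := hscale t₀ 1 (one_smul F w).symm 1
    rw [pow_one, pow_one, show σL k t₀ = t₀ from h, one_mul] at h1
    have h2 : ((ζ : F) - 1) • w = 0 := by rw [sub_smul, one_smul, ← h1, sub_self]
    exact hw ((smul_eq_zero.1 h2).resolve_left (sub_ne_zero.2 hζ1))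
  · intro t ht i
    induction i with
    | zero => simp [apply_one]
    | succ i ih =>
      obtain ⟨r, hr⟩ := hline t ht
      have hcw : σL (k ^ i) t ∈ Cw := ⟨_, hscale t r hr i⟩
      have e : σ ((k : G) ^ (i + 1)) t - t = d (σL (k ^ i) t) + (σ ((k : G) ^ i) t - t) := by
        rw [hd, pow_succ', apply_mul]
        show _ = σ (k : G) (σ ((k : G) ^ i) t) - σ ((k : G) ^ i) t + _
        abel
      rw [e]
      exact Y.add_mem ⟨_, hcw, rfl⟩ ih
  · rintro _ ⟨u, ⟨r, hr⟩, rfl⟩ _ ⟨u', ⟨r', hr'⟩, rfl⟩ ha hb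
    have hψd : ∀ (u : V) (r : F), ψ u = r • w → ψ (d u) = (r * ((ζ : F) - 1)) • w := by
      intro u r hr
      have h1 := hscale u r hr 1
      rw [pow_one, pow_one] at h1
      rw [hd, map_sub, h1, hr, ← sub_smul, mul_sub, mul_one]
    have hne : ∀ (u : V) (r : F), ψ u = r • w → d u ≠ 0 → r ≠ 0 := by
      rintro u r hr hdu rfl
      rw [zero_smul] at hr
      exact hdu (by rw [hd, (hψ0 u).1 hr k (mem_top _), sub_self])
    have hr0 := hne u r hr ha
    have hr'0 := hne u' r' hr' hb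
    obtain ⟨i, hi⟩ := (mem_powers_iff_mem_zpowers).2
      (hζ (Units.mk0 r' hr'0 * (Units.mk0 r hr0)⁻¹))
    refine ⟨i, ?_⟩
    have hi' : (ζ : F) ^ i = r' * r⁻¹ := by
      simpa using congrArg Units.val hi
    -- compare on the line
    have hcomm : σL (k ^ i) (d u) = d (σL (k ^ i) u) := by
      rw [hd, hd, map_sub, ← apply_mul, ← apply_mul, ← pow_succ, ← pow_succ']
    have h1 : σL (k ^ i) u - u' ∈ fix σL ⊤ := by
      refine (hψ0 _).1 ?_
      rw [map_sub, hscale u r hr i, hr', hi', ← sub_smul, mul_comm r' r⁻¹, ← mul_assoc,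
        mul_inv_cancel₀ hr0, one_mul, sub_self, zero_smul]
    show σ ((k : G) ^ i) (d u) = d u'
    have h2 : d (σL (k ^ i) u - u') = 0 := by rw [hd, h1 k (mem_top _), sub_self]
    rw [map_sub, sub_eq_zero, ← hcomm] at h2
    exact h2

end CfsgLib.WeakClosed.Torus
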