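import Cfsg.Agent.Fusion.NormalizerSaturated
import Cfsg.Agent.Fusion.ModelExist

/-!
Normalizer systems: membership, the normal subgroup `U`, centric subgroups above `U`, models.
-/

set_option autoImplicit false

universe u

namespace CfsgLib.WeakClosed

open Cfsg Cfsg.FusionSystem CfsgLib.Fusion

variable {Ω : Type*} [Group Ω] {S U : Subgroup Ω} {F : FusionSystem S} {p : ℕ}
variable {E : FusionSystem (normalizerIn S U)}

theorem normSystem_le (hE : F.IsNormalizerSystem U E) (P : Subgroup Ω) : E.Hom P ⊆ F.Hom P :=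
  fun φ hφ => ((hE P) ▸ hφ : φ ∈ F.normalizerHom U P).1

theorem mem_normSystem (hE : F.IsNormalizerSystem U E) {D : Subgroup Ω} {φ : D →* Ω}
    (hφ : φ ∈ F.Hom D) (hUD : U ≤ D) (hD : D ≤ normalizerIn S U)
    (hval : ∀ x, φ x ∈ normalizerIn S U) (himg : imgHom φ U = U) : φ ∈ E.Hom D := by
  rw [hE D]
  refine ⟨hφ, hD, hval, restrictHom φ (sup_le le_rfl hUD), restrict_mem hφ _, fun x => rfl, ?_⟩
  refine le_antisymm ?_ fun y hy => ?_
  · rintro _ ⟨x, hx, rfl⟩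
    exact himg.le ⟨⟨x, hUD hx⟩, hx, rfl⟩
  · obtain ⟨x, hx, rfl⟩ := himg.ge hy
    exact ⟨⟨x, Subgroup.mem_sup_right hx⟩, hx, rfl⟩

theorem normSystem_ext (hE : F.IsNormalizerSystem U E) {P : Subgroup Ω} {φ : P →* Ω}
    (hφ : φ ∈ E.Hom P) :
    ∃ ω ∈ F.Hom (P ⊔ U), (∀ x : P, ω (Subgroup.inclusion le_sup_left x) = φ x) ∧
      imgHom ω U = U :=
  ((hE P) ▸ hφ : φ ∈ F.normalizerHom U P).2.2.2

theorem normSystem_img (hE : F.IsNormalizerSystem U E) {P : Subgroup Ω} {φ : P →* Ω}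
    (hφ : φ ∈ E.Hom P) (hUP : U ≤ P) : imgHom φ U = U := by
  obtain ⟨ω, -, hωP, hωU⟩ := normSystem_ext hE hφ
  refine Eq.trans ?_ hωU
  ext y
  constructor
  · rintro ⟨x, hx, rfl⟩
    exact ⟨Subgroup.inclusion le_sup_left x, hx, hωP x⟩
  · rintro ⟨x, hx, rfl⟩
    exact ⟨⟨x, hUP hx⟩, hx, (hωP ⟨x, hUP hx⟩).symm⟩

theorem normSystem_isNormal (hU : U ≤ S) (hE : F.IsNormalizerSystem U E) : E.IsNormal U := by
  refine ⟨le_normalizerIn hU, fun P φ hφ => ?_⟩
  obtain ⟨ω, hω, hωP, hωU⟩ := normSystem_ext hE hφ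
  refine ⟨ω, mem_normSystem hE hω le_sup_right (sup_le (le_left hφ) (le_normalizerIn hU))
    (fun x => ?_) hωU, hωP, hωU⟩
  have hx : ω x ∈ φ.range ⊔ U := range_extension hωP hωU ▸ ⟨x, rfl⟩
  refine sup_le ?_ (le_normalizerIn hU) hx
  rintro _ ⟨y, rfl⟩
  exact apply_mem hφ y

theorem normSystem_isCentric [Finite S] (hUc : F.IsCentric U) (hE : F.IsNormalizerSystem U E) :
    E.IsCentric U := by
  refine ⟨le_normalizerIn hUc.1, fun Q ⟨φ, hφ, hr⟩ => ?_⟩
  have h1 : Q = U := by rw [← hr, ← imgHom_self]; exact normSystem_img hE hφ le_rfl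
  rw [h1]
  exact (inf_le_inf_right _ (normalizerIn_le S U)).trans (centralizerIn_le_of_centric hUc)

/-- Above `U`, a subgroup centric in `N_F(U)` is centric in `F`. -/
theorem isCentric_sup [Finite S] [Fact p.Prime] (hS : IsPGroup p S) (hF : F.IsSaturated p)
    (hU : F.IsFullyNormalized U) (hE : F.IsNormalizerSystem U E) {T : Subgroup Ω}
    (hT : E.IsCentric T) : F.IsCentric (T ⊔ U) := by
  obtain ⟨hUa, hUr⟩ := automized_receptive hS hF hU
  have hTR := hT.1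
  have hYR : T ⊔ U ≤ normalizerIn S U := sup_le hTR (le_normalizerIn hU.1)
  refine ⟨hYR.trans (normalizerIn_le S U), ?_⟩
  rintro Y' ⟨φ, hφ, rfl⟩
  set U' := imgHom φ U with hU'
  have hconj : F.IsConj U' U :=
    isConj_symm ((isConj_restrict hφ le_sup_right : F.IsConj U U'))
  have hU'Y : U' ≤ φ.range := imgHom_le_range φ U
  have hYN : φ.range ≤ normalizerIn S U' := by
    rintro _ ⟨x, rfl⟩
    refine Subgroup.mem_inf.2 ⟨apply_mem hφ x, Subgroup.mem_normalizer_iff.2 fun y => ⟨?_, ?_⟩⟩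
    · rintro ⟨z, hz, rfl⟩
      refine ⟨x * z * x⁻¹, ?_, by simp⟩
      exact (Subgroup.mem_normalizer_iff.1 (Subgroup.mem_inf.1 (hYR x.2)).2 (z : Ω)).1 hz
    · rintro ⟨z, hz, hzy⟩
      refine ⟨x⁻¹ * z * x, ?_, by simp [hzy, mul_assoc]⟩
      exact (Subgroup.mem_normalizer_iff''.1 (Subgroup.mem_inf.1 (hYR x.2)).2 (z : Ω)).1 hz
  obtain ⟨χ, hχ, hχN, hχU⟩ := exists_map_normalizerIn hS hUa hUr hconj
  obtain ⟨e, he, heφ⟩ := exists_iso_range hφ
  let θ : ↥(T ⊔ U) →* Ω := (restrictHom χ hYN).comp e.toMonoidHom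
  have hθF : θ ∈ F.Hom (T ⊔ U) := he.comp_hom (restrict_mem hχ hYN)
  have hθv : ∀ x, θ x = χ ⟨φ x, hYN ⟨x, rfl⟩⟩ := fun x => by
    show χ (Subgroup.inclusion hYN (e x)) = _
    exact congrArg χ (Subtype.ext (heφ x))
  have hθE : θ ∈ E.Hom (T ⊔ U) := by
    refine mem_normSystem hE hθF le_sup_right hYR (fun x => by rw [hθv]; exact hχN _) ?_
    ext y
    constructor
    · rintro ⟨x, hx, rfl⟩
      rw [hθv]
      exact hχU.le ⟨⟨φ x, hYN ⟨x, rfl⟩⟩, apply_mem_imgHom φ hx, rfl⟩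
    · intro hy
      obtain ⟨z, hz, rfl⟩ := hχU.ge hy
      obtain ⟨x, hx, hxz⟩ := mem_imgHom.1 (show (z : Ω) ∈ imgHom φ U from hz)
      exact ⟨x, hx, by rw [hθv]; exact congrArg χ (Subtype.ext hxz)⟩
  set T₁ := (restrictHom θ (le_sup_left : T ≤ T ⊔ U)).range with hT₁
  have hT₁c : centralizerIn (normalizerIn S U) T₁ ≤ T₁ :=
    hT.2 T₁ ⟨_, restrict_mem hθE le_sup_left, rfl⟩
  intro c hc
  obtain ⟨hcS, hcc⟩ := mem_centralizerIn'.1 hc
  have hcN : c ∈ normalizerIn S U' := centralizerIn_le_normalizerIn S U'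
    (mem_centralizerIn'.2 ⟨hcS, fun y hy => hcc y (hU'Y hy)⟩)
  have hmem : χ ⟨c, hcN⟩ ∈ T₁ := by
    refine hT₁c (mem_centralizerIn'.2 ⟨hχN _, ?_⟩)
    rintro _ ⟨x, rfl⟩
    rw [restrictHom_apply, hθv, ← map_inv, ← map_mul, ← map_mul]
    exact congrArg χ (Subtype.ext (hcc _ ⟨_, rfl⟩))
  obtain ⟨x, hx⟩ := hmem
  rw [restrictHom_apply, hθv] at hx
  have := congrArg Subtype.val (F.injective_of_mem hχ hx)
  exact ⟨_, this⟩

/-- The normalizer system of a fully normalized centric subgroup has a model. -/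
theorem exists_model_normalizer {Ω : Type u} [Group Ω] {S Q : Subgroup Ω} {F : FusionSystem S}
    [Finite S] [Fact p.Prime] (hS : IsPGroup p S) (hF : F.IsSaturated p)
    (hQ : F.IsFullyNormalized Q) (hQc : F.IsCentric Q) {N : FusionSystem (normalizerIn S Q)}
    (hN : F.IsNormalizerSystem Q N) :
    ∃ (L : Type u) (_ : Group L) (ι : ↥(normalizerIn S Q) →* L), N.IsModel p L ι := by
  haveI := finite_of_le (normalizerIn_le S Q)
  exact exists_model (hS.to_le (normalizerIn_le S Q)) (isSaturated_normalizerSystem hS hF hQ hN)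
    (normSystem_isNormal hQ.1 hN) (normSystem_isCentric hQc hN)

end CfsgLib.WeakClosed
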