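import Cfsg.Agent.S2759
import Cfsg.Agent.Small.BaerSuzuki
import Cfsg.Agent.Small.Dihedral
import Cfsg.Agent.PLocal.CommutatorFacts

/-!
A transvection on an abelian normal `2`-subgroup `V` outside `O₂` of `X/C(V)` produces a section
isomorphic to the symmetric group of degree 4.
-/

set_option autoImplicit false

namespace CfsgLib.WeakClosed

open Cfsg Subgroup

/-- `D₆ ≅ S₃`, as a surjection. -/
def dihedralToPerm : DihedralGroup 3 →* Equiv.Perm (Fin 3) :=
  MonoidHom.mk' (fun d => match d with
    | .r i => finRotate 3 ^ i.val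
    | .sr i => Equiv.swap 0 1 * finRotate 3 ^ i.val) (by decide +kernel)

theorem dihedralToPerm_surjective : Function.Surjective dihedralToPerm := by
  unfold Function.Surjective; decide +kernel

variable {X : Type*} [Group X] [Finite X]

theorem involves_s4_of_transvection (V : Subgroup X) [V.Normal] (hV : IsPGroup 2 V)
    (hVab : ∀ u ∈ V, ∀ w ∈ V, u * w = w * u) {a : X}
    (haC : a ∉ centralizer (V : Set X)) (ha2 : a ^ 2 ∈ centralizer (V : Set X))
    (hcard : Nat.card V ≤ 2 * Nat.card ↥(V ⊓ centralizer ({a} : Set X)))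
    (hO : ∀ N : Subgroup (X ⧸ centralizer (V : Set X)), N.Normal → IsPGroup 2 N → N = ⊥) :
    Involves (Equiv.Perm (Fin 4)) X := by
  classical
  let C : Subgroup X := centralizer (V : Set X)
  let q : X →* X ⧸ C := QuotientGroup.mk' C
  have hq1 : ∀ y, q y = 1 ↔ y ∈ C := fun y => QuotientGroup.eq_one_iff y
  have haq : orderOf (q a) = 2 := Small.orderOf_eq_two_iff_sq.2
    ⟨fun h => haC ((hq1 a).1 h), by rw [← map_mul, ← sq]; exact (hq1 _).2 ha2⟩
  -- a conjugate generating a non-`2`-group
  obtain ⟨g', hg'⟩ : ∃ g', ¬ IsPGroup 2 ↥(closure ({q a, g' * q a * g'⁻¹} : Set (X ⧸ C))) := by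
    by_contra h
    push Not at h
    obtain ⟨N, hN, hN2, ha⟩ := Small.baerSuzuki_elem (p := 2) (q a) h
    rw [hO N hN hN2, mem_bot] at ha
    exact Small.ne_one_of_orderOf_two haq ha
  obtain ⟨g, rfl⟩ := QuotientGroup.mk'_surjective C g'
  set b := g * a * g⁻¹ with hb
  have hqb : q b = q g * q a * (q g)⁻¹ := by simp [hb]
  have hbq : orderOf (q b) = 2 := by rw [hqb, Small.orderOf_conj_eq, haq]
  have hne : q a ≠ q b := by
    intro h
    apply hg'
    rw [← hqb, ← h, Set.pair_eq_singleton, ← zpowers_eq_closure]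
    exact IsPGroup.of_card (n := 1) (by rw [Nat.card_zpowers, haq, pow_one])
  set t := q a * q b with ht
  have hord : ∃ r, r.Prime ∧ r ∣ orderOf t ∧ r ≠ 2 := by
    by_contra h
    push Not at h
    apply hg'
    obtain ⟨k, hk⟩ : ∃ k, orderOf t = 2 ^ k :=
      ⟨_, Nat.eq_prime_pow_of_unique_prime_dvd (orderOf_pos t).ne' fun hd hdvd => h _ hd hdvd⟩
    refine IsPGroup.of_card (n := k + 1) ?_
    rw [← hqb, Small.card_closure_pair_invol haq hbq hne, ← ht, hk, pow_succ, mul_comm]
  obtain ⟨r, hr, hrdvd, hr2⟩ := hord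
  set k := (a * b) ^ (orderOf t / r) with hk
  have hqk : q k = t ^ (orderOf t / r) := by rw [hk, map_pow, map_mul]
  have hkord : orderOf (q k) = r := by
    rw [hqk, orderOf_pow_of_dvd]
    · exact Nat.div_div_self hrdvd (orderOf_pos t).ne'
    · exact fun h0 => by
        have := Nat.div_mul_cancel hrdvd
        rw [h0, zero_mul] at this
        exact (orderOf_pos t).ne this
    · exact Nat.div_dvd_of_dvd hrdvd
  have hkinv : q a * q k * (q a)⁻¹ = (q k)⁻¹ := by
    rw [hqk]; exact Small.invol_conj_pow (Small.invol_conj_mul haq hbq) _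
  haveI := Fact.mk hr
  by_cases hr3 : r = 3
  · subst hr3
    have h3 : Involves (DihedralGroup 3) (X ⧸ C) :=
      LocalEven.involves_dihedral_of_inverted (p := 3) (by decide) hkord ⟨1, by rw [haq, pow_one]⟩
        hkinv
    obtain ⟨K, f, hf⟩ := LocalEven.exists_surjective_of_involves' h3
    have hS3 : Involves (Equiv.Perm (Fin 3)) (X ⧸ C) :=
      LocalEven.involves_of_surjective K (dihedralToPerm.comp f) (dihedralToPerm_surjective.comp hf)
    refine Cfsg.Agent.S2759.sufficiency V hV ?_
    set N := normalizer (V : Set X) with hN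
    have hNtop : N = ⊤ := normalizer_eq_top V
    haveI : (C.subgroupOf N).Normal := inferInstance
    let e : X →* ↥N := MonoidHom.id X |>.codRestrict N fun x => by rw [hNtop]; exact mem_top x
    let π : ↥N ⧸ C.subgroupOf N →* X ⧸ C :=
      QuotientGroup.map _ _ N.subtype le_rfl
    refine LocalEven.involves_of_hom ⊤ (π.comp (⊤ : Subgroup _).subtype) ?_ hS3
    intro y
    obtain ⟨y, rfl⟩ := QuotientGroup.mk'_surjective C y
    exact ⟨⟨QuotientGroup.mk' _ (e y), mem_top _⟩, rfl⟩
  · exfalso
    have hr5 : 5 ≤ r := by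
      have h4 : r ≠ 4 := fun h => by subst h; exact absurd hr (by decide)
      have := hr.two_le
      omega
    have hkC : k ∉ C := fun h => by
      rw [(hq1 k).2 h, orderOf_one] at hkord
      exact hr.one_lt.ne hkord
    -- `U = C_V(k)` has index at most 4
    set C₁ := V ⊓ centralizer ({a} : Set X) with hC₁
    set C₂ := V ⊓ centralizer ({b} : Set X) with hC₂
    set U := V ⊓ centralizer ({k} : Set X) with hU
    have hmap : C₁.map (MulAut.conj g).toMonoidHom ≤ C₂ := by
      rintro _ ⟨v, hv, rfl⟩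
      refine mem_inf.2 ⟨(inferInstance : V.Normal).conj_mem v hv.1 g, ?_⟩
      rw [mem_centralizer_singleton_iff]
      have h1 := mem_centralizer_singleton_iff.1 hv.2
      show g * v * g⁻¹ * (g * a * g⁻¹) = g * a * g⁻¹ * (g * v * g⁻¹)
      calc g * v * g⁻¹ * (g * a * g⁻¹) = g * (v * a) * g⁻¹ := by group
        _ = g * (a * v) * g⁻¹ := by rw [h1]
        _ = _ := by group
    have hc12 : Nat.card C₁ ≤ Nat.card C₂ := by
      rw [← card_map_of_injective (f := (MulAut.conj g).toMonoidHom) (MulAut.conj g).injective]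
      exact card_le_of_le hmap
    have hW : C₁ ⊓ C₂ ≤ U := by
      intro v hv
      refine mem_inf.2 ⟨hv.1.1, mem_centralizer_singleton_iff.2 ?_⟩
      exact ((Commute.mul_right (show Commute v a from mem_centralizer_singleton_iff.1 hv.1.2)
        (show Commute v b from mem_centralizer_singleton_iff.1 hv.2.2)).pow_right _).eq
    have h4 : Nat.card V ≤ 4 * Nat.card U := by
      have hVc : C₁ ≤ normalizer (C₂ : Set X) := by
        intro x hx
        refine mem_normalizer_iff.2 fun y => ⟨fun hy => ?_, fun hy => ?_⟩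
        · rwa [hVab x hx.1 y hy.1, mul_inv_cancel_right]
        · have hy' : y ∈ V := by
            simpa [mul_assoc] using (inferInstance : V.Normal).conj_mem _ hy.1 x⁻¹
          rwa [hVab x hx.1 y hy', mul_inv_cancel_right] at hy
      have h1 := PLocal.card_sup_mul_card_inf hVc
      have h2 : Nat.card ↥(C₁ ⊔ C₂) ≤ Nat.card V := card_le_of_le (sup_le inf_le_left inf_le_left)
      have h3 : Nat.card ↥(C₁ ⊓ C₂) ≤ Nat.card U := card_le_of_le hW
      refine Nat.le_of_mul_le_mul_left ?_ (Nat.card_pos (α := ↥V))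
      calc Nat.card V * Nat.card V ≤ (2 * Nat.card C₁) * (2 * Nat.card C₂) :=
            Nat.mul_le_mul hcard (hcard.trans (by omega))
        _ = 4 * (Nat.card ↥(C₁ ⊔ C₂) * Nat.card ↥(C₁ ⊓ C₂)) := by rw [h1]; ring
        _ ≤ 4 * (Nat.card V * Nat.card U) := Nat.mul_le_mul_left _ (Nat.mul_le_mul h2 h3)
        _ = Nat.card V * (4 * Nat.card U) := by ring
    have hidx : Nat.card (V ⧸ U.subgroupOf V) ≤ 4 := by
      have h1 := card_mul_index (U.subgroupOf V)
      rw [Nat.card_congr (subgroupOfEquivOfLe (inf_le_left : U ≤ V)).toEquiv] at h1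
      refine Nat.le_of_mul_le_mul_left ?_ (Nat.card_pos (α := ↥U))
      show Nat.card U * (U.subgroupOf V).index ≤ _
      rw [h1, mul_comm]; exact h4
    -- the permutation induced by `k`
    let c : V ≃* V := MulAut.conjNormal k
    have hcv : ∀ v : V, (c v : X) = k * v * k⁻¹ := fun v => MulAut.conjNormal_apply k v
    have hfix : ∀ u : V, u ∈ U.subgroupOf V → c u = u := fun u hu => Subtype.ext (by
      rw [hcv, ← mem_centralizer_singleton_iff.1 (mem_subgroupOf.1 hu).2, mul_inv_cancel_right])
    have hfix' : ∀ u : V, c u = u → u ∈ U.subgroupOf V := fun u hu => mem_subgroupOf.2 ⟨u.2,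
      mem_centralizer_singleton_iff.2 (by
        have := congrArg Subtype.val hu
        rw [hcv, mul_inv_eq_iff_eq_mul] at this
        exact this.symm)⟩
    let σ₀ : V ⧸ U.subgroupOf V → V ⧸ U.subgroupOf V :=
      Quotient.map' c fun u v huv => by
        rw [QuotientGroup.leftRel_apply] at huv ⊢
        rw [← map_inv, ← map_mul, hfix _ huv]
        exact huv
    have hσ : ∀ v : V, σ₀ (v : V ⧸ U.subgroupOf V) = ((c v : V) : V ⧸ U.subgroupOf V) :=
      fun v => rfl
    have hiter : ∀ (i : ℕ) (v : V), ((c ^ i) v : X) = k ^ i * v * (k ^ i)⁻¹ := fun i v => by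
      rw [show c ^ i = MulAut.conjNormal (k ^ i) from (map_pow _ k i).symm, MulAut.conjNormal_apply]
    have hcr : c ^ r = 1 := by
      ext v
      rw [hiter, MulAut.one_apply]
      have : k ^ r ∈ C := (hq1 _).1 (by rw [map_pow, ← hkord, pow_orderOf_eq_one])
      rw [← mem_centralizer_iff.1 this v v.2, mul_inv_cancel_right]
    have hσi : ∀ (i : ℕ) (v : V), σ₀^[i] (v : V ⧸ U.subgroupOf V) = (((c ^ i) v : V) :
        V ⧸ U.subgroupOf V) := by
      intro i
      induction i with
      | zero => intro v; rfl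
      | succ i ih => intro v; rw [Function.iterate_succ_apply, hσ, ih, pow_succ, MulAut.mul_apply]
    have hσr : σ₀^[r] = id := by
      funext x
      induction x using QuotientGroup.induction_on with
      | H v => rw [hσi, hcr]; rfl
    let σ : Equiv.Perm (V ⧸ U.subgroupOf V) :=
      ⟨σ₀, σ₀^[r - 1], fun x => by
        rw [← Function.iterate_succ_apply, show (r - 1).succ = r by omega, hσr]; rfl,
       fun x => by
        rw [← Function.iterate_succ_apply' σ₀, show (r - 1).succ = r by omega, hσr]; rfl⟩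
    have hσ1 : σ = 1 := by
      have h1 : σ ^ r = 1 := Equiv.ext fun x => by
        rw [Equiv.Perm.coe_pow]; exact congrFun hσr x
      rcases (Nat.dvd_prime hr).1 (orderOf_dvd_of_pow_eq_one h1) with h | h
      · exact orderOf_eq_one_iff.1 h
      · exfalso
        haveI : Fintype (V ⧸ U.subgroupOf V) := Fintype.ofFinite _
        have h2 : orderOf σ ∣ Nat.card (Equiv.Perm (V ⧸ U.subgroupOf V)) := orderOf_dvd_natCard σ
        rw [Nat.card_perm, h] at h2
        have := (Nat.Prime.dvd_factorial hr).1 h2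
        omega
    obtain ⟨v, hv⟩ : ∃ v : V, c v ≠ v := by
      by_contra h
      push Not at h
      exact hkC (mem_centralizer_iff.2 fun v hv =>
        (mem_centralizer_singleton_iff.1 (mem_subgroupOf.1 (hfix' ⟨v, hv⟩ (h _))).2))
    set u := v⁻¹ * c v with hu
    have huU : u ∈ U.subgroupOf V := QuotientGroup.eq.1 (by
      rw [← hσ]; exact (congrFun (congrArg DFunLike.coe hσ1) _).symm)
    have hpow : ∀ i : ℕ, (c ^ i) v = v * u ^ i := by
      intro i
      induction i with
      | zero => simp
      | succ i ih =>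
        rw [pow_succ', MulAut.mul_apply, ih, map_mul, map_pow, hfix u huU,
          show c v = v * u by rw [hu, mul_inv_cancel_left], mul_assoc, pow_succ']
    have hur : u ^ r = 1 := by
      have h := hpow r
      rw [hcr, MulAut.one_apply] at h
      exact mul_left_cancel (h.symm.trans (mul_one v).symm)
    obtain ⟨j, hj⟩ := hV u
    have h1 : orderOf u ∣ Nat.gcd r (2 ^ j) :=
      Nat.dvd_gcd (orderOf_dvd_of_pow_eq_one hur) (orderOf_dvd_of_pow_eq_one hj)
    rw [show Nat.gcd r (2 ^ j) = 1 from ((Nat.coprime_primes hr Nat.prime_two).2 hr2).pow_right j,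
      Nat.dvd_one, orderOf_eq_one_iff, hu, inv_mul_eq_one] at h1
    exact hv h1.symm

end CfsgLib.WeakClosed
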