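import Cfsg.Agent.WeakClosed.Group
import Cfsg.Agent.Coprime.PTimesQ

/-!
Constrained groups in which the elements of order prime to `p` normalising a characteristic
subgroup of a Sylow `p`-subgroup centralise it are `p`-groups (`p` odd or `S₄`-free).
-/

set_option autoImplicit false

universe u

namespace CfsgLib.WeakClosed

open Cfsg Subgroup

variable {p : ℕ} [Fact p.Prime]

/-- `p'`-elements normalising a characteristic subgroup of `P` centralise it. -/
def CharCentral (p : ℕ) {X : Type u} [Group X] (P : Subgroup X) : Prop :=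
  ∀ W : Subgroup X, W ≤ P → (W.subgroupOf P).Characteristic →
    ∀ g ∈ normalizer (W : Set X), (orderOf g).Coprime p → g ∈ centralizer (W : Set X)

theorem eq_one_of_coprime_of_mem {X : Type u} [Group X] {N : Subgroup X}
    (hN : IsPGroup p N) {g : X} (hg : g ∈ N) (hgp : (orderOf g).Coprime p) : g = 1 := by
  obtain ⟨k, hk⟩ := hN ⟨g, hg⟩
  have := Nat.eq_one_of_dvd_coprimes (hgp.pow_right k) dvd_rfl
    (orderOf_dvd_of_pow_eq_one (congrArg Subtype.val hk))
  exact orderOf_eq_one_iff.1 this

theorem isPGroup_of_coprime_eq_one {X : Type u} [Group X] [Finite X]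
    (h : ∀ g : X, (orderOf g).Coprime p → g = 1) : IsPGroup p X :=
  IsPGroup.of_card (n := (Nat.card X).primeFactorsList.length)
    (Nat.eq_prime_pow_of_unique_prime_dvd Nat.card_pos.ne' fun {r} hr hrd => by
      haveI := Fact.mk hr
      obtain ⟨g, hg⟩ := exists_prime_orderOf_dvd_card' r hrd
      by_contra hne
      have := h g (hg ▸ (Nat.coprime_primes hr (Fact.out : p.Prime)).2 hne)
      rw [this, orderOf_one] at hg
      exact hr.one_lt.ne hg)

theorem CharCentral.subgroup {X : Type u} [Group X] {P H : Subgroup X}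
    (h : CharCentral p P) (hPH : P ≤ H) : CharCentral p (P.subgroupOf H) := by
  intro W hW hWc g hg hgp
  have hWP : W.map H.subtype ≤ P := fun x ⟨y, hy, e⟩ => e ▸ mem_subgroupOf.1 (hW hy)
  have hchar : ((W.map H.subtype).subgroupOf P).Characteristic := by
    refine characteristic_iff_le_comap.2 fun α w hw => ?_
    let e : ↥(P.subgroupOf H) ≃* ↥P := subgroupOfEquivOfLe hPH
    obtain ⟨y, hy, hyw⟩ := hw
    have hy' : e.symm w ∈ W.subgroupOf (P.subgroupOf H) := by
      rw [mem_subgroupOf, show ((e.symm w : ↥(P.subgroupOf H)) : H) = y from Subtype.ext hyw.symm]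
      exact hy
    have := characteristic_iff_le_comap.1 hWc (e.trans (α.trans e.symm)) hy'
    refine ⟨_, mem_subgroupOf.1 this, ?_⟩
    show ((e.symm (α (e (e.symm w))) : ↥(P.subgroupOf H)) : X) = _
    rw [e.apply_symm_apply]
    rfl
  have hc := h _ hWP hchar (g : X) (le_normalizer_map H.subtype ⟨g, hg, rfl⟩)
    (by rwa [orderOf_coe])
  refine mem_centralizer_iff.2 fun w hw => Subtype.ext ?_
  exact mem_centralizer_iff.1 hc _ ⟨w, hw, rfl⟩

theorem exists_coprime_lift {X Y : Type u} [Group X] [Group Y] [Finite X] (f : X →* Y) {y : Y}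
    (hy : ∃ x, f x = y) (hyp : (orderOf y).Coprime p) :
    ∃ x, f x = y ∧ (orderOf x).Coprime p := by
  obtain ⟨x, rfl⟩ := hy
  set a := p ^ (orderOf x).factorization p
  have hcop : (orderOf (f x)).Coprime a := hyp.pow_right _
  obtain ⟨m, hm⟩ := exists_pow_eq_self_of_coprime (x := f x) hcop.symm
  refine ⟨(x ^ a) ^ m, by rw [map_pow, map_pow]; exact hm, ?_⟩
  refine Nat.Coprime.coprime_dvd_left (orderOf_pow_dvd m) ?_
  rw [orderOf_pow, Nat.gcd_eq_right (Nat.ordProj_dvd _ _)]
  exact (Nat.coprime_ordCompl Fact.out (orderOf_pos x).ne').symm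

theorem centralizer_le_thompson {X : Type u} [Group X] [Finite X] (P : Subgroup X) :
    P ⊓ centralizer (thompsonSubgroupAOf P : Set X) ≤ thompsonSubgroupAOf P := by
  obtain ⟨A, hA⟩ := PLocal.maxAbIn_nonempty P
  intro y hy
  have hAJ := PLocal.le_thompsonSubgroupAOf hA
  have hyA : IsMulCommutative ↥(A ⊔ zpowers y) :=
    PLocal.isMulCommutative_sup hA.2.1 inferInstance fun a ha => mem_centralizer_iff.2 fun z hz => by
      obtain ⟨i, rfl⟩ := mem_zpowers_iff.1 hz
      exact ((show Commute a y from mem_centralizer_iff.1 hy.2 a (hAJ ha)).zpow_right i).symm.eq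
  have heq : A = A ⊔ zpowers y :=
    eq_of_le_of_card_ge le_sup_left (hA.2.2 _ (sup_le hA.1 (zpowers_le.2 hy.1)) hyA)
  exact hAJ (heq ▸ mem_sup_right (mem_zpowers y) : y ∈ A)

theorem thompsonSubgroupAOf_char {X : Type u} [Group X] (P : Subgroup X) :
    ((thompsonSubgroupAOf P).subgroupOf P).Characteristic := by
  show ((thompsonSubgroupA ↥P).map P.subtype |>.subgroupOf P).Characteristic
  rw [subgroupOf, comap_map_eq_self_of_injective P.subtype_injective]
  exact PLocal.thompsonSubgroupACharacteristic ↥P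

theorem sylow_eq_top_of_charCentral {X : Type u} [Group X] [Finite X] (P : Sylow p X)
    (hc : centralizer (pCore p X : Set X) ≤ pCore p X) (hfree : Adequate p X)
    (h : CharCentral p (P : Subgroup X)) : (P : Subgroup X) = ⊤ := by
  suffices H : ∀ (n : ℕ) (X : Type u) [Group X] [Finite X], Nat.card X = n → ∀ (P : Sylow p X),
      centralizer (pCore p X : Set X) ≤ pCore p X → Adequate p X →
      CharCentral p (P : Subgroup X) → (P : Subgroup X) = ⊤ from H _ X rfl P hc hfree h
  intro n
  induction n using Nat.strongRecOn with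
  | ind n ih =>
  intro X _ _ hn P hc hfree h
  set Q := pCore p X with hQ
  have hQP : Q ≤ P := PLocal.pCore_le_sylow P
  -- proper overgroups of `P` equal `P`
  have hover : ∀ H : Subgroup X, (P : Subgroup X) ≤ H → H ≠ ⊤ → H ≤ P := by
    intro H hPH hH
    have hlt : Nat.card H < n := hn ▸ lt_of_le_of_ne (Subgroup.card_le_card_group H)
      fun h' => hH (eq_top_of_card_eq H h')
    have hQH := PLocal.pCore_subgroupOf_le (p := p) H
    have hcH : centralizer (pCore p H : Set H) ≤ pCore p H := fun c hc' =>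
      hQH (mem_subgroupOf.2 (hc (mem_centralizer_iff.2 fun q hq =>
        congrArg Subtype.val (mem_centralizer_iff.1 hc' ⟨q, hPH (hQP hq)⟩ (hQH (mem_subgroupOf.2 hq))))))
    have := ih _ hlt H rfl (P.subtype hPH) hcH
      (hfree.of_involves (ConjFunctor.involves_subgroup H))
      (by rw [Sylow.coe_subtype]; exact h.subgroup hPH)
    rw [Sylow.coe_subtype, subgroupOf_eq_top] at this
    exact this
  set J := thompsonSubgroupAOf (P : Subgroup X) with hJ
  set Z := (P : Subgroup X) ⊓ centralizer ((P : Subgroup X) : Set X) with hZ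
  have hJP : J ≤ P := PLocal.thompsonSubgroupAOf_le _
  by_cases hJn : normalizer (J : Set X) = ⊤
  · -- `J` is normal
    haveI : J.Normal := normalizer_eq_top_iff.1 hJn
    have hp : IsPGroup p X := by
      refine isPGroup_of_coprime_eq_one fun g hg => ?_
      have hgJ : g ∈ centralizer (J : Set X) :=
        h J hJP (thompsonSubgroupAOf_char _) g (hJn ▸ mem_top g) hg
      have hQJ : Q ⊓ centralizer (J : Set X) ≤ J :=
        (inf_le_inf_right _ hQP).trans (centralizer_le_thompson _)
      have hgQ : zpowers g ≤ centralizer (Q : Set X) := by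
        refine Coprime.le_centralizer_of_inf_centralizer_le (P := J) (p := p) (P.isPGroup'.to_le hJP)
          (by rwa [Nat.card_zpowers]) (P.isPGroup'.to_le hQP) ?_ (by rw [normalizer_eq_top]; exact le_top)
          (by rw [normalizer_eq_top]; exact le_top) ?_
        · exact fun j hj => mem_centralizer_iff.2 fun z hz => by
            obtain ⟨i, rfl⟩ := mem_zpowers_iff.1 hz
            exact ((show Commute j g from mem_centralizer_iff.1 hgJ j hj).zpow_right i).symm.eq
        · exact fun y hy => mem_centralizer_iff.2 fun z hz => by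
            obtain ⟨i, rfl⟩ := mem_zpowers_iff.1 hz
            exact ((show Commute y g from mem_centralizer_iff.1 hgJ y (hQJ hy)).zpow_right i).symm.eq
      exact eq_one_of_coprime_of_mem (PLocal.isPGroup_pCore p X) (hc (hgQ (mem_zpowers g))) hg
    obtain ⟨k, hk⟩ := IsPGroup.iff_card.1 hp
    exact eq_top_of_card_eq _ (Nat.dvd_antisymm (card_subgroup_dvd_card _) (by
      rw [hk]
      exact P.pow_dvd_card_of_pow_dvd_card (hk ▸ dvd_rfl)))
  have hPN : (P : Subgroup X) ≤ normalizer (J : Set X) :=
    Subgroup.le_normalizer.trans (PLocal.normalizer_le_normalizer_thompsonSubgroupAOf _)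
  by_cases hZc : centralizer (Z : Set X) ≠ ⊤
  · exact sylow_eq_top_of_thompson P hc hfree (hover _ (fun y hy => mem_centralizer_iff.2
      fun z hz => (mem_centralizer_iff.1 hz.2 y hy).symm) hZc) (hover _ hPN hJn)
  -- `Z(P)` is central
  push Not at hZc
  have hZcen : Z ≤ center X := fun z hz => mem_center_iff.2 fun g =>
    (mem_centralizer_iff.1 (hZc ▸ mem_top g : g ∈ centralizer (Z : Set X)) z hz).symm
  haveI hZn : Z.Normal := ⟨fun z hz g => by
    rw [mem_center_iff.1 (hZcen hz) g, mul_inv_cancel_right]; exact hz⟩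
  rcases eq_or_ne (P : Subgroup X) ⊥ with hP1 | hP1
  · rw [hP1]
    refine eq_top_iff.2 fun g _ => ?_
    have hQ1 : Q = ⊥ := le_bot_iff.1 (hP1 ▸ hQP)
    have : g ∈ Q := hc (mem_centralizer_iff.2 fun y hy => by
      rw [SetLike.mem_coe, hQ1, mem_bot] at hy
      subst hy; simp)
    rwa [hQ1] at this
  haveI : Nontrivial ↥(P : Subgroup X) := nontrivial_iff_ne_bot _ |>.2 hP1
  have hZ1 : Z ≠ ⊥ := by
    have := P.isPGroup'.center_nontrivial
    obtain ⟨c, hc1⟩ := exists_ne (1 : center ↥(P : Subgroup X))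
    intro hbot
    have hmem : ((c : ↥(P : Subgroup X)) : X) ∈ Z := ⟨(c : ↥(P : Subgroup X)).2,
      mem_centralizer_iff.2 fun y hy => congrArg Subtype.val (mem_center_iff.1 c.2 ⟨y, hy⟩)⟩
    rw [hbot, mem_bot] at hmem
    exact hc1 (Subtype.ext (Subtype.ext hmem))
  have hZp : IsPGroup p Z := P.isPGroup'.to_le inf_le_left
  have hZP : Z ≤ (P : Subgroup X) := inf_le_left
  let q : X →* X ⧸ Z := QuotientGroup.mk' Z
  have hqs : Function.Surjective q := QuotientGroup.mk'_surjective Z
  have hq1 : ∀ y, q y = 1 ↔ y ∈ Z := fun y => QuotientGroup.eq_one_iff y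
  let P' : Sylow p (X ⧸ Z) := P.mapSurjective hqs
  have hP' : (P' : Subgroup (X ⧸ Z)) = (P : Subgroup X).map q := rfl
  have hcomap : (P' : Subgroup (X ⧸ Z)).comap q = (P : Subgroup X) := by
    rw [hP', comap_map_eq, QuotientGroup.ker_mk', sup_eq_left.2 hZP]
  have hlt : Nat.card (X ⧸ Z) < n := by
    rw [← hn, card_eq_card_quotient_mul_card_subgroup Z]
    exact lt_mul_of_one_lt_right Nat.card_pos (Finite.one_lt_card_iff_nontrivial.2
      ((nontrivial_iff_ne_bot Z).2 hZ1))
  have hQ' : pCore p (X ⧸ Z) = Q.map q := (PLocal.map_pCore_quotient_eq Z hZp).symm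
  have hcq : centralizer (pCore p (X ⧸ Z) : Set (X ⧸ Z)) ≤ pCore p (X ⧸ Z) := by
    set R := (centralizer (pCore p (X ⧸ Z) : Set (X ⧸ Z))).comap q with hR
    have hRp : IsPGroup p R := isPGroup_of_coprime_eq_one fun r hr => Subtype.ext ?_
    · haveI : R.Normal := (inferInstance : (centralizer (pCore p (X ⧸ Z) : Set (X ⧸ Z))).Normal).comap _
      intro c hc'
      obtain ⟨c, rfl⟩ := hqs c
      exact hQ' ▸ mem_map_of_mem q (PLocal.le_pCore hRp (show c ∈ R from hc'))
    rw [← orderOf_coe] at hr
    refine eq_one_of_coprime_of_mem (PLocal.isPGroup_pCore p X) (hc ?_) hr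
    refine mem_centralizer_iff.2 fun y hy => ?_
    set z := y⁻¹ * ((r : X) * y * (r : X)⁻¹) with hz
    have hzZ : z ∈ Z := by
      have h1 : q y * q r = q r * q y :=
        mem_centralizer_iff.1 r.2 _ (hQ' ▸ mem_map_of_mem q hy)
      rw [← hq1, hz, map_mul, map_inv, map_mul, map_mul, map_inv, ← h1]
      group
    have hzc := mem_center_iff.1 (hZcen hzZ)
    have hiter : ∀ i : ℕ, (r : X) ^ i * y * ((r : X) ^ i)⁻¹ = y * z ^ i := by
      intro i
      induction i with
      | zero => simp
      | succ i ih =>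
        calc (r : X) ^ (i + 1) * y * ((r : X) ^ (i + 1))⁻¹
            = (r : X) * ((r : X) ^ i * y * ((r : X) ^ i)⁻¹) * (r : X)⁻¹ := by rw [pow_succ']; group
          _ = ((r : X) * y * (r : X)⁻¹) * ((r : X) * z ^ i * (r : X)⁻¹) := by rw [ih, conj_mul]
          _ = y * z ^ (i + 1) := by
            rw [← conj_pow, hzc r, mul_inv_cancel_right,
              show (r : X) * y * (r : X)⁻¹ = y * z by rw [hz, mul_inv_cancel_left],
              mul_assoc, ← pow_succ']
    have hz1 : z = 1 := by
      refine eq_one_of_coprime_of_mem hZp hzZ (hr.coprime_dvd_left (orderOf_dvd_of_pow_eq_one ?_))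
      have h2 := hiter (orderOf (r : X))
      rw [pow_orderOf_eq_one, one_mul, inv_one, mul_one, left_eq_mul] at h2
      exact h2.symm ▸ rfl
    rw [hz, inv_mul_eq_one, eq_mul_inv_iff_mul_eq] at hz1
    exact hz1
  have hchar : CharCentral p (P' : Subgroup (X ⧸ Z)) := by
    intro W hW hWc g hg hgp
    set W' := W.comap q with hW'
    have hW'P : W' ≤ (P : Subgroup X) := (comap_mono hW).trans hcomap.le
    have hW'c : (W'.subgroupOf (P : Subgroup X)).Characteristic := by
      refine characteristic_iff_le_comap.2 fun α w hw => ?_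
      let f : ↥(P : Subgroup X) →* ↥(P' : Subgroup (X ⧸ Z)) :=
        (q.comp (P : Subgroup X).subtype).codRestrict _ fun y => hP'.ge (mem_map_of_mem q y.2)
      have hf : Function.Surjective f := by
        rintro ⟨y, hy⟩
        obtain ⟨x, hx, rfl⟩ := hP'.le hy
        exact ⟨⟨x, hx⟩, rfl⟩
      have hker : f.ker ≤ (f.comp α.toMonoidHom).ker := by
        intro y hy
        have hyZ : (y : X) ∈ Z := (hq1 _).1 (congrArg Subtype.val hy)
        refine Subtype.ext ((hq1 _).2 ⟨(α y).2, mem_centralizer_iff.2 fun b hb => ?_⟩)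
        obtain ⟨b', hb'⟩ := α.surjective ⟨b, hb⟩
        have := congrArg α (Subtype.ext (mem_centralizer_iff.1 hyZ.2 b' b'.2) : b' * y = y * b')
        rw [map_mul, map_mul, hb'] at this
        exact congrArg Subtype.val this
      let β : ↥(P' : Subgroup (X ⧸ Z)) →* ↥(P' : Subgroup (X ⧸ Z)) :=
        f.liftOfSurjective hf ⟨f.comp α.toMonoidHom, hker⟩
      have hβ : ∀ y, β (f y) = f (α y) := fun y =>
        MonoidHom.liftOfRightInverse_comp_apply _ _ _ ⟨f.comp α.toMonoidHom, hker⟩ y
      have hβs : Function.Surjective β := fun y => by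
        obtain ⟨x, rfl⟩ := hf y
        exact ⟨f (α.symm x), by rw [hβ, MulEquiv.apply_symm_apply]⟩
      let βe := MulEquiv.ofBijective β ⟨Finite.injective_iff_surjective.2 hβs, hβs⟩
      have h2 := characteristic_iff_le_comap.1 hWc βe (x := f w) (show q w ∈ W from hw)
      rw [mem_comap] at h2
      have h3 : β (f w) ∈ W.subgroupOf _ := h2
      rw [hβ] at h3
      exact h3
    obtain ⟨x, hxg, hx⟩ := exists_coprime_lift q (hqs g) hgp
    have hxN : x ∈ normalizer (W' : Set X) := by
      refine mem_normalizer_iff.2 fun y => ?_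
      rw [hW', mem_comap, mem_comap, map_mul, map_mul, map_inv, hxg]
      exact mem_normalizer_iff.1 hg (q y)
    have hc' := h W' hW'P hW'c x hxN hx
    refine mem_centralizer_iff.2 fun y hy => ?_
    obtain ⟨y, rfl⟩ := hqs y
    rw [← hxg, ← map_mul, ← map_mul, mem_centralizer_iff.1 hc' y hy]
  have htop := ih _ hlt (X ⧸ Z) rfl P' hcq
    (hfree.of_involves (ConjFunctor.involves_quotient Z)) hchar
  rw [← hcomap, htop, comap_top]

end CfsgLib.WeakClosed
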