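import Cfsg.Agent.WeakClosed.FusionBasic
import Cfsg.Agent.WeakClosed.Characteristic

/-!
Small tools for the fusion versions of the theorems of Glauberman and Thompson.
-/

set_option autoImplicit false

universe u

namespace CfsgLib.WeakClosed

open Cfsg Cfsg.FusionSystem CfsgLib.Fusion CfsgLib.FusionThompson

variable {Ω : Type u} [Group Ω] {p : ℕ}

/-- All maps of the system fix the element `x`. -/
def Fixes {M : Subgroup Ω} (G : FusionSystem M) (x : Ω) : Prop :=
  ∀ (P : Subgroup Ω) (φ : P →* Ω), φ ∈ G.Hom P → ∀ y : P, (y : Ω) = x → φ y = x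

/-- The automorphisms of `R` in the system fix the element `x`. -/
def AutFixes {M : Subgroup Ω} (G : FusionSystem M) (R : Subgroup Ω) (x : Ω) : Prop :=
  ∀ α ∈ G.autGroup R, ∀ y : R, (y : Ω) = x → (α y : Ω) = x

theorem autGroup_mono {M M' : Subgroup Ω} {E : FusionSystem M'} {G : FusionSystem M}
    (h : ∀ P, E.Hom P ⊆ G.Hom P) (R : Subgroup Ω) : E.autGroup R ≤ G.autGroup R := by
  intro α hα
  by_cases hR : R ≤ M'
  · exact IsIso.mem_autGroup (h R ((mem_autGroup_iff hR).1 hα))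
  · rw [autGroup_eq_bot hR, Subgroup.mem_bot] at hα
    exact hα ▸ one_mem _

theorem aut_mem_normalizerHom {M R : Subgroup Ω} {G : FusionSystem M} (hR : R ≤ M)
    {α : MulAut R} (hα : α ∈ G.autGroup R) :
    R.subtype.comp α.toMonoidHom ∈ G.normalizerHom R R := by
  have hI := (mem_autGroup_iff hR).1 hα
  have hsupeq : R ⊔ R = R := sup_idem R
  refine ⟨hI, le_normalizerIn hR, fun x => le_normalizerIn hR (α x).2,
    restrictHom _ hsupeq.le, restrict_mem hI hsupeq.le, fun x => rfl, ?_⟩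
  ext y
  constructor
  · rintro ⟨x, -, rfl⟩
    exact (α ⟨(x : Ω), hsupeq.le x.2⟩).2
  · intro hy
    refine ⟨⟨(α.symm ⟨y, hy⟩ : R), Subgroup.mem_sup_left (α.symm ⟨y, hy⟩).2⟩,
      (α.symm ⟨y, hy⟩).2, ?_⟩
    show ((α (α.symm ⟨y, hy⟩) : R) : Ω) = y
    rw [MulEquiv.apply_symm_apply]

/-- An automorphism of `R` restricts to a characteristic subgroup. -/
theorem exists_aut_restrict {M R W : Subgroup Ω} {G : FusionSystem M} (hR : R ≤ M) (hWR : W ≤ R)
    (hW : (W.subgroupOf R).Characteristic) {α : MulAut R} (hα : α ∈ G.autGroup R) :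
    ∃ β ∈ G.autGroup W, ∀ w : W, (β w : Ω) = α ⟨w, hWR w.2⟩ := by
  have hI := (mem_autGroup_iff hR).1 hα
  have himg : imgHom (R.subtype.comp α.toMonoidHom) W = W := by
    have h := Subgroup.characteristic_iff_map_eq.1 hW α
    ext y
    constructor
    · rintro ⟨x, hx, rfl⟩
      exact (h.le ⟨x, hx, rfl⟩ : α x ∈ W.subgroupOf R)
    · intro hy
      obtain ⟨x, hx, hxy⟩ := h.ge (show (⟨y, hWR hy⟩ : R) ∈ W.subgroupOf R from hy)
      exact ⟨x, hx, congrArg Subtype.val hxy⟩
  obtain ⟨β, hβ, hβv⟩ := exists_iso (restrict_mem hI hWR) ((range_restrictHom _ hWR).trans himg)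
  exact ⟨β, hβ.mem_autGroup, fun w => hβv w⟩

theorem not_isNormal_of_conj {M W W' : Subgroup Ω} [Finite M] {G : FusionSystem M}
    (hc : G.IsConj W W') (hW : ¬ G.IsNormal W) : ¬ G.IsNormal W' := fun h => hW <| by
  obtain ⟨θ, hθ, hr⟩ := isConj_symm hc
  haveI := finite_of_le h.1
  have hsc := stronglyClosed_of_normal h
  have heq : W = W' := hr ▸ Subgroup.eq_of_le_of_card_ge (H := θ.range) (K := W') (by
    rintro _ ⟨x, rfl⟩
    exact hsc.2 W' le_rfl θ hθ x) (Nat.card_congr
      (MonoidHom.ofInjective (G.injective_of_mem hθ)).toEquiv).le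
  exact heq ▸ h

theorem card_normalizerIn_lt_of_char {M U W : Subgroup Ω} [Finite M] [Fact p.Prime]
    (hM : IsPGroup p M) (hne : normalizerIn M U ≠ M) (hWN : W ≤ normalizerIn M U)
    (hW : (W.subgroupOf (normalizerIn M U)).Characteristic) :
    Nat.card (normalizerIn M U) < Nat.card (normalizerIn M W) := by
  haveI := finite_of_le (normalizerIn_le M W)
  haveI := finite_of_le (hWN.trans (normalizerIn_le M U))
  refine (FusionAgemo.card_lt_normalizerIn hM (normalizerIn_le M U) hne).trans_le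
    (Subgroup.card_le_of_le fun g hg => Subgroup.mem_inf.2 ⟨hg.1, ?_⟩)
  refine Subgroup.mem_normalizer_fintype fun w hw => ?_
  set N := normalizerIn M U with hN
  let c : MulAut N := N.normalizerMonoidHom ⟨g, hg.2⟩
  have h := Subgroup.characteristic_iff_le_comap.1 hW c
    (x := ⟨w, hWN hw⟩) (show (⟨w, hWN hw⟩ : N) ∈ W.subgroupOf N from hw)
  exact h

theorem le_normalizer_sup {M A B : Subgroup Ω} (hA : M ≤ Subgroup.normalizer (A : Set Ω))
    (hB : M ≤ Subgroup.normalizer (B : Set Ω)) :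
    M ≤ Subgroup.normalizer ((A ⊔ B : Subgroup Ω) : Set Ω) := fun m hm => by
  rw [Subgroup.mem_normalizer_iff_map_conj_eq, Subgroup.map_sup,
    Subgroup.mem_normalizer_iff_map_conj_eq.1 (hA hm),
    Subgroup.mem_normalizer_iff_map_conj_eq.1 (hB hm)]

theorem im_thompsonSubgroupAOf {M : Subgroup Ω} {L : Type u} [Group L] {ι : ↥M →* L}
    (hι : Function.Injective ι) :
    im ι (thompsonSubgroupAOf M) = thompsonSubgroupAOf ι.range := by
  rw [im, thompsonSubgroupAOf, Subgroup.subgroupOf,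
    Subgroup.comap_map_eq_self_of_injective M.subtype_injective,
    ← PLocal.thompsonSubgroupAOf_top, PLocal.map_thompsonSubgroupAOf hι, MonoidHom.range_eq_map]

theorem isPGroup_autGroup_bot {M : Subgroup Ω} (G : FusionSystem M) :
    IsPGroup p (G.autGroup (⊥ : Subgroup Ω)) := fun a => ⟨0, by
  refine Subtype.ext (MulEquiv.ext fun x => ?_)
  exact Subsingleton.elim _ _⟩

theorem autGroup_le_induced {M W : Subgroup Ω} [Finite M] [Fact p.Prime] {G : FusionSystem M}
    (hW : G.IsFullyAutomized p W) (hp : IsPGroup p (G.autGroup W)) :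
    G.autGroup W ≤ autInducedBy M W :=
  (eq_autInducedBy_of_le hW le_rfl hp (autInducedBy_le_autGroup hW.1)).le

theorem induced_of_inner {M W : Subgroup Ω} (hW : W ≤ M) {α : MulAut W}
    (h : W.subtype.comp α.toMonoidHom ∈ (innerFusionSystem M).Hom W) :
    α ∈ autInducedBy M W := by
  obtain ⟨-, g, hg, hv⟩ := h
  exact Subgroup.subset_closure ⟨g, hg, fun x => hv x⟩

theorem isNormal_of_isCentral {M Q : Subgroup Ω} {G : FusionSystem M} (h : G.IsCentral Q) :
    G.IsNormal Q := by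
  refine ⟨h.1, fun P φ hφ => ?_⟩
  obtain ⟨ψ, hψ, h1, h2⟩ := h.2 P φ hφ
  refine ⟨ψ, hψ, h1, ?_⟩
  ext y
  constructor
  · rintro ⟨x, hx, rfl⟩
    have := h2 ⟨x, hx⟩
    rw [show ψ x = (x : Ω) from this]
    exact hx
  · intro hy
    exact ⟨⟨y, Subgroup.mem_sup_right hy⟩, hy, h2 ⟨y, hy⟩⟩

end CfsgLib.WeakClosed
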