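import Cfsg.Agent.WeakClosed.Normalizer
import Cfsg.Prelude.Def_FusionReduction
import Cfsg.Agent.Fusion.ModelUnique
import Cfsg.Agent.ConjFunctor.Sections
import Cfsg.Agent.Coprime.PTimesQ
import Cfsg.Agent.PLocal.Cores

/-!
Section freeness passes to the normalizer system of a fully normalized subgroup `U`: the model at a
subgroup `T` centric in `N_F(U)` is the stabilizer of the images of `T` and `U` in the model at a
fully normalized conjugate of `T ⊔ U`.
-/

set_option autoImplicit false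

universe u v

namespace CfsgLib.WeakClosed

open Cfsg Cfsg.FusionSystem CfsgLib.Fusion

/-- The model at a centric, fully normalized subgroup `T` of `N_F(U)` is involved in the model at a
fully normalized conjugate of `T ⊔ U`. -/
theorem exists_model_involves {Ω : Type u} [Group Ω] {S U : Subgroup Ω} {F : FusionSystem S}
    [Finite S] {p : ℕ} [Fact p.Prime] (hS : IsPGroup p S) (hF : F.IsSaturated p)
    (hU : F.IsFullyNormalized U) {E : FusionSystem (normalizerIn S U)}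
    (hE : F.IsNormalizerSystem U E) {T : Subgroup Ω} (hTn : E.IsFullyNormalized T)
    (hTc : E.IsCentric T) {N : FusionSystem (normalizerIn (normalizerIn S U) T)}
    (hN : E.IsNormalizerSystem T N) {L : Type u} [Group L]
    {ι₁ : ↥(normalizerIn (normalizerIn S U) T) →* L} (hL : N.IsModel p L ι₁) :
    ∃ Y₂, F.IsConj (T ⊔ U) Y₂ ∧ F.IsFullyNormalized Y₂ ∧ F.IsCentric Y₂ ∧
      ∃ NF : FusionSystem (normalizerIn S Y₂), F.IsNormalizerSystem Y₂ NF ∧
        ∃ (M : Type u) (_ : Group M) (ι : ↥(normalizerIn S Y₂) →* M),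
          NF.IsModel p M ι ∧ Involves L M := by
  haveI := finite_of_le (normalizerIn_le S U)
  have hES : E.IsSaturated p := isSaturated_normalizerSystem hS hF hU hE
  have hRp : IsPGroup p (normalizerIn S U) := hS.to_le (normalizerIn_le S U)
  have hTR : T ≤ (normalizerIn S U) := hTn.1
  have hUR : U ≤ (normalizerIn S U) := le_normalizerIn hU.1
  have hR₀R : (normalizerIn (normalizerIn S U) T) ≤ (normalizerIn S U) := normalizerIn_le (normalizerIn S U) T
  haveI := finite_of_le hR₀R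
  set Y := T ⊔ U with hY
  have hYR : Y ≤ (normalizerIn S U) := sup_le hTR hUR
  have hYS : Y ≤ S := hYR.trans (normalizerIn_le S U)
  have hYc : F.IsCentric Y := isCentric_sup hS hF hU hE hTc
  set NY := normalizerIn S Y with hNY
  have hYNY : Y ≤ NY := le_normalizerIn hYS
  have hR₀Y : (normalizerIn (normalizerIn S U) T) ≤ NY := fun g hg => by
    obtain ⟨hgR, hgT⟩ := Subgroup.mem_inf.1 hg
    obtain ⟨hgS, hgU⟩ := Subgroup.mem_inf.1 hgR
    refine Subgroup.mem_inf.2 ⟨hgS, Subgroup.mem_normalizer_iff_map_conj_eq.2 ?_⟩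
    rw [Subgroup.map_sup, Subgroup.mem_normalizer_iff_map_conj_eq.1 hgT,
      Subgroup.mem_normalizer_iff_map_conj_eq.1 hgU]
  haveI := finite_of_le (normalizerIn_le S Y)
  -- the model at a fully normalized conjugate of `Y`
  obtain ⟨Y₂, hYY₂, hY₂⟩ := exists_fullyNormalized (F := F) hYS
  obtain ⟨hY₂a, hY₂r⟩ := automized_receptive hS hF hY₂
  obtain ⟨β, hβ, hβN, hβY⟩ := exists_map_normalizerIn hS hY₂a hY₂r hYY₂
  obtain ⟨NF, hNF⟩ := exists_isNormalizerSystem F hY₂.1
  have hY₂c := isCentric_of_isConj hYc hYY₂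
  obtain ⟨M, _, ι, hM⟩ := exists_model_normalizer hS hF hY₂ hY₂c hNF
  obtain ⟨hMfin, hMr, ⟨TM, hTM⟩, hMc⟩ := id hM
  haveI := hMfin
  haveI := finite_of_le (normalizerIn_le S Y₂)
  let j : ↥NY →* M := ι.comp (β.codRestrict (normalizerIn S Y₂) hβN)
  have hj : Function.Injective j := fun a b hab =>
    F.injective_of_mem hβ (congrArg Subtype.val (hMr.1 hab))
  let J : Subgroup Ω → Subgroup M := fun D => (D.subgroupOf NY).map j
  have hJim : ∀ D, D ≤ NY → J D = im ι (imgHom β D) := by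
    intro D hD
    ext y
    constructor
    · rintro ⟨z, hz, rfl⟩
      exact ⟨⟨β z, hβN z⟩, apply_mem_imgHom β hz, rfl⟩
    · rintro ⟨⟨w, hw⟩, hw', rfl⟩
      obtain ⟨z, hz, hzw⟩ := mem_imgHom.1 (show w ∈ imgHom β D from hw')
      exact ⟨z, hz, congrArg ι (Subtype.ext hzw)⟩
  have himgN : ∀ D : Subgroup Ω, imgHom β D ≤ normalizerIn S Y₂ := by
    rintro D _ ⟨z, -, rfl⟩
    exact hβN z
  have hNFn := normSystem_isNormal hY₂.1 hNF
  have hNFc := normSystem_isCentric hY₂c hNF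
  haveI hJYn : (im ι Y₂).Normal := im_normal_of_isNormal hM hNFn
  -- maps stabilising `Y` are realised
  have realise : ∀ (D : Subgroup Ω) (hD : D ≤ NY) (hYD : Y ≤ D) (ω : D →* Ω), ω ∈ F.Hom D →
      ∀ hval : ∀ z, ω z ∈ NY, imgHom ω Y = Y →
      ∃ g : M, ∀ z : D, j ⟨ω z, hval z⟩ = g * j ⟨z, hD z.2⟩ * g⁻¹ := by
    intro D hD hYD ω hω hval hωY
    obtain ⟨b, hb, hbβ⟩ := exists_iso (restrict_mem hβ hD) (range_restrictHom β hD)
    obtain ⟨e, he, heω⟩ := exists_iso_range hω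
    have hr : ω.range ≤ NY := by rintro _ ⟨z, rfl⟩; exact hval z
    let κ : ↥(imgHom β D) →* Ω :=
      (restrictHom β hr).comp (b.symm.trans e).toMonoidHom
    have hκF : κ ∈ F.Hom (imgHom β D) := (hb.symm.trans he).comp_hom (restrict_mem hβ hr)
    have hκv : ∀ z : D, κ (b z) = β ⟨ω z, hval z⟩ := fun z => by
      show β (Subgroup.inclusion hr (e (b.symm (b z)))) = _
      exact congrArg β (Subtype.ext (by rw [b.symm_apply_apply]; exact heω z))
    have hκN : κ ∈ NF.Hom (imgHom β D) := by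
      refine mem_normSystem hNF hκF (hβY ▸ imgHom_mono β hYD) (himgN D) (fun w => ?_) ?_
      · obtain ⟨z, rfl⟩ := b.surjective w
        rw [hκv]; exact hβN _
      · refine le_antisymm ?_ ?_
        · rintro _ ⟨w, hw, rfl⟩
          obtain ⟨z, rfl⟩ := b.surjective w
          rw [hκv]
          refine hβY.le (apply_mem_imgHom β ?_)
          refine hωY.le (apply_mem_imgHom ω ?_)
          obtain ⟨y, hy, hyz⟩ := mem_imgHom.1 (hβY.ge (hw : ((b z : imgHom β D) : Ω) ∈ Y₂))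
          rw [Subgroup.coe_subtype, hbβ, restrictHom_apply] at hyz
          have := F.injective_of_mem hβ hyz
          rw [this] at hy
          exact hy
        · intro y hy
          obtain ⟨y₁, hy₁, rfl⟩ := mem_imgHom.1 (hβY.ge hy)
          obtain ⟨z, hz, hzy⟩ := mem_imgHom.1 (hωY.ge hy₁)
          refine ⟨b z, ?_, (hκv z).trans (congrArg β (Subtype.ext hzy))⟩
          show ((b z : imgHom β D) : Ω) ∈ Y₂
          rw [hbβ, restrictHom_apply]
          exact hβY.le (apply_mem_imgHom β hz)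
    obtain ⟨g, hg⟩ := (hMr.2 _ (himgN D) κ (fun w => apply_mem hκN w)).1 hκN
    refine ⟨g, fun z => ?_⟩
    have h1 := hg (b z)
    refine (congrArg ι (Subtype.ext (hκv z).symm)).trans (h1.trans ?_)
    exact congrArg (fun t => g * ι t * g⁻¹) (Subtype.ext (hbβ z))
  -- conjugations are maps of `F`
  have unrealise : ∀ (D : Subgroup Ω) (hD : D ≤ NY) (g : M),
      (J D).map (MulAut.conj g).toMonoidHom ≤ j.range →
      ∃ ω ∈ F.Hom D, ∃ hval : ∀ z, ω z ∈ NY,
        ∀ z : D, j ⟨ω z, hval z⟩ = g * j ⟨z, hD z.2⟩ * g⁻¹ := by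
    intro D hD g hg
    set D' : Subgroup Ω := (((J D).map (MulAut.conj g).toMonoidHom).comap j).map NY.subtype with hD'
    have hD'le : D' ≤ NY := Subgroup.map_subtype_le _
    have hJD' : J D' = (J D).map (MulAut.conj g).toMonoidHom := by
      show (D'.subgroupOf NY).map j = _
      rw [hD', Subgroup.subgroupOf, Subgroup.comap_map_eq_self_of_injective NY.subtype_injective,
        Subgroup.map_comap_eq_self hg]
    obtain ⟨b, hb, hbβ⟩ := exists_iso (restrict_mem hβ hD) (range_restrictHom β hD)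
    obtain ⟨b', hb', hb'β⟩ := exists_iso (restrict_mem hβ hD'le) (range_restrictHom β hD'le)
    obtain ⟨k, hk, hkv⟩ := exists_iso_of_conj (g := g) hMr (himgN D) (himgN D')
      (by rw [← hJim D hD, ← hJim D' hD'le, hJD'])
    have hkF : IsIso F k := normSystem_le hNF _ hk
    let ω : ↥D →* Ω := D'.subtype.comp (b.trans (k.trans b'.symm)).toMonoidHom
    refine ⟨ω, (hb.trans (hkF.trans hb'.symm)), fun z => hD'le ((b.trans (k.trans b'.symm)) z).2,
      fun z => ?_⟩
    have h1 := hkv (b z)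
    have h2 : (j ⟨((b'.symm (k (b z)) : D') : Ω), hD'le (b'.symm (k (b z))).2⟩) =
        ι ⟨(k (b z) : Ω), himgN D' (k (b z)).2⟩ := by
      refine congrArg ι (Subtype.ext ?_)
      show β _ = _
      have := hb'β (b'.symm (k (b z)))
      rw [b'.apply_symm_apply, restrictHom_apply] at this
      exact this.symm
    exact h2.trans (h1.trans (congrArg (fun t => g * ι t * g⁻¹) (Subtype.ext (hbβ z))))
  have hTY : T ≤ Y := le_sup_left
  have hUY : U ≤ Y := le_sup_right
  set M₀ : Subgroup M := Subgroup.normalizer (J T : Set M) ⊓ Subgroup.normalizer (J U : Set M)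
    with hM₀
  have hjJ : ∀ (A : Subgroup Ω), A ≤ NY → ∀ r : ↥NY,
      (r : Ω) ∈ Subgroup.normalizer (A : Set Ω) → j r ∈ Subgroup.normalizer (J A : Set M) := by
    intro A _ r hr
    refine mem_normalizer_of_conj_mem ?_
    rintro _ ⟨z, hz, rfl⟩
    exact ⟨r * z * r⁻¹, (Subgroup.mem_normalizer_iff.1 hr z).1 hz, by simp⟩
  let ι₀ : ↥(normalizerIn (normalizerIn S U) T) →* ↥M₀ := (j.comp (Subgroup.inclusion hR₀Y)).codRestrict M₀ fun r =>
    Subgroup.mem_inf.2 ⟨hjJ T (hTY.trans hYNY) _ (Subgroup.mem_inf.1 r.2).2,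
      hjJ U (hUY.trans hYNY) _ (Subgroup.mem_inf.1 (hR₀R r.2)).2⟩
  have hι₀v : ∀ r : (normalizerIn (normalizerIn S U) T), ((ι₀ r : M₀) : M) = j ⟨r, hR₀Y r.2⟩ := fun r => rfl
  have hι₀ : Function.Injective ι₀ := fun a b hab => Subtype.ext (congrArg Subtype.val
    (hj (congrArg Subtype.val hab) : (⟨(a : Ω), hR₀Y a.2⟩ : NY) = ⟨b, hR₀Y b.2⟩) :)
  -- `M₀` realises `N`
  have hreal : N.IsRealizedBy ι₀ := by
    refine ⟨hι₀, fun P hP φ hφ => ⟨fun hφN => ?_, fun hg => ?_⟩⟩
    · obtain ⟨ψ, hψE, hψP, hψT⟩ := normSystem_ext hN hφN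
      obtain ⟨ω, hω, hωψ, hωU⟩ := normSystem_ext hE hψE
      have hDN : (P ⊔ T ⊔ U) ≤ NY :=
        sup_le (sup_le (hP.trans hR₀Y) (hTY.trans hYNY)) (hUY.trans hYNY)
      have hYD : Y ≤ (P ⊔ T ⊔ U) := sup_le (le_sup_right.trans le_sup_left) le_sup_right
      have hωT : imgHom ω T = T := by
        refine Eq.trans ?_ hψT
        ext y
        constructor
        · rintro ⟨x, hx, rfl⟩
          exact ⟨⟨x, Subgroup.mem_sup_right hx⟩, hx, (hωψ ⟨x, Subgroup.mem_sup_right hx⟩).symm⟩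
        · rintro ⟨x, hx, rfl⟩
          exact ⟨Subgroup.inclusion le_sup_left x, hx, hωψ x⟩
      have hωY : imgHom ω Y = Y := by
        rw [hY, imgHom_sup ω (le_sup_right.trans le_sup_left) le_sup_right, hωT, hωU]
      have hval : ∀ z, ω z ∈ NY := by
        intro z
        have hz : ω z ∈ ψ.range ⊔ U := range_extension hωψ hωU ▸ ⟨z, rfl⟩
        refine sup_le ?_ (hUY.trans hYNY) hz
        rw [range_extension hψP hψT]
        refine sup_le ?_ (hTY.trans hYNY)
        rintro _ ⟨x, rfl⟩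
        exact hR₀Y (apply_mem hφN x)
      obtain ⟨g, hg⟩ := realise (P ⊔ T ⊔ U) hDN hYD ω hω hval hωY
      have hstab : ∀ A : Subgroup Ω, A ≤ (P ⊔ T ⊔ U) → imgHom ω A = A →
          g ∈ Subgroup.normalizer (J A : Set M) := by
        intro A hAD hA
        refine mem_normalizer_of_conj_mem ?_
        rintro _ ⟨z, hz, rfl⟩
        exact ⟨⟨ω ⟨z, hAD hz⟩, hval _⟩, hA.le (apply_mem_imgHom ω hz), hg ⟨z, hAD hz⟩⟩
      refine ⟨⟨g, Subgroup.mem_inf.2 ⟨hstab T (le_sup_right.trans le_sup_left) hωT,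
        hstab U le_sup_right hωU⟩⟩, fun x => Subtype.ext ?_⟩
      have h1 := hg ⟨x, Subgroup.mem_sup_left (Subgroup.mem_sup_left x.2)⟩
      refine Eq.trans ?_ h1
      refine congrArg j (Subtype.ext ?_)
      show φ x = ω _
      rw [← hψP x]
      exact (hωψ _).symm
    · obtain ⟨⟨g, hgM⟩, hg⟩ := hg
      obtain ⟨hgT, hgU⟩ := Subgroup.mem_inf.1 hgM
      have hPN : P ≤ NY := hP.trans hR₀Y
      have hTN : T ≤ NY := hTY.trans hYNY
      have hUN : U ≤ NY := hUY.trans hYNY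
      have hDN : (P ⊔ T ⊔ U) ≤ NY := sup_le (sup_le hPN hTN) hUN
      have hmap : (J (P ⊔ T ⊔ U)).map (MulAut.conj g).toMonoidHom ≤ j.range := by
        show (((P ⊔ T ⊔ U).subgroupOf NY).map j).map _ ≤ _
        rw [Subgroup.subgroupOf_sup (sup_le hPN hTN) hUN, Subgroup.subgroupOf_sup hPN hTN,
          Subgroup.map_sup, Subgroup.map_sup, Subgroup.map_sup, Subgroup.map_sup]
        refine sup_le (sup_le ?_ ?_) ?_
        · rintro _ ⟨_, ⟨z, hz, rfl⟩, rfl⟩
          exact ⟨⟨φ ⟨z, hz⟩, hR₀Y (hφ _)⟩, congrArg Subtype.val (hg ⟨z, hz⟩)⟩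
        · rintro _ ⟨_, ⟨z, hz, rfl⟩, rfl⟩
          obtain ⟨w, -, hw⟩ := (Subgroup.mem_normalizer_iff.1 hgT (j z)).1 ⟨z, hz, rfl⟩
          exact ⟨w, hw⟩
        · rintro _ ⟨_, ⟨z, hz, rfl⟩, rfl⟩
          obtain ⟨w, -, hw⟩ := (Subgroup.mem_normalizer_iff.1 hgU (j z)).1 ⟨z, hz, rfl⟩
          exact ⟨w, hw⟩
      obtain ⟨ω, hω, hval, hωv⟩ := unrealise (P ⊔ T ⊔ U) hDN g hmap
      have hfixA : ∀ A : Subgroup Ω, A ≤ (P ⊔ T ⊔ U) → g ∈ Subgroup.normalizer (J A : Set M) →
          imgHom ω A = A := by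
        intro A hAD hgA
        haveI := finite_of_le (hAD.trans hDN)
        refine Subgroup.eq_of_le_of_card_ge ?_ (card_imgHom (F.injective_of_mem hω) hAD).ge
        rintro _ ⟨z, hz, rfl⟩
        obtain ⟨w, hw, hwz⟩ := (Subgroup.mem_normalizer_iff.1 hgA (j ⟨z, hDN z.2⟩)).1
          ⟨⟨z, hDN z.2⟩, hz, rfl⟩
        rw [← hωv z] at hwz
        rw [hj hwz] at hw
        exact hw
      have hωT := hfixA T (le_sup_right.trans le_sup_left) hgT
      have hωU := hfixA U le_sup_right hgU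
      have hωP : ∀ (x : Ω) (hx : x ∈ P),
          ω ⟨x, Subgroup.mem_sup_left (Subgroup.mem_sup_left hx)⟩ = φ ⟨x, hx⟩ := by
        intro x hx
        refine congrArg Subtype.val (hj (?_ : j ⟨_, hval _⟩ = j ⟨_, hR₀Y (hφ ⟨x, hx⟩)⟩))
        rw [hωv]
        exact (congrArg Subtype.val (hg ⟨x, hx⟩)).symm
      have hPT : P ⊔ T ≤ (normalizerIn S U) := sup_le (hP.trans hR₀R) hTR
      have hvalR : ∀ x : ↥(P ⊔ T), ω (Subgroup.inclusion le_sup_left x) ∈ (normalizerIn S U) := by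
        intro x
        have hx : ω (Subgroup.inclusion le_sup_left x) ∈ imgHom ω (P ⊔ T) :=
          apply_mem_imgHom ω x.2
        rw [imgHom_sup ω (le_sup_left.trans le_sup_left) (le_sup_right.trans le_sup_left), hωT] at hx
        refine sup_le ?_ hTR hx
        rintro _ ⟨z, hz, rfl⟩
        rw [hωP z hz]
        exact hR₀R (hφ _)
      have hψE : restrictHom ω (le_sup_left : P ⊔ T ≤ (P ⊔ T ⊔ U)) ∈ E.Hom (P ⊔ T) := by
        rw [hE]
        exact ⟨restrict_mem hω _, hPT, hvalR, ω, hω, fun x => rfl, hωU⟩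
      have hφE : φ ∈ E.Hom P :=
        mem_of_agree hψE (le_sup_left : P ≤ P ⊔ T) fun x => (hωP x x.2).symm
      rw [hN]
      refine ⟨hφE, hP, hφ, restrictHom ω le_sup_left, hψE, fun x => hωP x x.2, ?_⟩
      refine Eq.trans ?_ hωT
      ext y
      constructor
      · rintro ⟨x, hx, rfl⟩; exact ⟨Subgroup.inclusion le_sup_left x, hx, rfl⟩
      · rintro ⟨x, hx, rfl⟩; exact ⟨⟨x, Subgroup.mem_sup_right hx⟩, hx, rfl⟩
  -- a Sylow subgroup
  have hιp : IsPGroup p ι.range := isPGroup_range_of_sylow TM hTM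
  have hR₀p : IsPGroup p ι₀.range :=
    IsPGroup.of_equiv (hRp.to_le hR₀R) (MonoidHom.ofInjective hι₀)
  obtain ⟨P₁, hP₁⟩ := hR₀p.exists_le_sylow
  have hsylow : (P₁ : Subgroup M₀) = ι₀.range := by
    refine (Subgroup.eq_of_le_of_card_ge hP₁ ?_).symm
    rw [Nat.card_congr (MonoidHom.ofInjective hι₀).symm.toEquiv]
    -- move `P₁` into the image of `N_S(Y₂)`
    obtain ⟨h, hh⟩ := exists_conj_mem_sylow TM ((P₁.isPGroup').map M₀.subtype)
    set P' : Subgroup Ω := ((((P₁ : Subgroup M₀).map M₀.subtype).map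
      (MulAut.conj h).toMonoidHom).comap ι).map (normalizerIn S Y₂).subtype with hP'
    have hP'N : P' ≤ normalizerIn S Y₂ := Subgroup.map_subtype_le _
    have hP'im : im ι P' = ((P₁ : Subgroup M₀).map M₀.subtype).map (MulAut.conj h).toMonoidHom := by
      rw [im, hP', Subgroup.subgroupOf, Subgroup.comap_map_eq_self_of_injective
        (normalizerIn S Y₂).subtype_injective, Subgroup.map_comap_eq_self]
      rintro _ ⟨x, hx, rfl⟩
      exact hTM ▸ hh x hx
    have hcard : Nat.card P₁ = Nat.card P' := by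
      rw [← card_im hMr.1 hP'N, hP'im, Subgroup.card_map_of_injective (MulAut.conj h).injective,
        Subgroup.card_map_of_injective M₀.subtype_injective]
    -- the map `Y → Y₂` induced by `h`
    obtain ⟨bY, hbY, hbYv⟩ := exists_iso (restrict_mem hβ hYNY) ((range_restrictHom β hYNY).trans hβY)
    obtain ⟨k, hk, hkv⟩ := exists_iso_of_conj (g := h) hMr (le_normalizerIn hY₂.1)
      (le_normalizerIn hY₂.1) (Subgroup.mem_normalizer_iff_map_conj_eq.1
        (by rw [Subgroup.normalizer_eq_top]; exact Subgroup.mem_top h))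
    let γ : ↥Y →* Ω := Y₂.subtype.comp (bY.trans k).toMonoidHom
    have hγ : γ ∈ F.Hom Y := hbY.trans (normSystem_le hNF _ hk)
    have hγN : ∀ y : Y, γ y ∈ normalizerIn S Y₂ := fun y => le_normalizerIn hY₂.1 (bY.trans k y).2
    have hγv : ∀ (y : Ω) (hy : y ∈ Y),
        ι ⟨γ ⟨y, hy⟩, hγN ⟨y, hy⟩⟩ = h * j ⟨y, hYNY hy⟩ * h⁻¹ := fun y hy =>
      (hkv (bY ⟨y, hy⟩)).trans (congrArg (fun t => h * ι t * h⁻¹) (Subtype.ext (hbYv ⟨y, hy⟩)))
    have hγim : ∀ A : Subgroup Ω, A ≤ Y →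
        im ι (imgHom γ A) = (J A).map (MulAut.conj h).toMonoidHom := by
      intro A hA
      ext y
      constructor
      · rintro ⟨⟨w, hw⟩, hw', rfl⟩
        obtain ⟨z, hz, hzw⟩ := mem_imgHom.1 (show w ∈ imgHom γ A from hw')
        refine ⟨_, ⟨⟨z, hYNY z.2⟩, hz, rfl⟩, ?_⟩
        refine ((hγv z z.2).symm.trans ?_)
        exact congrArg ι (Subtype.ext hzw)
      · rintro ⟨_, ⟨z, hz, rfl⟩, rfl⟩
        exact ⟨⟨γ ⟨z, hA hz⟩, hγN _⟩, apply_mem_imgHom γ hz, hγv z (hA hz)⟩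
    have hP'norm : ∀ A : Subgroup Ω, A ≤ Y →
        (∀ m : M₀, (m : M) ∈ Subgroup.normalizer (J A : Set M)) →
        P' ≤ Subgroup.normalizer (imgHom γ A : Set Ω) := by
      intro A hA hm x hx
      obtain ⟨_, ⟨m, hm', rfl⟩, hmx⟩ := hP'im.le ⟨⟨x, hP'N hx⟩, hx, rfl⟩
      have hAN : imgHom γ A ≤ normalizerIn S Y₂ := by rintro _ ⟨z, -, rfl⟩; exact hγN z
      have h2 : ι ⟨x, hP'N hx⟩ ∈ Subgroup.normalizer (im ι (imgHom γ A) : Set M) := by
        rw [hγim A hA, ← hmx]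
        exact Subgroup.le_normalizer_map _ ⟨_, hm m, rfl⟩
      have h3 : (⟨x, hP'N hx⟩ : normalizerIn S Y₂) ∈
          (normalizerIn (normalizerIn S Y₂) (imgHom γ A)).subgroupOf (normalizerIn S Y₂) := by
        have h4 : ι ⟨x, hP'N hx⟩ ∈ im ι (normalizerIn (normalizerIn S Y₂) (imgHom γ A)) := by
          rw [im_normalizerIn hMr.1 hAN]
          exact Subgroup.mem_inf.2 ⟨⟨_, rfl⟩, h2⟩
        exact (apply_mem_im_iff hMr.1).1 h4
      exact (Subgroup.mem_inf.1 h3).2
    set U₃ := imgHom γ U with hU₃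
    obtain ⟨hUa, hUr⟩ := automized_receptive hS hF hU
    obtain ⟨χ, hχ, hχN, hχU⟩ := exists_map_normalizerIn hS hUa hUr
      (isConj_symm (isConj_restrict hγ hUY : F.IsConj U U₃))
    have hY₃ : ∀ y : Y, γ y ∈ normalizerIn S U₃ := by
      intro y
      refine Subgroup.mem_inf.2 ⟨apply_mem hγ y, Subgroup.mem_normalizer_iff.2 fun z => ?_⟩
      have hn := (Subgroup.mem_inf.1 (hYR y.2)).2
      constructor
      · rintro ⟨w, hw, rfl⟩
        exact ⟨y * w * y⁻¹, (Subgroup.mem_normalizer_iff.1 hn (w : Ω)).1 hw, by simp⟩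
      · rintro ⟨w, hw, hwz⟩
        exact ⟨y⁻¹ * w * y, (Subgroup.mem_normalizer_iff''.1 hn (w : Ω)).1 hw,
          by simp [hwz, mul_assoc]⟩
    let θ : ↥Y →* Ω := χ.comp (γ.codRestrict _ hY₃)
    have hθF : θ ∈ F.Hom Y := mem_of_comp hγ hχ hY₃ fun _ => rfl
    have hθE : θ ∈ E.Hom Y := by
      refine mem_normSystem hE hθF hUY hYR (fun y => hχN _) ?_
      ext y
      constructor
      · rintro ⟨x, hx, rfl⟩
        exact hχU.le (apply_mem_imgHom χ (apply_mem_imgHom γ hx))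
      · intro hy
        obtain ⟨z, hz, rfl⟩ := mem_imgHom.1 (hχU.ge hy)
        obtain ⟨x, hx, hxz⟩ := mem_imgHom.1 hz
        exact ⟨x, hx, congrArg χ (Subtype.ext hxz)⟩
    set T₁ := imgHom θ T with hT₁
    have hTT₁ : E.IsConj T T₁ := isConj_restrict hθE hTY
    have hP'U : P' ≤ normalizerIn S U₃ := le_inf (hP'N.trans (normalizerIn_le S Y₂))
      (hP'norm U hUY fun m => (Subgroup.mem_inf.1 m.2).2)
    have hP'T : P' ≤ Subgroup.normalizer (imgHom γ T : Set Ω) :=
      hP'norm T hTY fun m => (Subgroup.mem_inf.1 m.2).1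
    rw [hcard]
    haveI := finite_of_le ((normalizerIn_le (normalizerIn S U) T₁).trans (normalizerIn_le S U))
    refine le_trans ?_ (hTn.2 T₁ hTT₁)
    refine Nat.card_le_card_of_injective
      (fun x : P' => (⟨χ ⟨x, hP'U x.2⟩, ?_⟩ : normalizerIn (normalizerIn S U) T₁)) fun a b hab =>
        Subtype.ext (congrArg Subtype.val (F.injective_of_mem hχ (congrArg Subtype.val hab)) :)
    refine Subgroup.mem_inf.2 ⟨hχN _, Subgroup.mem_normalizer_iff.2 fun z => ⟨?_, ?_⟩⟩
    · rintro ⟨y, hy, rfl⟩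
      have h1 := (Subgroup.mem_normalizer_iff.1 (hP'T x.2) _).1 (apply_mem_imgHom γ hy)
      obtain ⟨y', hy', hyy'⟩ := mem_imgHom.1 h1
      refine ⟨y', hy', ?_⟩
      show χ ⟨γ y', hY₃ y'⟩ = χ ⟨x, hP'U x.2⟩ * χ ⟨γ y, hY₃ y⟩ * (χ ⟨x, hP'U x.2⟩)⁻¹
      rw [← map_inv, ← map_mul, ← map_mul]
      exact congrArg χ (Subtype.ext hyy')
    · rintro ⟨y, hy, hyz⟩
      have h1 := (Subgroup.mem_normalizer_iff''.1 (hP'T x.2) _).1 (apply_mem_imgHom γ hy)
      obtain ⟨y', hy', hyy'⟩ := mem_imgHom.1 h1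
      refine ⟨y', hy', ?_⟩
      have h2 : χ ⟨γ y', hY₃ y'⟩ = (χ ⟨x, hP'U x.2⟩)⁻¹ * χ ⟨γ y, hY₃ y⟩ * χ ⟨x, hP'U x.2⟩ := by
        rw [← map_inv, ← map_mul, ← map_mul]
        exact congrArg χ (Subtype.ext hyy')
      refine h2.trans ?_
      rw [show χ ⟨γ y, hY₃ y⟩ = χ ⟨x, hP'U x.2⟩ * z * (χ ⟨x, hP'U x.2⟩)⁻¹ from hyz]
      group
  -- the centralizer condition
  have hTN₀ : T ≤ NY := hTY.trans hYNY
  have hTR₀ : T ≤ (normalizerIn (normalizerIn S U) T) := le_normalizerIn hTR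
  haveI hTn₀ : ((J T).subgroupOf M₀).Normal :=
    ⟨fun z hz m => (Subgroup.mem_normalizer_iff.1 (Subgroup.mem_inf.1 m.2).1 _).1 hz⟩
  have hJTp : IsPGroup p ↥(J T) := IsPGroup.map
    ((hS.to_le (normalizerIn_le S Y)).to_subgroup _) j
  have hcen : Subgroup.centralizer (pCore p M₀ : Set M₀) ≤ pCore p M₀ := by
    set C := Subgroup.centralizer (((J T).subgroupOf M₀ : Subgroup M₀) : Set M₀) with hC
    have hle : (J T).subgroupOf M₀ ≤ pCore p M₀ :=
      CfsgLib.PLocal.le_pCore (hJTp.comap_subtype)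
    refine (Subgroup.centralizer_le hle).trans (CfsgLib.PLocal.le_pCore (N := C) ?_)
    have hCcop : ∀ g : C, (orderOf g).Coprime p → g = 1 := by
      intro g hg
      rw [← Subgroup.orderOf_coe, ← Subgroup.orderOf_coe] at hg
      set g₀ : M := ((g : M₀) : M) with hg₀
      have hJTM₀ : J T ≤ M₀ := fun z hz => by
        obtain ⟨t, ht, rfl⟩ := hz
        exact (ι₀ ⟨t, hTR₀ ht⟩).2
      have hgT : g₀ ∈ Subgroup.centralizer (J T : Set M) :=
        Subgroup.mem_centralizer_iff.2 fun z hz =>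
          congrArg Subtype.val (Subgroup.mem_centralizer_iff.1 g.2 ⟨z, hJTM₀ hz⟩ hz)
      have hzT : ∀ y ∈ J T, ∀ w ∈ Subgroup.zpowers g₀, w * y = y * w := by
        intro y hy w hw
        obtain ⟨i, rfl⟩ := Subgroup.mem_zpowers_iff.1 hw
        exact ((show Commute y g₀ from Subgroup.mem_centralizer_iff.1 hgT y hy).zpow_right i).symm.eq
      have hJY : J Y = im ι Y₂ := by rw [hJim Y hYNY, hβY]
      haveI hJYn' : (J Y).Normal := hJY ▸ hJYn
      have hcY : J Y ⊓ Subgroup.centralizer (J T : Set M) ≤ J T := by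
        rintro _ ⟨⟨y, hy, rfl⟩, hyc⟩
        refine ⟨y, ?_, rfl⟩
        refine centralizerIn_le_of_centric hTc (mem_centralizerIn'.2 ⟨hYR hy, fun t ht => ?_⟩)
        have h1 := Subgroup.mem_centralizer_iff.1 hyc _ ⟨⟨t, hTN₀ ht⟩, ht, rfl⟩
        rw [← map_mul, ← map_mul] at h1
        have h2 := congrArg (fun w : NY => (w : Ω)) (hj h1)
        simp only [Subgroup.coe_mul] at h2
        rw [Subgroup.coe_subtype, ← h2, mul_inv_cancel_right]
      have hgY : Subgroup.zpowers g₀ ≤ Subgroup.centralizer (J Y : Set M) :=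
        CfsgLib.Coprime.le_centralizer_of_inf_centralizer_le (P := J T) (p := p) hJTp
          (by rwa [Nat.card_zpowers])
          (IsPGroup.map ((hS.to_le (normalizerIn_le S Y)).to_subgroup _) j)
          (fun y hy => Subgroup.mem_centralizer_iff.2 fun w hw => hzT y hy w hw)
          (by rw [Subgroup.normalizer_eq_top]; exact le_top)
          (by rw [Subgroup.normalizer_eq_top]; exact le_top)
          (fun y hy => Subgroup.mem_centralizer_iff.2 fun w hw => hzT y (hcY hy) w hw)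
      have hg₀C : g₀ ∈ im ι (centralizerIn (normalizerIn S Y₂) Y₂) := by
        rw [← centralizer_im_eq hM hNFn hNFc, ← hJY]
        exact hgY (Subgroup.mem_zpowers g₀)
      obtain ⟨x, -, hx⟩ := hg₀C
      obtain ⟨n, hn⟩ := (hS.to_le (normalizerIn_le S Y₂)) x
      have h1 : g₀ ^ p ^ n = 1 := by rw [← hx, ← map_pow, hn, map_one]
      have h2 := Nat.eq_one_of_dvd_coprimes (hg.pow_right n) dvd_rfl (orderOf_dvd_of_pow_eq_one h1)
      exact Subtype.ext (Subtype.ext (orderOf_eq_one_iff.1 h2))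
    refine IsPGroup.of_card (n := (Nat.card C).primeFactorsList.length)
      (Nat.eq_prime_pow_of_unique_prime_dvd Nat.card_pos.ne' fun {r} hr hrd => ?_)
    haveI := Fact.mk hr
    obtain ⟨g, hg⟩ := exists_prime_orderOf_dvd_card' r hrd
    by_contra hne
    have := hCcop g (hg ▸ (Nat.coprime_primes hr (Fact.out : p.Prime)).2 hne)
    rw [this, orderOf_one] at hg
    exact hr.one_lt.ne hg
  have hmodel : N.IsModel p M₀ ι₀ := ⟨inferInstance, hreal, ⟨P₁, hsylow⟩, hcen⟩
  obtain ⟨Φ, -⟩ := exists_equiv_models hmodel hL (normSystem_isNormal hTR hN)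
    (normSystem_isCentric hTc hN)
  exact ⟨Y₂, hYY₂, hY₂, hY₂c, NF, hNF, M, inferInstance, ι, hM,
    ConjFunctor.involves_trans (ConjFunctor.involves_subgroup M₀) (ConjFunctor.involves_equiv Φ)⟩

/-- Section freeness passes to the normalizer system of a fully normalized subgroup. -/
theorem isSectionFree_normalizer {Ω : Type u} [Group Ω] {S U : Subgroup Ω} {F : FusionSystem S}
    [Finite S] {p : ℕ} [Fact p.Prime] (hS : IsPGroup p S) (hF : F.IsSaturated p)
    (hU : F.IsFullyNormalized U) {E : FusionSystem (normalizerIn S U)}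
    (hE : F.IsNormalizerSystem U E) {H : Type v} [Group H] (h : F.IsSectionFree p H) :
    E.IsSectionFree p H := by
  intro T hTn hTc N hN L _ ι₁ hL hinv
  obtain ⟨Y₂, -, hY₂, hY₂c, NF, hNF, M, _, ι, hM, hLM⟩ :=
    exists_model_involves hS hF hU hE hTn hTc hN hL
  exact h Y₂ hY₂ hY₂c NF hNF M ι hM (ConjFunctor.involves_trans hLM hinv)

end CfsgLib.WeakClosed
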