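import Cfsg.Agent.WeakClosed.Group
import Cfsg.Agent.WeakClosed.SectionFree
import Cfsg.Agent.FusionThompson.Generation
import Cfsg.Agent.FusionConstrained.Inherit

/-!
Tools for inductions over normalizer systems in `S₄`-free (or odd) saturated systems.
-/

set_option autoImplicit false

universe u

namespace CfsgLib.WeakClosed

open Cfsg Cfsg.FusionSystem CfsgLib.Fusion CfsgLib.FusionThompson

variable {Ω : Type u} [Group Ω] {p : ℕ}

/-- `p` is odd or the system is `S₄`-free. -/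
def FreeSys {M : Subgroup Ω} (p : ℕ) (G : FusionSystem M) : Prop :=
  p ≠ 2 ∨ G.IsSectionFree p (Equiv.Perm (Fin 4))

theorem FreeSys.normalizer {M U : Subgroup Ω} [Finite M] [Fact p.Prime] (hM : IsPGroup p M)
    {G : FusionSystem M} (hG : G.IsSaturated p) (hU : G.IsFullyNormalized U)
    {E : FusionSystem (normalizerIn M U)} (hE : G.IsNormalizerSystem U E) (h : FreeSys p G) :
    FreeSys p E :=
  h.imp id fun h => isSectionFree_normalizer hM hG hU hE h

theorem isFullyNormalized_of_le {M Q : Subgroup Ω} [Finite M] (G : FusionSystem M) (hQ : Q ≤ M)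
    (h : M ≤ Subgroup.normalizer (Q : Set Ω)) : G.IsFullyNormalized Q :=
  ⟨hQ, fun Q' _ => by
    haveI := finite_of_le (normalizerIn_le M Q)
    exact Subgroup.card_le_of_le fun x hx => ⟨hx.1, h hx.1⟩⟩

theorem normalizerIn_eq_self {M Q : Subgroup Ω} (h : M ≤ Subgroup.normalizer (Q : Set Ω)) :
    normalizerIn M Q = M := le_antisymm (normalizerIn_le M Q) (le_inf le_rfl h)

theorem exists_copy {M M' : Subgroup Ω} {E : FusionSystem M'} (e : M' = M) (hs : E.IsSaturated p) :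
    ∃ E' : FusionSystem M, E'.IsSaturated p ∧ ∀ P, E'.Hom P = E.Hom P := by
  subst e
  exact ⟨E, hs, fun _ => rfl⟩

/-- The normalizer system of a subgroup normalised by `M`, as a system on `M`. -/
theorem exists_normSystem_top {M Q : Subgroup Ω} [Finite M] [Fact p.Prime] (hM : IsPGroup p M)
    {G : FusionSystem M} (hG : G.IsSaturated p) (hQ : Q ≤ M)
    (h : M ≤ Subgroup.normalizer (Q : Set Ω)) :
    ∃ E : FusionSystem M, E.IsSaturated p ∧ ∀ P, E.Hom P = G.normalizerHom Q P := by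
  obtain ⟨E, hE⟩ := exists_isNormalizerSystem G hQ
  have hs := isSaturated_normalizerSystem hM hG (isFullyNormalized_of_le G hQ h) hE
  obtain ⟨E', hs', hE'⟩ := exists_copy (normalizerIn_eq_self h) hs
  exact ⟨E', hs', fun P => (hE' P).trans (hE P)⟩

/-- A model of a system with a normal centric subgroup, with `S₄` not involved. -/
theorem exists_model_self {M Q : Subgroup Ω} [Finite M] [Fact p.Prime] (hM : IsPGroup p M)
    {G : FusionSystem M} (hG : G.IsSaturated p) (hQ : G.IsNormal Q) (hQc : G.IsCentric Q)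
    (hfree : FreeSys p G) :
    ∃ (L : Type u) (_ : Group L) (ι : ↥M →* L), G.IsModel p L ι ∧ Adequate p L := by
  obtain ⟨L, _, ι, hL⟩ := exists_model hM hG hQ hQc
  refine ⟨L, inferInstance, ι, hL, hfree.imp id fun h => ?_⟩
  have hn := normal_le_normalizer hQ
  obtain ⟨NF, hNF⟩ := exists_isNormalizerSystem G hQ.1
  let e : ↥(normalizerIn M Q) →* ↥M := Subgroup.inclusion (normalizerIn_le M Q)
  have he : Function.Surjective e := fun x => ⟨⟨x, x.2, hn x.2⟩, rfl⟩
  obtain ⟨hfin, hr, ⟨T, hT⟩, hc⟩ := id hL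
  refine h Q (isFullyNormalized_of_le G hQ.1 hn) hQc NF hNF L (ι.comp e)
    ⟨hfin, ⟨hr.1.comp (Subgroup.inclusion_injective _), fun P hP φ hφ => ?_⟩, ⟨T, ?_⟩, hc⟩
  · rw [hNF P]
    refine ⟨fun h => (hr.2 P (hP.trans (normalizerIn_le M Q)) φ fun x => (hφ x).1).1 h.1,
      fun hg => ?_⟩
    have hφG := (hr.2 P (hP.trans (normalizerIn_le M Q)) φ fun x => (hφ x).1).2 hg
    obtain ⟨ψ, hψ, hψP, hψQ⟩ := exists_normal_extension hQ hφG
    exact ⟨hφG, hP, hφ, ψ, hψ, hψP, hψQ⟩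
  · rw [MonoidHom.range_comp, MonoidHom.range_eq_top.2 he, ← MonoidHom.range_eq_map]
    exact hT

theorem isCentric_of_normal {M Q : Subgroup Ω} [Finite M] {G : FusionSystem M}
    (hQ : G.IsNormal Q) (h : centralizerIn M Q ≤ Q) : G.IsCentric Q :=
  FusionConstrained.isCentric_of_stronglyClosed (stronglyClosed_of_normal hQ) h

/-- A map agrees on a normal subgroup with an automorphism of it. -/
theorem exists_aut_normal {M Q : Subgroup Ω} [Finite M] {G : FusionSystem M} (hQ : G.IsNormal Q)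
    {P : Subgroup Ω} {φ : P →* Ω} (hφ : φ ∈ G.Hom P) :
    ∃ α ∈ G.autGroup Q, ∀ (x : P) (hx : (x : Ω) ∈ Q), φ x = α ⟨x, hx⟩ := by
  obtain ⟨ψ, hψ, hψP, hψQ⟩ := exists_normal_extension hQ hφ
  obtain ⟨e, he, hev⟩ := exists_iso (restrict_mem hψ (le_sup_right : Q ≤ P ⊔ Q))
    ((range_restrictHom ψ le_sup_right).trans hψQ)
  refine ⟨e, he.mem_autGroup, fun x hx => ?_⟩
  rw [hev, restrictHom_apply, ← hψP x]
  rfl

/-- Automorphisms of a normal subgroup extend to automorphisms of `Q C_M(Q)`. -/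
theorem exists_aut_extend {M Q : Subgroup Ω} [Finite M] [Fact p.Prime] (hM : IsPGroup p M)
    {G : FusionSystem M} (hG : G.IsSaturated p) (hQ : G.IsNormal Q) {α : MulAut Q}
    (hα : α ∈ G.autGroup Q) :
    ∃ β ∈ G.autGroup (Q ⊔ centralizerIn M Q), ∀ (x : Q),
      ((β ⟨x, Subgroup.mem_sup_left x.2⟩ : ↥(Q ⊔ centralizerIn M Q)) : Ω) = α x := by
  have hn := normal_le_normalizer hQ
  obtain ⟨-, hr⟩ := automized_receptive hM hG (isFullyNormalized_of_le G hQ.1 hn)
  have hI := (mem_autGroup_iff hQ.1).1 hα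
  have hle : Q ⊔ centralizerIn M Q ≤ extender M Q (Q.subtype.comp α.toMonoidHom) :=
    sup_le (le_extender hQ.1 fun x => hQ.1 (α x).2) (centralizerIn_le_extender _)
  obtain ⟨ω, hω, hωQ⟩ := exists_extension hr hI hle
  have hv : ∀ q : Q, ω ⟨q, Subgroup.mem_sup_left q.2⟩ = (α q : Ω) :=
    fun q => hωQ q (Subgroup.mem_sup_left q.2)
  haveI := finite_of_le (sup_le hQ.1 (centralizerIn_le M Q))
  have hrange : ω.range = Q ⊔ centralizerIn M Q := by
    refine Subgroup.eq_of_le_of_card_ge ?_ (le_of_eq ?_)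
    · rw [← imgHom_self, imgHom_sup ω le_sup_left le_sup_right]
      refine sup_le (le_trans ?_ le_sup_left) (le_trans ?_ le_sup_right)
      · rintro _ ⟨x, hx, rfl⟩
        rw [show ω x = (α ⟨x, hx⟩ : Ω) from hv ⟨x, hx⟩]
        exact (α _).2
      · rintro _ ⟨x, hx, rfl⟩
        obtain ⟨hxM, hxc⟩ := mem_centralizerIn'.1 (hx : (x : Ω) ∈ centralizerIn M Q)
        refine mem_centralizerIn'.2 ⟨apply_mem hω x, fun q hq => ?_⟩
        obtain ⟨q', hq'⟩ := α.surjective ⟨q, hq⟩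
        have hq'v : ω ⟨q', Subgroup.mem_sup_left q'.2⟩ = q := by rw [hv, hq']
        rw [← hq'v, ← map_inv, ← map_mul, ← map_mul]
        exact congrArg ω (Subtype.ext (hxc q' q'.2))
    · exact Nat.card_congr (MonoidHom.ofInjective (G.injective_of_mem hω)).toEquiv
  obtain ⟨β, hβ, hβv⟩ := exists_iso hω hrange
  exact ⟨β, hβ.mem_autGroup, fun q => (hβv _).trans (hv q)⟩

/-- The maximal normal subgroup containing `Z(M)`. -/
theorem exists_max_normal {M : Subgroup Ω} [Finite M] {G : FusionSystem M} {Q₀ : Subgroup Ω}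
    (hQ₀ : G.IsNormal Q₀) (hZ : zIn M ≤ Q₀) :
    ∃ Q, G.IsNormal Q ∧ zIn M ≤ Q ∧ ∀ W, G.IsNormal W → W ≤ Q := by
  have hle : ∀ W, G.IsNormal W → W ≤ G.core := fun W hW => le_sSup hW
  exact ⟨G.core, FusionFactor.isNormal_core G, hZ.trans (hle Q₀ hQ₀), hle⟩

theorem ncard_normSystem_lt {M U : Subgroup Ω} [Finite M] {G : FusionSystem M} (hU : U ≤ M)
    (hUn : ¬ G.IsNormal U) {M' : Subgroup Ω} {E : FusionSystem M'}
    (hE : ∀ P, E.Hom P = G.normalizerHom U P) :
    (mapSet E).ncard < (mapSet G).ncard := by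
  refine Set.ncard_lt_ncard ⟨fun x hx => ((hE x.1) ▸ hx : x.2 ∈ G.normalizerHom U x.1).1,
    fun hle => hUn ⟨hU, fun R ψ hψ => ?_⟩⟩ (mapSet_finite G)
  have h := hle (show (⟨R, ψ⟩ : Σ P : Subgroup Ω, P →* Ω) ∈ mapSet G from hψ)
  exact ((hE R) ▸ h : ψ ∈ G.normalizerHom U R).2.2.2

end CfsgLib.WeakClosed
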