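import Cfsg.Agent.WeakClosed.FusionTools

/-!
Glauberman's theorem on weakly closed central elements for fusion systems: if `p` is odd or the
system is `S₄`-free, an element of `Z(S)` fixed by `Aut_F(J(S))` is fixed by the whole system.
-/

set_option autoImplicit false

universe u

namespace CfsgLib.WeakClosed

open Cfsg Cfsg.FusionSystem CfsgLib.Fusion CfsgLib.FusionThompson

variable {Ω : Type u} [Group Ω] {p : ℕ}

/-- An element of `Z(M)` is fixed if the automorphisms of `M` and of the essential subgroups fix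
it. -/
theorem fixes_of_step {M : Subgroup Ω} [Finite M] [Fact p.Prime] (hM : IsPGroup p M)
    {G : FusionSystem M} (hG : G.IsSaturated p) {x : Ω} (hx : x ∈ zIn M)
    (hstep : ∀ R : Subgroup Ω, G.IsFullyNormalized R → (R = M ∨ G.IsEssential p R) →
      (∀ R' : Subgroup Ω, Nat.card R < Nat.card R' → ∀ φ ∈ G.Hom R', ∀ y : R',
        (y : Ω) = x → φ y = x) → AutFixes G R x) :
    Fixes G x := by
  set Z := Subgroup.zpowers x with hZ
  have hQS : Z ≤ M := Subgroup.zpowers_le.2 hx.1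
  have hcent : ∀ g ∈ M, g * x = x * g := fun g hg => Subgroup.mem_centralizer_iff.1 hx.2 g hg
  have hN : M = kNormalizer M Z ⊥ := by
    rw [kNormalizer_bot, centralizerIn, eq_comm, inf_eq_left]
    intro g hg
    rw [Subgroup.mem_centralizer_iff]
    rintro _ ⟨i, rfl⟩
    exact ((show Commute g x from hcent g hg).zpow_right i).symm.eq
  have hout : ∀ (R : Subgroup Ω) (φ : R →* Ω), φ ∈ (kSystem G hQS ⊥ hN).Hom R →
      ∀ y : R, (y : Ω) = x → φ y = x := by
    rintro R φ ⟨-, -, -, ψ, -, h1, α, hα, h2⟩ y hy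
    rw [← h1 y]
    have := h2 ⟨x, Subgroup.mem_zpowers x⟩
    rw [Subgroup.mem_bot.1 hα] at this
    exact (congrArg ψ (Subtype.ext hy : Subgroup.inclusion (le_sup_left : R ≤ R ⊔ Z) y =
      Subgroup.inclusion (le_sup_right : Z ≤ R ⊔ Z) ⟨x, Subgroup.mem_zpowers x⟩)).trans this
  have hle : G ≤ kSystem G hQS ⊥ hN := by
    refine le_of_essential_step hM hG fun R hR hR' IH α hα => ?_
    have hRc : G.IsCentric R := hR'.elim (fun e => by rw [e]; exact isCentric_self) fun h => h.1
    have hxR : x ∈ R := centralizerIn_le_of_centric hRc (mem_centralizerIn.2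
      ⟨hx.1, fun z hz => hcent z (hR.1 hz)⟩)
    have hfix := hstep R hR hR' fun R' h φ hφ => hout R' φ (IH R' h hφ)
    have hZR : Z ≤ R := Subgroup.zpowers_le.2 hxR
    have hI := (mem_autGroup_iff hR.1).1 hα
    refine (mem_autGroup_iff hR.1).2 ⟨hI, hR.1, fun y => hR.1 (α y).2,
      restrictHom _ (sup_le le_rfl hZR), restrict_mem hI (sup_le le_rfl hZR), fun y => rfl,
      1, rfl, ?_⟩
    rintro ⟨q, i, rfl⟩
    show ((α ⟨x ^ i, _⟩ : R) : Ω) = x ^ i
    rw [show (⟨x ^ i, _⟩ : R) = ⟨x, hxR⟩ ^ i from Subtype.ext rfl, map_zpow,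
      Subgroup.coe_zpow, hfix α hα ⟨x, hxR⟩ rfl]
  exact fun P φ hφ => hout P φ (hle P hφ)

/-- The constrained case. -/
theorem fixes_of_centric {M : Subgroup Ω} [Finite M] [Fact p.Prime] (hM : IsPGroup p M)
    {G : FusionSystem M} (hG : G.IsSaturated p) (hfree : FreeSys p G) {Q : Subgroup Ω}
    (hQ : G.IsNormal Q) (hQc : G.IsCentric Q) {x : Ω} (hx : x ∈ zIn M)
    (hJ : AutFixes G (thompsonSubgroupAOf M) x) : Fixes G x := by
  obtain ⟨L, _, ι, hL, had⟩ := exists_model_self hM hG hQ hQc hfree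
  obtain ⟨hfin, hr, ⟨T, hT⟩, hc⟩ := id hL
  haveI := hfin
  have hJM : thompsonSubgroupAOf M ≤ M := PLocal.thompsonSubgroupAOf_le M
  have hxJ : x ∈ thompsonSubgroupAOf M := zIn_le_thompson hx
  have himJ : im ι (thompsonSubgroupAOf M) = thompsonSubgroupAOf (T : Subgroup L) := by
    rw [hT]; exact im_thompsonSubgroupAOf hr.1
  have hcen : ι ⟨x, hx.1⟩ ∈ Subgroup.center L := by
    refine mem_center_of_thompson T hc had (hT ▸ ⟨_, rfl⟩) fun g hg => ?_
    have hgJ : (im ι (thompsonSubgroupAOf M)).map (MulAut.conj g).toMonoidHom =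
        im ι (thompsonSubgroupAOf M) := by
      rw [himJ]; exact Subgroup.mem_normalizer_iff_map_conj_eq.1 hg
    obtain ⟨e, he, hev⟩ := exists_iso_of_conj hr hJM hJM hgJ
    refine Subgroup.mem_centralizer_singleton_iff.2 ?_
    have h1 := hev ⟨x, hxJ⟩
    rw [show (⟨((e ⟨x, hxJ⟩ : thompsonSubgroupAOf M) : Ω), hJM (e ⟨x, hxJ⟩).2⟩ : M) = ⟨x, hx.1⟩
      from Subtype.ext (hJ e he.mem_autGroup ⟨x, hxJ⟩ rfl)] at h1
    exact (eq_mul_inv_iff_mul_eq.1 h1).symm
  intro P φ hφ y hy
  obtain ⟨g, hg⟩ := (hr.2 P (le_left hφ) φ fun z => apply_mem hφ z).1 hφ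
  have h1 := hg y
  rw [show (⟨(y : Ω), le_left hφ y.2⟩ : M) = ⟨x, hx.1⟩ from Subtype.ext hy,
    Subgroup.mem_center_iff.1 hcen g, mul_inv_cancel_right] at h1
  exact congrArg Subtype.val (hr.1 h1)

/-- Glauberman's theorem: an element of `Z(M)` fixed by `Aut(J(M))` is fixed by all maps. -/
theorem fixes_of_thompson {M : Subgroup Ω} [Finite M] [Fact p.Prime] (hM : IsPGroup p M)
    {G : FusionSystem M} (hG : G.IsSaturated p) (hfree : FreeSys p G) {x : Ω} (hx : x ∈ zIn M)
    (hJ : AutFixes G (thompsonSubgroupAOf M) x) : Fixes G x := by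
  obtain ⟨k, hk⟩ : ∃ k, (mapSet G).ncard = k := ⟨_, rfl⟩
  induction k using Nat.strong_induction_on generalizing M with
  | _ k ih =>
  classical
  replace ih : ∀ m < k, ∀ {M : Subgroup Ω} [Finite M] (_ : IsPGroup p M) (G : FusionSystem M),
      G.IsSaturated p → FreeSys p G → (mapSet G).ncard = m → x ∈ zIn M →
      AutFixes G (thompsonSubgroupAOf M) x → Fixes G x :=
    fun m hm M _ hM G hG hf hk hx hJ => ih m hm hM hG hf hx hJ hk
  have hIH : ∀ U : Subgroup Ω, G.IsFullyNormalized U → ¬ G.IsNormal U →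
      AutFixes G (thompsonSubgroupAOf (normalizerIn M U)) x →
      ∀ (P : Subgroup Ω) (φ : P →* Ω), φ ∈ G.normalizerHom U P → ∀ y : P,
        (y : Ω) = x → φ y = x := by
    intro U hU hUn hUJ P φ hφ
    obtain ⟨E, hE⟩ := exists_isNormalizerSystem G hU.1
    haveI := finite_of_le (normalizerIn_le M U)
    have hsub := normSystem_le hE
    exact ih _ (hk ▸ ncard_normSystem_lt hU.1 hUn hE) (hM.to_le (normalizerIn_le M U)) E
      (isSaturated_normalizerSystem hM hG hU hE) (hfree.normalizer hM hG hU hE) rfl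
      (zIn_le_zIn_normalizerIn hU.1 hx)
      (fun α hα => hUJ α (autGroup_mono hsub _ hα)) P φ ((hE P).symm ▸ hφ)
  by_cases hA : ∃ Q₀, G.IsNormal Q₀ ∧ zIn M ≤ Q₀
  · obtain ⟨Q₀, hQ₀, hZ₀⟩ := hA
    obtain ⟨Q, hQ, hZQ, hmax⟩ := exists_max_normal hQ₀ hZ₀
    by_cases hC : centralizerIn M Q ≤ Q
    · exact fixes_of_centric hM hG hfree hQ (isCentric_of_normal hQ hC) hx hJ
    set R := Q ⊔ centralizerIn M Q with hR
    have hMQ := normal_le_normalizer hQ
    have hMR : M ≤ Subgroup.normalizer (R : Set Ω) :=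
      le_normalizer_sup hMQ (le_normalizer_centralizerIn hMQ)
    have hRM : R ≤ M := sup_le hQ.1 (centralizerIn_le M Q)
    have hRn : ¬ G.IsNormal R := fun h => hC (le_trans le_sup_right (hmax R h))
    have hfix := hIH R (isFullyNormalized_of_le G hRM hMR) hRn
      (by rw [normalizerIn_eq_self hMR]; exact hJ)
    intro P φ hφ y hy
    obtain ⟨α, hα, hαv⟩ := exists_aut_normal hQ hφ
    obtain ⟨β, hβ, hβv⟩ := exists_aut_extend hM hG hQ hα
    have hxQ : (y : Ω) ∈ Q := hy ▸ hZQ hx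
    rw [hαv y hxQ, ← hβv ⟨y, hxQ⟩]
    exact hfix R _ (aut_mem_normalizerHom hRM hβ) ⟨y, Subgroup.mem_sup_left hxQ⟩ hy
  push Not at hA
  have hclaim : ∀ (d : ℕ) (U : Subgroup Ω) (b : ℕ),
      Nat.card M - Nat.card (normalizerIn M U) ≤ d → G.IsFullyNormalized U → ¬ G.IsNormal U →
      b ≤ Nat.card (normalizerIn M U) →
      (∀ R : Subgroup Ω, b < Nat.card R → ∀ φ ∈ G.Hom R, ∀ y : R, (y : Ω) = x → φ y = x) →
      ∀ (P : Subgroup Ω) (φ : P →* Ω), φ ∈ G.normalizerHom U P → ∀ y : P,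
        (y : Ω) = x → φ y = x := by
    intro d
    induction d using Nat.strong_induction_on with
    | _ d ihd =>
    intro U b hd hU hUn hb habove
    refine hIH U hU hUn ?_
    set N := normalizerIn M U with hN
    by_cases hNM : N = M
    · rw [hNM]; exact hJ
    haveI := finite_of_le (normalizerIn_le M U)
    set W := thompsonSubgroupAOf N with hW
    have hWN : W ≤ N := PLocal.thompsonSubgroupAOf_le N
    have hWM : W ≤ M := hWN.trans (normalizerIn_le M U)
    have hlt : Nat.card N < Nat.card (normalizerIn M W) :=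
      card_normalizerIn_lt_of_char hM hNM hWN (thompsonSubgroupAOf_char N)
    have hWn : ¬ G.IsNormal W := fun h =>
      hA W h ((zIn_le_zIn_normalizerIn hU.1).trans zIn_le_thompson)
    obtain ⟨W', hconj, hW'⟩ := exists_fullyNormalized (F := G) hWM
    obtain ⟨hW'a, hW'r⟩ := automized_receptive hM hG hW'
    obtain ⟨β, hβ, hβN, hβW⟩ := exists_map_normalizerIn hM hW'a hW'r hconj
    have h1 : Nat.card (normalizerIn M W) ≤ Nat.card (normalizerIn M W') :=
      card_normalizerIn_le hβ hβN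
    have h2 : Nat.card (normalizerIn M W') ≤ Nat.card M :=
      Subgroup.card_le_of_le (normalizerIn_le M W')
    have hd' : Nat.card M - Nat.card (normalizerIn M W') < d := lt_of_lt_of_le (by omega) hd
    have hfix := ihd _ hd' W' b le_rfl hW' (not_isNormal_of_conj hconj hWn) (by omega) habove
    intro α hα y hy
    have hWle : W ≤ normalizerIn M W := le_normalizerIn hWM
    obtain ⟨e, he, hev⟩ := exists_iso (restrict_mem hβ hWle)
      ((range_restrictHom β hWle).trans hβW)
    have hey : (e y : Ω) = x := by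
      rw [hev, restrictHom_apply]
      exact habove _ (by omega) β hβ _ hy
    have hγ : MulAut.congr e α ∈ G.autGroup W' := congr_mem_autGroup he hα
    have h3 : ((MulAut.congr e α) (e y) : Ω) = x :=
      hfix W' _ (aut_mem_normalizerHom hW'.1 hγ) (e y) hey
    rw [congr_apply] at h3
    exact (congrArg Subtype.val (e.injective (Subtype.ext (h3.trans hey.symm)))).trans hy
  refine fixes_of_step hM hG hx fun R hR hR' habove => ?_
  rcases hR' with rfl | hess
  · intro α hα y hy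
    obtain ⟨β, hβ, hβv⟩ := exists_aut_restrict le_rfl (PLocal.thompsonSubgroupAOf_le R)
      (thompsonSubgroupAOf_char R) hα
    have hxJ : (y : Ω) ∈ thompsonSubgroupAOf R := hy ▸ zIn_le_thompson hx
    have h := hβv ⟨y, hxJ⟩
    rw [hJ β hβ ⟨y, hxJ⟩ hy] at h
    exact h.symm
  · have hZR : zIn M ≤ R := fun z hz => centralizerIn_le_of_centric hess.1 (mem_centralizerIn.2
      ⟨hz.1, fun w hw => Subgroup.mem_centralizer_iff.1 hz.2 w (hR.1 hw)⟩)
    haveI := finite_of_le (normalizerIn_le M R)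
    intro α hα
    exact hclaim _ R (Nat.card R) le_rfl hR (fun h => hA R h hZR)
      (Subgroup.card_le_of_le (le_normalizerIn hR.1)) habove R _ (aut_mem_normalizerHom hR.1 hα)

/-- `Z(M)` is central if `Aut(J(M))` fixes it. -/
theorem isCentral_of_thompson {M : Subgroup Ω} [Finite M] [Fact p.Prime] (hM : IsPGroup p M)
    {G : FusionSystem M} (hG : G.IsSaturated p) (hfree : FreeSys p G)
    (hJ : ∀ x ∈ zIn M, AutFixes G (thompsonSubgroupAOf M) x) : G.IsCentral (zIn M) :=
  isCentral_of_forall hM hG inf_le_left fun x hx _ ⟨φ, hφ, h⟩ =>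
    h ▸ fixes_of_thompson hM hG hfree hx (hJ x hx) _ φ hφ _ rfl

end CfsgLib.WeakClosed
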