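import Cfsg.Agent.WeakClosed.FusionFixed
import Cfsg.Agent.FusionFactor.Elementary

/-!
The centre of a saturated system and the centre of the normalizer of `J(S)`.
-/

set_option autoImplicit false

universe u

namespace CfsgLib.WeakClosed

open Cfsg Cfsg.FusionSystem CfsgLib.Fusion CfsgLib.FusionThompson

variable {Ω : Type u} [Group Ω] {p : ℕ}

/-- A `p`-th power in `Z(M)` fixed by `Aut(J(M))` is fixed by all maps, without conditions on
`p`. -/
theorem fixes_of_agemo {M : Subgroup Ω} [Finite M] [Fact p.Prime] (hM : IsPGroup p M)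
    {G : FusionSystem M} (hG : G.IsSaturated p) {x : Ω} (hx : x ∈ agemoZ p M)
    (hJ : AutFixes G (thompsonSubgroupAOf M) x) : Fixes G x := by
  have hxZ : x ∈ zIn M := agemoZ_le_zIn p M hx
  set Z := Subgroup.zpowers x with hZ
  have hQS : Z ≤ M := Subgroup.zpowers_le.2 hxZ.1
  have hcent : ∀ g ∈ M, g * x = x * g := fun g hg => Subgroup.mem_centralizer_iff.1 hxZ.2 g hg
  have hN : M = kNormalizer M Z ⊥ := by
    rw [kNormalizer_bot, centralizerIn, eq_comm, inf_eq_left]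
    intro g hg
    rw [Subgroup.mem_centralizer_iff]
    rintro _ ⟨i, rfl⟩
    exact ((show Commute g x from hcent g hg).zpow_right i).symm.eq
  have hsub : G.IsSubsystemOf (kSystem G hQS ⊥ hN) := by
    refine subset_of_parts (mapSet G).ncard hM G hG rfl _ ?_ ?_
    · rintro P φ ⟨hφ, -, -, ψ, hψ, h1, h2⟩
      have hle : P ⊔ Z ≤ P ⊔ agemoZ p M := sup_le_sup_left (Subgroup.zpowers_le.2 hx) P
      exact ⟨hφ, le_left hφ, apply_mem hφ, restrictHom ψ hle, restrict_mem hψ hle, fun y => h1 y,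
        1, rfl, fun q => h2 ⟨(q : Ω), Subgroup.zpowers_le.2 hx q.2⟩⟩
    · rintro P φ ⟨hφ, -, -, ψ, hψ, h1, h2⟩
      have hxJ : x ∈ thompsonSubgroupAOf M := zIn_le_thompson hxZ
      have hle : P ⊔ Z ≤ P ⊔ thompsonSubgroupAOf M :=
        sup_le_sup_left (Subgroup.zpowers_le.2 hxJ) P
      obtain ⟨α, hα, hαv⟩ := exists_iso (restrict_mem hψ
        (le_sup_right : thompsonSubgroupAOf M ≤ P ⊔ thompsonSubgroupAOf M))
        ((range_restrictHom ψ _).trans h2)
      have hfix : ψ ⟨x, Subgroup.mem_sup_right hxJ⟩ = x := by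
        have := hαv ⟨x, hxJ⟩
        rw [hJ α hα.mem_autGroup ⟨x, hxJ⟩ rfl] at this
        exact this.symm
      refine ⟨hφ, le_left hφ, apply_mem hφ, restrictHom ψ hle, restrict_mem hψ hle,
        fun y => h1 y, 1, rfl, ?_⟩
      rintro ⟨q, i, rfl⟩
      show ψ ⟨x ^ i, _⟩ = x ^ i
      rw [show (⟨x ^ i, _⟩ : ↥(P ⊔ thompsonSubgroupAOf M)) = ⟨x, Subgroup.mem_sup_right hxJ⟩ ^ i
        from Subtype.ext rfl, map_zpow, hfix]
  intro P φ hφ y hy
  obtain ⟨-, -, -, ψ, -, h1, α, hα, h2⟩ := hsub P hφ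
  rw [← h1 y]
  have := h2 ⟨x, Subgroup.mem_zpowers x⟩
  rw [Subgroup.mem_bot.1 hα] at this
  exact (congrArg ψ (Subtype.ext hy : Subgroup.inclusion (le_sup_left : P ≤ P ⊔ Z) y =
    Subgroup.inclusion (le_sup_right : Z ≤ P ⊔ Z) ⟨x, Subgroup.mem_zpowers x⟩)).trans this

theorem mem_center_of_fixes {M : Subgroup Ω} [Finite M] [Fact p.Prime] (hM : IsPGroup p M)
    {G : FusionSystem M} (hG : G.IsSaturated p) {x : Ω} (hx : x ∈ M) (h : Fixes G x) :
    x ∈ G.center := by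
  refine le_sSup (α := Subgroup Ω) (a := Subgroup.zpowers x) ?_ (Subgroup.mem_zpowers x)
  have hQS : Subgroup.zpowers x ≤ M := Subgroup.zpowers_le.2 hx
  have hcent : ∀ g ∈ M, g * x = x * g := fun g hg => by
    have h1 : g * x * g⁻¹ = x := h M (conjHom M g) (G.conj_mem le_rfl hg) ⟨x, hx⟩ rfl
    rwa [mul_inv_eq_iff_eq_mul] at h1
  have hN : M = kNormalizer M (Subgroup.zpowers x) ⊥ := by
    rw [kNormalizer_bot, centralizerIn, eq_comm, inf_eq_left]
    intro g hg
    rw [Subgroup.mem_centralizer_iff]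
    rintro _ ⟨i, rfl⟩
    exact ((show Commute g x from hcent g hg).zpow_right i).symm.eq
  have hle : G ≤ kSystem G hQS ⊥ hN := by
    refine le_of_essential hM hG fun P hP α hα => ?_
    have hPc : G.IsCentric P := hP.elim (fun e => by rw [e]; exact isCentric_self) fun h => h.1
    have hxP : x ∈ P := centralizerIn_le_of_centric hPc
      (mem_centralizerIn.2 ⟨hx, fun z hz => hcent z (hPc.1 hz)⟩)
    have hI := (mem_autGroup_iff hPc.1).1 hα
    have hQP : Subgroup.zpowers x ≤ P := Subgroup.zpowers_le.2 hxP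
    refine (mem_autGroup_iff hPc.1).2 ⟨hI, hPc.1, fun y => hPc.1 (α y).2,
      restrictHom _ (sup_le le_rfl hQP), restrict_mem hI (sup_le le_rfl hQP), fun y => rfl,
      1, rfl, ?_⟩
    rintro ⟨q, i, rfl⟩
    show ((α ⟨x ^ i, _⟩ : P) : Ω) = x ^ i
    rw [show (⟨x ^ i, _⟩ : P) = ⟨x, hxP⟩ ^ i from Subtype.ext rfl, map_zpow, Subgroup.coe_zpow]
    exact congrArg (· ^ i) (h P _ hI ⟨x, hxP⟩ rfl)
  refine ⟨hQS, fun P φ hφ => ?_⟩
  obtain ⟨-, -, -, ψ, hψ, h1, α, hα, h2⟩ := hle P hφ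
  exact ⟨ψ, hψ, h1, fun q => by rw [h2 q, Subgroup.mem_bot.1 hα]; rfl⟩

theorem fixes_of_mem_center {M : Subgroup Ω} [Finite M] {G : FusionSystem M} {x : Ω}
    (hx : x ∈ G.center) : Fixes G x := by
  intro P φ hφ y hy
  obtain ⟨ψ, -, h1, h2⟩ := (CfsgLib.FusionFactor.isCentral_center G).2 P φ hφ
  rw [← h1 y]
  exact (congrArg ψ (Subtype.ext hy : Subgroup.inclusion (le_sup_left : P ≤ P ⊔ G.center) y =
    Subgroup.inclusion (le_sup_right : G.center ≤ P ⊔ G.center) ⟨x, hx⟩)).trans (h2 ⟨x, hx⟩)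

/-- An element of the centre of the normalizer of `J(M)` lies in `Z(M)` and is fixed by
`Aut(J(M))`. -/
theorem autFixes_of_mem_center {M : Subgroup Ω} [Finite M] {G : FusionSystem M}
    {N : FusionSystem (normalizerIn M (thompsonSubgroupAOf M))}
    (hN : G.IsNormalizerSystem (thompsonSubgroupAOf M) N) {x : Ω} (hx : x ∈ N.center) :
    x ∈ zIn M ∧ AutFixes G (thompsonSubgroupAOf M) x := by
  haveI := finite_of_le (normalizerIn_le M (thompsonSubgroupAOf M))
  have hfix := fixes_of_mem_center hx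
  have hJM : thompsonSubgroupAOf M ≤ M := PLocal.thompsonSubgroupAOf_le M
  have heq : normalizerIn M (thompsonSubgroupAOf M) = M := normalizerIn_eq_self
    (Subgroup.le_normalizer.trans (PLocal.normalizer_le_normalizer_thompsonSubgroupAOf _))
  have hxM : x ∈ M := heq.le ((CfsgLib.FusionFactor.isCentral_center N).1 hx)
  refine ⟨⟨hxM, Subgroup.mem_centralizer_iff.2 fun g hg => ?_⟩, fun α hα y hy =>
    hfix _ _ ((hN _).symm ▸ aut_mem_normalizerHom hJM hα) y hy⟩
  have h1 : g * x * g⁻¹ = x :=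
    hfix _ (conjHom _ g) (N.conj_mem le_rfl (heq.ge hg)) ⟨x, heq.ge hxM⟩ rfl
  rwa [mul_inv_eq_iff_eq_mul] at h1

end CfsgLib.WeakClosed
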