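import Cfsg.Agent.WeakClosed.FusionFixed

/-!
Criteria for a saturated system to be the inner system of its `p`-group: Thompson's criterion and
the criterion with characteristic subgroups (`p` odd or `S₄`-free).
-/

set_option autoImplicit false

universe u

namespace CfsgLib.WeakClosed

open Cfsg Cfsg.FusionSystem CfsgLib.Fusion CfsgLib.FusionThompson

variable {Ω : Type u} [Group Ω] {p : ℕ}

/-- All maps of the system are inner. -/
def AllInner {M : Subgroup Ω} (G : FusionSystem M) : Prop :=
  ∀ (P : Subgroup Ω) (φ : P →* Ω), φ ∈ G.Hom P → φ ∈ (innerFusionSystem M).Hom P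

theorem AllInner.hom_eq {M : Subgroup Ω} {G : FusionSystem M} (h : AllInner G) (P : Subgroup Ω) :
    G.Hom P = (innerFusionSystem M).Hom P :=
  Set.Subset.antisymm (h P) fun _ ⟨hP, _, hg, hv⟩ => conj_mem' hP hg hv

theorem inner_mono {M N : Subgroup Ω} (h : N ≤ M) (P : Subgroup Ω) :
    (innerFusionSystem N).Hom P ⊆ (innerFusionSystem M).Hom P :=
  fun _ ⟨hP, g, hg, hv⟩ => ⟨hP.trans h, g, h hg, hv⟩

/-- Maps normalising a subgroup inside are inner, so its automorphisms are induced. -/
theorem induced_of_normalizer_inner {M W : Subgroup Ω} {G : FusionSystem M} (hW : W ≤ M)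
    (h : ∀ (P : Subgroup Ω) (φ : P →* Ω), φ ∈ G.normalizerHom W P →
      φ ∈ (innerFusionSystem M).Hom P) : G.autGroup W ≤ autInducedBy M W :=
  fun _ hα => induced_of_inner hW (h W _ (aut_mem_normalizerHom hW hα))

theorem zIn_central_of_induced {M : Subgroup Ω} [Finite M] [Fact p.Prime] (hM : IsPGroup p M)
    {G : FusionSystem M} (hG : G.IsSaturated p) (hfree : FreeSys p G)
    (h : G.autGroup (thompsonSubgroupAOf M) ≤ autInducedBy M (thompsonSubgroupAOf M)) :
    G.IsCentral (zIn M) :=
  isCentral_of_thompson hM hG hfree fun x hx α hα y hy => by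
    obtain ⟨g, hg, -, hv⟩ := mem_autInducedBy_iff.1 (h hα)
    rw [hv y, hy, Subgroup.mem_centralizer_iff.1 hx.2 g hg, mul_inv_cancel_right]

/-- Thompson's criterion: if `N(J(M))` and `C(Z(M))` are inner, so is the system. -/
theorem allInner_of_thompson {M : Subgroup Ω} [Finite M] [Fact p.Prime] (hM : IsPGroup p M)
    {G : FusionSystem M} (hG : G.IsSaturated p) (hfree : FreeSys p G)
    (hN : ∀ (P : Subgroup Ω) (φ : P →* Ω), φ ∈ G.normalizerHom (thompsonSubgroupAOf M) P →
      φ ∈ (innerFusionSystem M).Hom P)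
    (hC : ∀ (P : Subgroup Ω) (φ : P →* Ω), φ ∈ G.centralizerHom (zIn M) P →
      φ ∈ (innerFusionSystem M).Hom P) : AllInner G := by
  have hJM : thompsonSubgroupAOf M ≤ M := PLocal.thompsonSubgroupAOf_le M
  have hZ := zIn_central_of_induced hM hG hfree (induced_of_normalizer_inner hJM hN)
  intro P φ hφ
  have hle : ∀ z ∈ M, z ∈ centralizerIn M (zIn M) := fun z hz =>
    mem_centralizerIn.2 ⟨hz, fun w hw => (Subgroup.mem_centralizer_iff.1 hw.2 z hz).symm⟩
  obtain ⟨ψ, hψ, h1, h2⟩ := hZ.2 P φ hφ
  exact hC P φ ⟨hφ, fun z hz => hle z (le_left hφ hz), fun z => hle _ (apply_mem hφ z),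
    ψ, hψ, h1, h2⟩

/-- A system with a normal centric subgroup satisfying the characteristic subgroup hypothesis. -/
theorem allInner_of_centric {M : Subgroup Ω} [Finite M] [Fact p.Prime] (hM : IsPGroup p M)
    {G : FusionSystem M} (hG : G.IsSaturated p) (hfree : FreeSys p G) {Q : Subgroup Ω}
    (hQ : G.IsNormal Q) (hQc : G.IsCentric Q)
    (h : ∀ W ≤ M, (W.subgroupOf M).Characteristic → IsPGroup p (G.autGroup W)) : AllInner G := by
  obtain ⟨L, _, ι, hL, had⟩ := exists_model_self hM hG hQ hQc hfree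
  obtain ⟨hfin, hr, ⟨T, hT⟩, hc⟩ := id hL
  haveI := hfin
  have hchar : CharCentral p (T : Subgroup L) := by
    intro W hW hWc g hg hgp
    obtain ⟨W₀, hW₀, himW⟩ := exists_im_eq (hW.trans hT.le)
    have hW₀c : (W₀.subgroupOf M).Characteristic := by
      refine Subgroup.characteristic_iff_le_comap.2 fun α w hw => ?_
      let e : ↥M ≃* ↥(T : Subgroup L) :=
        (MonoidHom.ofInjective hr.1).trans (MulEquiv.subgroupCongr hT.symm)
      have he : ∀ m, ((e m : ↥(T : Subgroup L)) : L) = ι m := fun m => rfl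
      have hew : e w ∈ W.subgroupOf (T : Subgroup L) := by
        rw [Subgroup.mem_subgroupOf, he, ← himW]
        exact (apply_mem_im_iff hr.1).2 hw
      have := Subgroup.characteristic_iff_le_comap.1 hWc (e.symm.trans (α.trans e)) hew
      rw [Subgroup.mem_comap, Subgroup.mem_subgroupOf] at this
      simp only [MulEquiv.coe_toMonoidHom, MulEquiv.trans_apply, MulEquiv.symm_apply_apply, he,
        ← himW] at this
      exact (apply_mem_im_iff hr.1).1 this
    have hmap : (im ι W₀).map (MulAut.conj g).toMonoidHom = im ι W₀ := by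
      rw [himW]; exact Subgroup.mem_normalizer_iff_map_conj_eq.1 hg
    obtain ⟨e, he, hev⟩ := exists_iso_of_conj hr hW₀ hW₀ hmap
    have hpow : ∀ (k : ℕ) (y : W₀), ι ⟨((e : MulAut W₀) ^ k) y, hW₀ (((e : MulAut W₀) ^ k) y).2⟩ =
        g ^ k * ι ⟨y, hW₀ y.2⟩ * (g ^ k)⁻¹ := by
      intro k
      induction k with
      | zero => intro y; simp
      | succ k ihk =>
        intro y
        have h1 := ihk (e y)
        rw [hev y] at h1
        have h2 : ((e : MulAut W₀) ^ (k + 1)) y = ((e : MulAut W₀) ^ k) (e y) := by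
          rw [pow_succ]; rfl
        rw [show (⟨_, hW₀ (((e : MulAut W₀) ^ (k + 1)) y).2⟩ : M) =
          ⟨_, hW₀ (((e : MulAut W₀) ^ k) (e y)).2⟩ from Subtype.ext (congrArg (fun z : W₀ => (z : Ω)) h2 :), h1,
          pow_succ]
        group
    have hone : (e : MulAut W₀) ^ orderOf g = 1 := MulEquiv.ext fun y => by
      have h1 := hpow (orderOf g) y
      rw [pow_orderOf_eq_one, one_mul, inv_one, mul_one] at h1
      exact Subtype.ext (congrArg Subtype.val (hr.1 h1) :)
    have he1 : (e : MulAut W₀) = 1 := eq_one_of_coprime_of_mem (h W₀ hW₀ hW₀c) he.mem_autGroup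
      (hgp.coprime_dvd_left (orderOf_dvd_of_pow_eq_one hone))
    refine Subgroup.mem_centralizer_iff.2 fun v hv => ?_
    rw [← himW] at hv
    obtain ⟨m, hm, rfl⟩ := hv
    have h1 := hev ⟨(m : Ω), hm⟩
    rw [show (⟨((e ⟨(m : Ω), hm⟩ : W₀) : Ω), hW₀ (e ⟨(m : Ω), hm⟩).2⟩ : M) = m from
      Subtype.ext (by rw [he1]; rfl)] at h1
    exact eq_mul_inv_iff_mul_eq.1 h1
  have htop := sylow_eq_top_of_charCentral T hc had hchar
  intro P φ hφ
  obtain ⟨g, hg⟩ := (hr.2 P (le_left hφ) φ fun z => apply_mem hφ z).1 hφ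
  obtain ⟨m, rfl⟩ : g ∈ ι.range := by rw [← hT, htop]; exact Subgroup.mem_top g
  refine ⟨le_left hφ, m, m.2, fun y => ?_⟩
  have h1 := hg y
  rw [← map_inv, ← map_mul, ← map_mul] at h1
  exact congrArg Subtype.val (hr.1 h1)

/-- In the absence of centric normal subgroups, automorphisms of subgroups of a maximal normal
subgroup are induced when the normalizer of `Q C_M(Q)` is inner. -/
theorem induced_of_le_normal {M Q : Subgroup Ω} [Finite M] [Fact p.Prime] (hM : IsPGroup p M)
    {G : FusionSystem M} (hG : G.IsSaturated p) (hQ : G.IsNormal Q)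
    (hR : ∀ (P : Subgroup Ω) (φ : P →* Ω), φ ∈ G.normalizerHom (Q ⊔ centralizerIn M Q) P →
      φ ∈ (innerFusionSystem M).Hom P)
    {W : Subgroup Ω} (hW : W ≤ Q) : G.autGroup W ≤ autInducedBy M W := by
  intro α hα
  obtain ⟨β, hβ, hβv⟩ := exists_aut_normal hQ ((mem_autGroup_iff (hW.trans hQ.1)).1 hα)
  obtain ⟨γ, hγ, hγv⟩ := exists_aut_extend hM hG hQ hβ
  obtain ⟨-, g, hg, hv⟩ := hR _ _
    (aut_mem_normalizerHom (sup_le hQ.1 (centralizerIn_le M Q)) hγ)
  refine Subgroup.subset_closure ⟨g, hg, fun x => ?_⟩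
  have h1 : (α x : Ω) = β ⟨x, hW x.2⟩ := hβv x (hW x.2)
  rw [h1, ← hγv ⟨x, hW x.2⟩]
  exact hv _

/-- The criterion with characteristic subgroups. -/
theorem allInner_of_char {M : Subgroup Ω} [Finite M] [Fact p.Prime] (hM : IsPGroup p M)
    {G : FusionSystem M} (hG : G.IsSaturated p) (hfree : FreeSys p G)
    (h : ∀ W ≤ M, (W.subgroupOf M).Characteristic → IsPGroup p (G.autGroup W)) : AllInner G := by
  obtain ⟨k, hk⟩ : ∃ k, (mapSet G).ncard = k := ⟨_, rfl⟩
  induction k using Nat.strong_induction_on generalizing M with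
  | _ k ih =>
  classical
  have hJM : thompsonSubgroupAOf M ≤ M := PLocal.thompsonSubgroupAOf_le M
  have hMJ : M ≤ Subgroup.normalizer (thompsonSubgroupAOf M : Set Ω) :=
    Subgroup.le_normalizer.trans (PLocal.normalizer_le_normalizer_thompsonSubgroupAOf _)
  have hZ := zIn_central_of_induced hM hG hfree (autGroup_le_induced
    (automized_receptive hM hG (isFullyNormalized_of_le G hJM hMJ)).1
    (h _ hJM (thompsonSubgroupAOf_char M)))
  obtain ⟨Q, hQ, -, hmax⟩ := exists_max_normal (isNormal_of_isCentral hZ) le_rfl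
  by_cases hC : centralizerIn M Q ≤ Q
  · exact allInner_of_centric hM hG hfree hQ (isCentric_of_normal hQ hC) h
  set R := Q ⊔ centralizerIn M Q with hR
  have hMQ := normal_le_normalizer hQ
  have hMR : M ≤ Subgroup.normalizer (R : Set Ω) :=
    le_normalizer_sup hMQ (le_normalizer_centralizerIn hMQ)
  have hRM : R ≤ M := sup_le hQ.1 (centralizerIn_le M Q)
  have hRn : ¬ G.IsNormal R := fun h' => hC (le_trans le_sup_right (hmax R h'))
  have hIH : ∀ U, G.IsFullyNormalized U → ¬ G.IsNormal U →
      (∀ W ≤ normalizerIn M U, (W.subgroupOf (normalizerIn M U)).Characteristic →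
        IsPGroup p (G.autGroup W)) →
      ∀ (P : Subgroup Ω) (φ : P →* Ω), φ ∈ G.normalizerHom U P →
        φ ∈ (innerFusionSystem M).Hom P := by
    intro U hU hUn hUW P φ hφ
    obtain ⟨E, hE⟩ := exists_isNormalizerSystem G hU.1
    haveI := finite_of_le (normalizerIn_le M U)
    have hsub := normSystem_le hE
    refine inner_mono (normalizerIn_le M U) P ?_
    exact ih _ (hk ▸ ncard_normSystem_lt hU.1 hUn hE) (hM.to_le (normalizerIn_le M U))
      (isSaturated_normalizerSystem hM hG hU hE) (hfree.normalizer hM hG hU hE)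
      (fun W hW hWc => (hUW W hW hWc).to_le (autGroup_mono hsub W)) rfl P φ ((hE P).symm ▸ hφ)
  have hRin := hIH R (isFullyNormalized_of_le G hRM hMR) hRn
    (by rw [normalizerIn_eq_self hMR]; exact h)
  have hclaim : ∀ (d : ℕ) (U : Subgroup Ω),
      Nat.card M - Nat.card (normalizerIn M U) ≤ d → G.IsFullyNormalized U → ¬ G.IsNormal U →
      ∀ (P : Subgroup Ω) (φ : P →* Ω), φ ∈ G.normalizerHom U P →
        φ ∈ (innerFusionSystem M).Hom P := by
    intro d
    induction d using Nat.strong_induction_on with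
    | _ d ihd =>
    intro U hd hU hUn
    refine hIH U hU hUn ?_
    by_cases hNM : normalizerIn M U = M
    · rw [hNM]; exact h
    intro W hWN hWc
    haveI := finite_of_le (normalizerIn_le M U)
    have hWM : W ≤ M := hWN.trans (normalizerIn_le M U)
    by_cases hWn : G.IsNormal W
    · exact (isPGroup_autInducedBy hM W).to_le
        (induced_of_le_normal hM hG hQ hRin (hmax W hWn))
    have hlt := card_normalizerIn_lt_of_char hM hNM hWN hWc
    obtain ⟨W', hconj, hW'⟩ := exists_fullyNormalized (F := G) hWM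
    have h1 : Nat.card (normalizerIn M W) ≤ Nat.card (normalizerIn M W') :=
      hW'.2 W (isConj_symm hconj)
    have h2 : Nat.card (normalizerIn M W') ≤ Nat.card M :=
      Subgroup.card_le_of_le (normalizerIn_le M W')
    have hd' : Nat.card M - Nat.card (normalizerIn M W') < d := lt_of_lt_of_le (by omega) hd
    have hW'p : IsPGroup p (G.autGroup W') := (isPGroup_autInducedBy hM W').to_le
      (induced_of_normalizer_inner hW'.1
        (ihd _ hd' W' le_rfl hW' (not_isNormal_of_conj hconj hWn)))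
    obtain ⟨e, he⟩ := isConj_iff.1 (isConj_symm hconj)
    rw [← map_autGroup he]
    exact hW'p.map _
  have hle : G ≤ innerFusionSystem M := le_of_essential_step hM hG fun P hP hP' _ α hα => by
    have hPn : ¬ G.IsNormal P := fun hn => by
      rcases hP' with rfl | hess
      · exact hC ((centralizerIn_le _ Q).trans (hmax _ hn))
      · refine hC (centralizerIn_le_of_centric (F := G) ?_)
        rw [show Q = P from le_antisymm (le_of_normal_of_radical hM hQ hess.1
          (isRadical_of_essential hM hess)) (hmax P hn)]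
        exact hess.1
    exact (mem_autGroup_iff hP.1).2
      (hclaim _ P le_rfl hP hPn P _ (aut_mem_normalizerHom hP.1 hα))
  exact hle

end CfsgLib.WeakClosed
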