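import Cfsg.Agent.WeakClosed.GroupModel
import Cfsg.Agent.WeakClosed.FusionInner
import Cfsg.Agent.WeakClosed.FusionCenter
import Cfsg.Agent.Transfer.Tate

/-!
Group consequences: weakly closed central elements, Thompson's normal `p`-complement theorem.
-/

set_option autoImplicit false

universe u

namespace CfsgLib.WeakClosed

open Cfsg Cfsg.FusionSystem CfsgLib.Fusion CfsgLib.FusionThompson

variable {G : Type u} [Group G] [Finite G] {p : ℕ} [Fact p.Prime]

theorem freeSys_group (S : Sylow p G) (h : p ≠ 2 ∨ ¬ Involves (Equiv.Perm (Fin 4)) G) :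
    FreeSys p (groupFusionSystem (S : Subgroup G)) :=
  h.imp id fun h => isSectionFree_groupFusion S h

theorem autFixes_group (S : Sylow p G) {x : G}
    (hN : Subgroup.normalizer (thompsonSubgroupAOf (S : Subgroup G) : Set G) ≤
      Subgroup.centralizer ({x} : Set G)) :
    AutFixes (groupFusionSystem (S : Subgroup G)) (thompsonSubgroupAOf (S : Subgroup G)) x := by
  intro α hα y hy
  obtain ⟨-, -, g, hg⟩ := (mem_autGroup_iff (PLocal.thompsonSubgroupAOf_le _)).1 hα
  have hgN : g ∈ Subgroup.normalizer (thompsonSubgroupAOf (S : Subgroup G) : Set G) := by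
    refine Subgroup.mem_normalizer_fintype fun z hz => ?_
    have := (α ⟨z, hz⟩).2
    rwa [show ((α ⟨z, hz⟩ : thompsonSubgroupAOf (S : Subgroup G)) : G) = g * z * g⁻¹ from
      hg ⟨z, hz⟩] at this
  rw [show ((α y : thompsonSubgroupAOf (S : Subgroup G)) : G) = g * y * g⁻¹ from hg y, hy,
    Subgroup.mem_centralizer_singleton_iff.1 (hN hgN), mul_inv_cancel_right]

theorem conj_eq_of_fixes (S : Sylow p G) {x g : G} (hx : x ∈ (S : Subgroup G))
    (hgx : g * x * g⁻¹ ∈ (S : Subgroup G)) (h : Fixes (groupFusionSystem (S : Subgroup G)) x) :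
    g * x * g⁻¹ = x := by
  refine h (Subgroup.zpowers x) (conjHom _ g) ⟨Subgroup.zpowers_le.2 hx, fun y => ?_, g,
    fun y => rfl⟩ ⟨x, Subgroup.mem_zpowers x⟩ rfl
  obtain ⟨i, hi⟩ := y.2
  show g * (y : G) * g⁻¹ ∈ (S : Subgroup G)
  rw [← hi, ← conj_zpow]
  exact zpow_mem hgx i

/-- In a group with normal `p`-complement, conjugation between subgroups of a Sylow subgroup is
induced by that subgroup. -/
theorem exists_sylow_conj {H : Subgroup G} (hH : HasNormalPComplement p ↥H) {S : Sylow p G}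
    (hSH : (S : Subgroup G) ≤ H) {g : G} (hg : g ∈ H) {P : Subgroup G} (hP : P ≤ S)
    (hgP : ∀ x ∈ P, g * x * g⁻¹ ∈ (S : Subgroup G)) :
    ∃ s ∈ (S : Subgroup G), ∀ x ∈ P, g * x * g⁻¹ = s * x * s⁻¹ := by
  obtain ⟨N, hNn, hN⟩ := Transfer.exists_isComplement' hH (S.subtype hSH)
  haveI := hNn
  obtain ⟨⟨⟨k, hk⟩, ⟨s, hs⟩⟩, hks : k * s = _⟩ := hN.2 ⟨g, hg⟩
  have hsS : (s : G) ∈ (S : Subgroup G) := hs
  refine ⟨s, hsS, fun x hx => ?_⟩
  have hval : g = (k : G) * s := (congrArg Subtype.val hks).symm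
  set y : H := ⟨(s : G) * x * (s : G)⁻¹,
    H.mul_mem (H.mul_mem s.2 (hSH (hP hx))) (H.inv_mem s.2)⟩ with hy
  have hyS : (y : G) ∈ (S : Subgroup G) :=
    Subgroup.mul_mem _ (Subgroup.mul_mem _ hsS (hP hx)) (Subgroup.inv_mem _ hsS)
  have h1 : y⁻¹ * (k * y * k⁻¹) ∈ N := by
    rw [show y⁻¹ * (k * y * k⁻¹) = (y⁻¹ * k * y) * k⁻¹ by group]
    refine N.mul_mem ?_ (N.inv_mem hk)
    simpa using hNn.conj_mem k hk y⁻¹
  have hgx : g * x * g⁻¹ = (k : G) * y * (k : G)⁻¹ := by
    rw [hval, hy]; group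
  have h2 : y⁻¹ * (k * y * k⁻¹) ∈ ((S.subtype hSH : Sylow p H) : Subgroup H) := by
    refine Subgroup.mul_mem _ (Subgroup.inv_mem _ hyS) ?_
    show ((k * y * k⁻¹ : H) : G) ∈ (S : Subgroup G)
    rw [Subgroup.coe_mul, Subgroup.coe_mul, Subgroup.coe_inv, ← hgx]
    exact hgP x hx
  have h3 := hN.disjoint.le_bot ⟨h1, h2⟩
  rw [Subgroup.mem_bot, inv_mul_eq_one] at h3
  rw [hgx]
  have := congrArg Subtype.val h3
  rw [Subgroup.coe_mul, Subgroup.coe_mul, Subgroup.coe_inv] at this
  exact this.symm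

/-- Thompson's normal `p`-complement theorem (abelian `J`, `p` odd or `S₄`-free). -/
theorem hasNormalPComplement_of_thompson (S : Sylow p G)
    (h : p ≠ 2 ∨ ¬ Involves (Equiv.Perm (Fin 4)) G)
    (hC : HasNormalPComplement p ↥(Subgroup.centralizer (((S : Subgroup G) ⊓
      Subgroup.centralizer ((S : Subgroup G) : Set G) : Subgroup G) : Set G)))
    (hN : HasNormalPComplement p
      ↥(Subgroup.normalizer (thompsonSubgroupAOf (S : Subgroup G) : Set G))) :
    HasNormalPComplement p G := by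
  have hall : AllInner (groupFusionSystem (S : Subgroup G)) := by
    refine allInner_of_thompson S.isPGroup' (isSaturated_groupFusion S) (freeSys_group S h) ?_ ?_
    · rintro P φ ⟨hφ, -, -, ψ, ⟨-, hψS, g, hg⟩, h1, h2⟩
      have hgN : g ∈ Subgroup.normalizer (thompsonSubgroupAOf (S : Subgroup G) : Set G) := by
        refine Subgroup.mem_normalizer_fintype fun q hq => ?_
        have h3 := h2.le (apply_mem_imgHom ψ (R := thompsonSubgroupAOf (S : Subgroup G))
          (x := ⟨q, Subgroup.mem_sup_right hq⟩) hq)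
        rwa [hg] at h3
      obtain ⟨s, hs, hsv⟩ := exists_sylow_conj hN (Subgroup.le_normalizer.trans
        (PLocal.normalizer_le_normalizer_thompsonSubgroupAOf _)) hgN (le_left hφ) fun x hx => by
          have := hψS (Subgroup.inclusion le_sup_left ⟨x, hx⟩)
          rwa [hg] at this
      refine ⟨le_left hφ, s, hs, fun x => ?_⟩
      rw [← h1 x, hg, ← hsv x x.2]
      rfl
    · rintro P φ ⟨hφ, -, -, ψ, ⟨-, hψS, g, hg⟩, h1, h2⟩
      have hgC : g ∈ Subgroup.centralizer (zIn (S : Subgroup G) : Set G) := by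
        refine Subgroup.mem_centralizer_iff.2 fun q hq => ?_
        have h3 := h2 ⟨q, hq⟩
        rw [hg] at h3
        exact (eq_mul_inv_iff_mul_eq.1 h3.symm)
      obtain ⟨s, hs, hsv⟩ := exists_sylow_conj hC (fun z hz => Subgroup.mem_centralizer_iff.2
        fun w hw => (Subgroup.mem_centralizer_iff.1 hw.2 z hz).symm) hgC (le_left hφ) fun x hx => by
          have := hψS (Subgroup.inclusion le_sup_left ⟨x, hx⟩)
          rwa [hg] at this
      refine ⟨le_left hφ, s, hs, fun x => ?_⟩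
      rw [← h1 x, hg, ← hsv x x.2]
      rfl
  refine Transfer.hasNormalPComplement_of_controlsFusion_self S fun x hx g hgx => ?_
  have hgP : ∀ y ∈ Subgroup.zpowers x, g * y * g⁻¹ ∈ (S : Subgroup G) := by
    rintro _ ⟨i, rfl⟩
    rw [← conj_zpow]
    exact zpow_mem hgx i
  obtain ⟨-, s, hs, hv⟩ := hall _ (conjHom (Subgroup.zpowers x) g)
    ⟨Subgroup.zpowers_le.2 hx, fun y => hgP y y.2, g, fun y => rfl⟩
  exact ⟨s, hs, (hv ⟨x, Subgroup.mem_zpowers x⟩).symm⟩

end CfsgLib.WeakClosed
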