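import Cfsg.Agent.WeakClosed.FusionFixed
import Cfsg.Agent.WeakClosed.FusionCenter
import Cfsg.Agent.FusionQd.Climb

/-!
A functor `W` containing the centre and satisfying the local centre condition controls the fixed
central elements of saturated systems.
-/

set_option autoImplicit false

universe u

namespace CfsgLib.WeakClosed

open Cfsg Cfsg.FusionSystem CfsgLib.Fusion CfsgLib.FusionThompson
open CfsgLib.FusionQd (wOf IsoInvariant wOf_le wOf_congr)

variable {Ω : Type u} [Group Ω] {p : ℕ}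
variable {W : ∀ (Q : Type u) [Group Q], Subgroup Q}

theorem wOf_char (hW : IsoInvariant p W) {N : Subgroup Ω} [Finite N] (hN : IsPGroup p N) :
    ((wOf W N).subgroupOf N).Characteristic := by
  rw [wOf, Subgroup.subgroupOf, Subgroup.comap_map_eq_self_of_injective N.subtype_injective]
  exact Subgroup.characteristic_iff_map_eq.2 fun φ => hW ↥N ↥N hN φ

theorem im_wOf (hW : IsoInvariant p W) {M : Subgroup Ω} [Finite M] (hM : IsPGroup p M)
    {L : Type u} [Group L] {ι : ↥M →* L} (hι : Function.Injective ι) {T : Subgroup L}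
    (hT : T = ι.range) : im ι (wOf W M) = wOf W T := by
  let e : ↥M ≃* ↥T := (MonoidHom.ofInjective hι).trans (MulEquiv.subgroupCongr hT.symm)
  refine Eq.trans ?_ (congrArg (Subgroup.map T.subtype) (hW ↥M ↥T hM e))
  rw [Subgroup.map_map, im, wOf, Subgroup.subgroupOf,
    Subgroup.comap_map_eq_self_of_injective M.subtype_injective]
  rfl

/-- The local centre condition. -/
def CenterCondition (p : ℕ) (W : ∀ (Q : Type u) [Group Q], Subgroup Q) : Prop :=
  ∀ (G : Type u) [Group G] [Finite G] (P : Sylow p G), ∀ z ∈ pCore p G,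
    Subgroup.normalizer (wOf W (P : Subgroup G) : Set G) ≤ Subgroup.centralizer ({z} : Set G) →
      z ∈ Subgroup.normalizer (wOf W (P : Subgroup G) : Set G) → z ∈ Subgroup.center G

/-- The local centre condition for the elements `z = y ^ d` with `y` central in the Sylow
subgroup. -/
def RootCenterCondition (p d : ℕ) (W : ∀ (Q : Type u) [Group Q], Subgroup Q) : Prop :=
  ∀ (G : Type u) [Group G] [Finite G] (P : Sylow p G),
    ∀ y ∈ (P : Subgroup G) ⊓ Subgroup.centralizer ((P : Subgroup G) : Set G),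
    y ^ d ∈ pCore p G →
    Subgroup.normalizer (wOf W (P : Subgroup G) : Set G) ≤ Subgroup.centralizer ({y ^ d} : Set G) →
      y ^ d ∈ Subgroup.normalizer (wOf W (P : Subgroup G) : Set G) → y ^ d ∈ Subgroup.center G

theorem fixes_of_root [Fact p.Prime] (hW : IsoInvariant p W)
    (hWZ : ∀ (Q : Type u) [Group Q] [Finite Q], IsPGroup p Q → Subgroup.center Q ≤ W Q)
    {d₀ : ℕ} (hloc : RootCenterCondition p d₀ W) {M : Subgroup Ω} [Finite M] (hM : IsPGroup p M)
    {G : FusionSystem M} (hG : G.IsSaturated p) {x : Ω} (hroot : ∃ y ∈ zIn M, y ^ d₀ = x)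
    (hJ : AutFixes G (wOf W M) x) : Fixes G x := by
  obtain ⟨y₀, hy₀, hyx⟩ := hroot
  have hx : x ∈ zIn M := hyx ▸ pow_mem hy₀ d₀
  obtain ⟨k, hk⟩ : ∃ k, (mapSet G).ncard = k := ⟨_, rfl⟩
  induction k using Nat.strong_induction_on generalizing M with
  | _ k ih =>
  classical
  have hzle : ∀ N : Subgroup Ω, N ≤ M → zIn N ≤ wOf W N := by
    intro N hN z hz
    haveI := finite_of_le hN
    exact ⟨⟨z, hz.1⟩, hWZ ↥N (hM.to_le hN) (Subgroup.mem_center_iff.2 fun y =>
      Subtype.ext (Subgroup.mem_centralizer_iff.1 hz.2 y y.2)), rfl⟩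
  have hIH : ∀ U : Subgroup Ω, G.IsFullyNormalized U → ¬ G.IsNormal U →
      AutFixes G (wOf W (normalizerIn M U)) x →
      ∀ (P : Subgroup Ω) (φ : P →* Ω), φ ∈ G.normalizerHom U P → ∀ y : P,
        (y : Ω) = x → φ y = x := by
    intro U hU hUn hUJ P φ hφ
    obtain ⟨E, hE⟩ := exists_isNormalizerSystem G hU.1
    haveI := finite_of_le (normalizerIn_le M U)
    exact ih _ (hk ▸ ncard_normSystem_lt hU.1 hUn hE) (hM.to_le (normalizerIn_le M U))
      (isSaturated_normalizerSystem hM hG hU hE)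
      (fun α hα => hUJ α (autGroup_mono (normSystem_le hE) _ hα))
      (zIn_le_zIn_normalizerIn hU.1 hy₀)
      (zIn_le_zIn_normalizerIn hU.1 hx) rfl P φ ((hE P).symm ▸ hφ)
  by_cases hA : ∃ Q₀, G.IsNormal Q₀ ∧ zIn M ≤ Q₀
  · obtain ⟨Q₀, hQ₀, hZ₀⟩ := hA
    obtain ⟨Q, hQ, hZQ, hmax⟩ := exists_max_normal hQ₀ hZ₀
    by_cases hC : centralizerIn M Q ≤ Q
    · -- the constrained case
      obtain ⟨L, _, ι, hL⟩ := exists_model hM hG hQ (isCentric_of_normal hQ hC)
      obtain ⟨hfin, hr, ⟨T, hT⟩, hc⟩ := id hL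
      haveI := hfin
      have hWM : wOf W M ≤ M := wOf_le M
      have hxW : x ∈ wOf W M := hzle M le_rfl hx
      have himW : im ι (wOf W M) = wOf W (T : Subgroup L) := im_wOf hW hM hr.1 hT
      have hxO : ι ⟨x, hx.1⟩ ∈ pCore p L := hc (Subgroup.mem_centralizer_iff.2 fun v hv => by
        obtain ⟨m, rfl⟩ : v ∈ ι.range := hT ▸ PLocal.pCore_le_sylow T hv
        rw [← map_mul, ← map_mul]
        exact congrArg ι (Subtype.ext (Subgroup.mem_centralizer_iff.1 hx.2 m m.2)))
      have hcen : ι ⟨x, hx.1⟩ ∈ Subgroup.center L := by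
        have hiy : ι ⟨y₀, hy₀.1⟩ ^ d₀ = ι ⟨x, hx.1⟩ := by
          rw [← map_pow]
          exact congrArg ι (Subtype.ext hyx)
        rw [← hiy]
        refine hloc L T _ ⟨hT.ge ⟨_, rfl⟩, Subgroup.mem_centralizer_iff.2 fun v hv => ?_⟩
          (hiy ▸ hxO) (hiy ▸ fun g hg => ?_) (hiy ▸ Subgroup.le_normalizer ?_)
        · obtain ⟨m, rfl⟩ : v ∈ ι.range := hT.le hv
          rw [← map_mul, ← map_mul]
          exact congrArg ι (Subtype.ext (Subgroup.mem_centralizer_iff.1 hy₀.2 m m.2))
        · have hgJ : (im ι (wOf W M)).map (MulAut.conj g).toMonoidHom = im ι (wOf W M) := by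
            rw [himW]; exact Subgroup.mem_normalizer_iff_map_conj_eq.1 hg
          obtain ⟨e, he, hev⟩ := exists_iso_of_conj hr hWM hWM hgJ
          refine Subgroup.mem_centralizer_singleton_iff.2 ?_
          have h1 := hev ⟨x, hxW⟩
          rw [show (⟨((e ⟨x, hxW⟩ : wOf W M) : Ω), hWM (e ⟨x, hxW⟩).2⟩ : M) = ⟨x, hx.1⟩
            from Subtype.ext (hJ e he.mem_autGroup ⟨x, hxW⟩ rfl)] at h1
          exact (eq_mul_inv_iff_mul_eq.1 h1).symm
        · rw [← himW]
          exact (apply_mem_im_iff hr.1).2 hxW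
      intro P φ hφ y hy
      obtain ⟨g, hg⟩ := (hr.2 P (le_left hφ) φ fun z => apply_mem hφ z).1 hφ
      have h1 := hg y
      rw [show (⟨(y : Ω), le_left hφ y.2⟩ : M) = ⟨x, hx.1⟩ from Subtype.ext hy,
        Subgroup.mem_center_iff.1 hcen g, mul_inv_cancel_right] at h1
      exact congrArg Subtype.val (hr.1 h1)
    set R := Q ⊔ centralizerIn M Q with hR
    have hMQ := normal_le_normalizer hQ
    have hMR : M ≤ Subgroup.normalizer (R : Set Ω) :=
      le_normalizer_sup hMQ (le_normalizer_centralizerIn hMQ)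
    have hRM : R ≤ M := sup_le hQ.1 (centralizerIn_le M Q)
    have hRn : ¬ G.IsNormal R := fun h => hC (le_trans le_sup_right (hmax R h))
    have hfix := hIH R (isFullyNormalized_of_le G hRM hMR) hRn
      (by rw [normalizerIn_eq_self hMR]; exact hJ)
    intro P φ hφ y hy
    obtain ⟨α, hα, hαv⟩ := exists_aut_normal hQ hφ
    obtain ⟨β, hβ, hβv⟩ := exists_aut_extend hM hG hQ hα
    have hxQ : (y : Ω) ∈ Q := hy ▸ hZQ hx
    rw [hαv y hxQ, ← hβv ⟨y, hxQ⟩]
    exact hfix R _ (aut_mem_normalizerHom hRM hβ) ⟨y, Subgroup.mem_sup_left hxQ⟩ hy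
  push Not at hA
  have hclaim : ∀ (d : ℕ) (U : Subgroup Ω) (b : ℕ),
      Nat.card M - Nat.card (normalizerIn M U) ≤ d → G.IsFullyNormalized U → ¬ G.IsNormal U →
      b ≤ Nat.card (normalizerIn M U) →
      (∀ R : Subgroup Ω, b < Nat.card R → ∀ φ ∈ G.Hom R, ∀ y : R, (y : Ω) = x → φ y = x) →
      ∀ (P : Subgroup Ω) (φ : P →* Ω), φ ∈ G.normalizerHom U P → ∀ y : P,
        (y : Ω) = x → φ y = x := by
    intro d
    induction d using Nat.strong_induction_on with
    | _ d ihd =>
    intro U b hd hU hUn hb habove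
    refine hIH U hU hUn ?_
    set N := normalizerIn M U with hN
    by_cases hNM : N = M
    · rw [hNM]; exact hJ
    haveI := finite_of_le (normalizerIn_le M U)
    set V := wOf W N with hV
    have hVN : V ≤ N := wOf_le N
    have hVM : V ≤ M := hVN.trans (normalizerIn_le M U)
    have hlt : Nat.card N < Nat.card (normalizerIn M V) :=
      card_normalizerIn_lt_of_char hM hNM hVN (wOf_char hW (hM.to_le (normalizerIn_le M U)))
    have hVn : ¬ G.IsNormal V := fun h =>
      hA V h ((zIn_le_zIn_normalizerIn hU.1).trans (hzle N (normalizerIn_le M U)))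
    obtain ⟨V', hconj, hV'⟩ := exists_fullyNormalized (F := G) hVM
    obtain ⟨hV'a, hV'r⟩ := automized_receptive hM hG hV'
    obtain ⟨β, hβ, hβN, hβV⟩ := exists_map_normalizerIn hM hV'a hV'r hconj
    have h1 : Nat.card (normalizerIn M V) ≤ Nat.card (normalizerIn M V') :=
      card_normalizerIn_le hβ hβN
    have h2 : Nat.card (normalizerIn M V') ≤ Nat.card M :=
      Subgroup.card_le_of_le (normalizerIn_le M V')
    have hd' : Nat.card M - Nat.card (normalizerIn M V') < d := lt_of_lt_of_le (by omega) hd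
    have hfix := ihd _ hd' V' b le_rfl hV' (not_isNormal_of_conj hconj hVn) (by omega) habove
    intro α hα y hy
    have hVle : V ≤ normalizerIn M V := le_normalizerIn hVM
    obtain ⟨e, he, hev⟩ := exists_iso (restrict_mem hβ hVle)
      ((range_restrictHom β hVle).trans hβV)
    have hey : (e y : Ω) = x := by
      rw [hev, restrictHom_apply]
      exact habove _ (by omega) β hβ _ hy
    have hγ : MulAut.congr e α ∈ G.autGroup V' := congr_mem_autGroup he hα
    have h3 : ((MulAut.congr e α) (e y) : Ω) = x :=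
      hfix V' _ (aut_mem_normalizerHom hV'.1 hγ) (e y) hey
    rw [congr_apply] at h3
    exact (congrArg Subtype.val (e.injective (Subtype.ext (h3.trans hey.symm)))).trans hy
  refine fixes_of_step hM hG hx fun R hR hR' habove => ?_
  rcases hR' with rfl | hess
  · intro α hα y hy
    obtain ⟨β, hβ, hβv⟩ := exists_aut_restrict le_rfl (wOf_le R) (wOf_char hW hM) hα
    have hxJ : (y : Ω) ∈ wOf W R := hy ▸ hzle R le_rfl hx
    have h := hβv ⟨y, hxJ⟩
    rw [hJ β hβ ⟨y, hxJ⟩ hy] at h
    exact h.symm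
  · have hZR : zIn M ≤ R := fun z hz => centralizerIn_le_of_centric hess.1 (mem_centralizerIn.2
      ⟨hz.1, fun w hw => Subgroup.mem_centralizer_iff.1 hz.2 w (hR.1 hw)⟩)
    haveI := finite_of_le (normalizerIn_le M R)
    intro α hα
    exact hclaim _ R (Nat.card R) le_rfl hR (fun h => hA R h hZR)
      (Subgroup.card_le_of_le (le_normalizerIn hR.1)) habove R _ (aut_mem_normalizerHom hR.1 hα)

theorem fixes_of_functor [Fact p.Prime] (hW : IsoInvariant p W)
    (hWZ : ∀ (Q : Type u) [Group Q] [Finite Q], IsPGroup p Q → Subgroup.center Q ≤ W Q)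
    (hloc : CenterCondition p W) {M : Subgroup Ω} [Finite M] (hM : IsPGroup p M)
    {G : FusionSystem M} (hG : G.IsSaturated p) {x : Ω} (hx : x ∈ zIn M)
    (hJ : AutFixes G (wOf W M) x) : Fixes G x :=
  fixes_of_root (d₀ := 1) hW hWZ
    (fun L _ _ P y _ h1 h2 h3 => hloc L P _ h1 h2 h3) hM hG ⟨x, hx, pow_one x⟩ hJ

/-- The centre of `N_F(W(S))` is the centre of `F`. -/
theorem center_eq_of_functor [Fact p.Prime] (hW : IsoInvariant p W)
    (hWZ : ∀ (Q : Type u) [Group Q] [Finite Q], IsPGroup p Q → Subgroup.center Q ≤ W Q)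
    (hloc : CenterCondition p W) {M : Subgroup Ω} [Finite M] (hM : IsPGroup p M)
    {G : FusionSystem M} (hG : G.IsSaturated p) {N : FusionSystem (normalizerIn M (wOf W M))}
    (hN : G.IsNormalizerSystem (wOf W M) N) : N.center = G.center := by
  have hWM : wOf W M ≤ M := wOf_le M
  have hn : M ≤ Subgroup.normalizer (wOf W M : Set Ω) :=
    Subgroup.le_normalizer.trans (FusionQd.normalizer_le_normalizer_wOf hW hM)
  haveI := finite_of_le (normalizerIn_le M (wOf W M))
  refine le_antisymm (fun x hx => ?_) fun x hx => ?_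
  · have hfix := fixes_of_mem_center hx
    have hxM : x ∈ M := (normalizerIn_le M _) ((CfsgLib.FusionFactor.isCentral_center N).1 hx)
    have hxz : x ∈ zIn M := ⟨hxM, Subgroup.mem_centralizer_iff.2 fun g hg => by
      have h1 : g * x * g⁻¹ = x :=
        hfix _ (conjHom _ g) (N.conj_mem le_rfl ⟨hg, hn hg⟩) ⟨x, ⟨hxM, hn hxM⟩⟩ rfl
      rwa [mul_inv_eq_iff_eq_mul] at h1⟩
    refine mem_center_of_fixes hM hG hxM (fixes_of_functor hW hWZ hloc hM hG hxz ?_)
    intro α hα y hy
    exact hfix _ _ ((hN _).symm ▸ aut_mem_normalizerHom hWM hα) y hy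
  · have hxM : x ∈ M := (CfsgLib.FusionFactor.isCentral_center G).1 hx
    have hfix := fixes_of_mem_center hx
    exact mem_center_of_fixes (hM.to_le (normalizerIn_le M _))
      (isSaturated_normalizerSystem hM hG (isFullyNormalized_of_le G hWM hn) hN)
      ⟨hxM, hn hxM⟩ fun P φ hφ => hfix P φ (normSystem_le hN P hφ)

end CfsgLib.WeakClosed
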