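import Cfsg.Agent.WeakClosed.FunctorTransfer

/-!
`W` controls transfer: the induction.
-/

set_option autoImplicit false

universe u

namespace CfsgLib.WeakClosed

open Cfsg Cfsg.FusionSystem CfsgLib.Fusion CfsgLib.FusionThompson
open CfsgLib.FusionQd (wOf IsoInvariant wOf_le wOf_congr wOf_ne_bot normalizer_le_normalizer_wOf)
open scoped commutatorElement

variable {p : ℕ} [Fact p.Prime] {W : ∀ (Q : Type u) [Group Q], Subgroup Q}

/-- Reduction modulo a nontrivial maximal normal subgroup. -/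
theorem controls_sup_of_quotient (hW : IsoInvariant p W)
    (hne : ∀ (Q : Type u) [Group Q] [Finite Q], IsPGroup p Q → Nontrivial Q → W Q ≠ ⊥)
    {n : ℕ}
    (ihn : ∀ m < n, ∀ {Ω : Type u} [Group Ω] {M : Subgroup Ω} [Finite M], Nat.card M ≤ m →
      IsPGroup p M → ∀ (G : FusionSystem M), G.IsSaturated p → ∀ H : Subgroup Ω, ⁅M, M⁆ ≤ H →
      (∀ P φ, φ ∈ G.normalizerHom (wOf W M) P → GoodMap H φ) → Controls G H)
    {Ω : Type u} [Group Ω] {M : Subgroup Ω} [Finite M] (hn : Nat.card M ≤ n)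
    (hM : IsPGroup p M) {G : FusionSystem M} (hG : G.IsSaturated p) {Q : Subgroup Ω}
    (hQ : G.IsNormal Q) (hQne : Q ≠ ⊥) (hmax : ∀ V, G.IsNormal V → V ≤ Q)
    {H : Subgroup Ω} (hH : ⁅M, M⁆ ≤ H)
    (hbig : ∀ V, V ≤ M → M ≤ Subgroup.normalizer (V : Set Ω) → ¬ G.IsNormal V →
      ∀ P φ, φ ∈ G.normalizerHom V P → GoodMap H φ) :
    Controls G (H ⊔ Q) := by
  classical
  intro P φ hφ
  by_cases hQM : Q = M
  · intro y
    exact Subgroup.mem_sup_right (hQM ▸ M.mul_mem (M.inv_mem (le_left hφ y.2)) (apply_mem hφ y))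
  have hsc := stronglyClosed_of_normal hQ
  haveI : (Q.subgroupOf M).Normal :=
    (Subgroup.normal_subgroupOf_iff_le_normalizer hQ.1).2 (normal_le_normalizer hQ)
  obtain ⟨E, hE⟩ := FusionFactor.exists_factorSystem_quotient G Q hsc
  have hEs := FusionFactor.isSaturated_factor hM hG hsc hE
  obtain ⟨hmor, -, hlift⟩ := FusionFactor.isSurjectiveMorphism_of_isFactorSystem hM hG hsc hE
  set θ := QuotientGroup.mk' (Q.subgroupOf M) with hθ
  have hQne' : Q.subgroupOf M ≠ ⊥ := fun h => hQne (by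
    rw [← Subgroup.map_subgroupOf_eq_of_le hQ.1, h, Subgroup.map_bot])
  have hcard : Nat.card (⊤ : Subgroup (↥M ⧸ Q.subgroupOf M)) < n := by
    rw [Subgroup.card_top]
    refine lt_of_lt_of_le ?_ hn
    conv_rhs => rw [Subgroup.card_eq_card_quotient_mul_card_subgroup (Q.subgroupOf M)]
    exact lt_mul_of_one_lt_right Nat.card_pos (Finite.one_lt_card_iff_nontrivial.2
      ((Subgroup.nontrivial_iff_ne_bot _).2 hQne'))
  have hTp : IsPGroup p (⊤ : Subgroup (↥M ⧸ Q.subgroupOf M)) := (hM.to_quotient _).to_subgroup ⊤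
  have hTne : (⊤ : Subgroup (↥M ⧸ Q.subgroupOf M)) ≠ ⊥ := fun h => hQM (le_antisymm hQ.1 fun x hx => by
    have h1 : θ ⟨x, hx⟩ ∈ (⊥ : Subgroup (↥M ⧸ Q.subgroupOf M)) := h ▸ Subgroup.mem_top _
    rw [Subgroup.mem_bot] at h1
    exact (QuotientGroup.eq_one_iff (N := Q.subgroupOf M) ⟨x, hx⟩).1 h1)
  set H' := ((H ⊔ Q).subgroupOf M).map θ with hH'
  have hH'c : ⁅(⊤ : Subgroup (↥M ⧸ Q.subgroupOf M)), ⊤⁆ ≤ H' := by
    rw [← Subgroup.map_top_of_surjective θ (QuotientGroup.mk'_surjective _),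
      ← Subgroup.map_commutator, hH']
    refine Subgroup.map_mono fun c hc => Subgroup.mem_sup_left (hH ?_)
    have h4 : (c : Ω) ∈ (⁅(⊤ : Subgroup M), (⊤ : Subgroup M)⁆ : Subgroup M).map M.subtype :=
      ⟨c, hc, rfl⟩
    rwa [Subgroup.map_commutator, ← MonoidHom.range_eq_map, Subgroup.range_subtype] at h4
  -- the preimage of `W(M/Q)`
  set V' := wOf W (⊤ : Subgroup (↥M ⧸ Q.subgroupOf M)) with hV'
  set V := preimageAlong θ V' with hV
  have hVM : V ≤ M := FusionFactor.preimageAlong_le θ V'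
  have hV'n : ∀ y : ↥M ⧸ Q.subgroupOf M, y ∈ Subgroup.normalizer (V' : Set (↥M ⧸ Q.subgroupOf M)) :=
    fun y => normalizer_le_normalizer_wOf hW hTp (Subgroup.le_normalizer (Subgroup.mem_top y))
  have hMV : M ≤ Subgroup.normalizer (V : Set Ω) := fun m hm => by
    haveI := finite_of_le hVM
    refine Subgroup.mem_normalizer_fintype fun x hx => ?_
    obtain ⟨hxM, hx'⟩ := FusionFactor.mem_preimageAlong.1 hx
    refine FusionFactor.mem_preimageAlong.2 ⟨M.mul_mem (M.mul_mem hm hxM) (M.inv_mem hm), ?_⟩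
    have := (Subgroup.mem_normalizer_iff.1 (hV'n (θ ⟨m, hm⟩)) _).1 hx'
    rw [← map_inv, ← map_mul, ← map_mul] at this
    exact this
  have hVn : ¬ G.IsNormal V := fun h => by
    refine wOf_ne_bot hne hTp hTne (le_bot_iff.1 fun y hy => ?_)
    obtain ⟨⟨x, hxM⟩, rfl⟩ := QuotientGroup.mk'_surjective (Q.subgroupOf M) y
    have hxV : x ∈ V := FusionFactor.mem_preimageAlong.2 ⟨hxM, hy⟩
    rw [Subgroup.mem_bot]
    exact (QuotientGroup.eq_one_iff (N := Q.subgroupOf M) ⟨x, hxM⟩).2 (hmax V h hxV)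
  have hhyp : ∀ P' φ', φ' ∈ E.normalizerHom V' P' → GoodMap H' φ' := by
    rintro P' φ' ⟨hφ', -, -, ψ', hψ', hψ'P, hψ'V⟩
    set D := preimageAlong θ (P' ⊔ V') with hD
    obtain ⟨ψ, hψ, hDM, hψM, hD', hv⟩ := hlift (P' ⊔ V') le_top ψ' hψ'
    have hVD : V ≤ D := fun x hx => by
      obtain ⟨hxM, hx'⟩ := FusionFactor.mem_preimageAlong.1 hx
      exact FusionFactor.mem_preimageAlong.2 ⟨hxM, Subgroup.mem_sup_right hx'⟩
    have hψN : ψ ∈ G.normalizerHom V D := by
      have hle : D ⊔ V ≤ D := sup_le le_rfl hVD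
      refine ⟨hψ, fun x hx => ⟨hDM hx, hMV (hDM hx)⟩, fun x => ⟨hψM x, hMV (hψM x)⟩,
        restrictHom ψ hle, restrict_mem hψ hle, fun x => rfl, ?_⟩
      haveI := finite_of_le hVM
      refine Subgroup.eq_of_le_of_card_ge ?_ ?_
      · rintro _ ⟨x, hx, rfl⟩
        refine FusionFactor.mem_preimageAlong.2 ⟨apply_mem (restrict_mem hψ hle) x, ?_⟩
        have hxD : (x : Ω) ∈ D := hle x.2
        obtain ⟨hxM, hx'⟩ := FusionFactor.mem_preimageAlong.1 (show (x : Ω) ∈ V from hx)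
        refine hψ'V.le ⟨⟨θ ⟨x, hxM⟩, hD' ⟨x, hxD⟩⟩, hx', ?_⟩
        exact hv ⟨x, hxD⟩
      · refine le_of_eq ?_
        rw [Subgroup.card_map_of_injective (G.injective_of_mem (restrict_mem hψ hle)),
          Nat.card_congr (Subgroup.subgroupOfEquivOfLe le_sup_right).toEquiv]
    have hgood := hbig V hVM hMV hVn D ψ hψN
    intro y
    obtain ⟨⟨x, hxM⟩, hxy⟩ := QuotientGroup.mk'_surjective (Q.subgroupOf M) (y : ↥M ⧸ Q.subgroupOf M)
    have hxD : x ∈ D := FusionFactor.mem_preimageAlong.2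
      ⟨hxM, Subgroup.mem_sup_left (by rw [hxy]; exact y.2)⟩
    have h1 : φ' y = θ ⟨ψ ⟨x, hxD⟩, hψM _⟩ := by
      rw [← hψ'P y]
      refine Eq.trans ?_ (hv ⟨x, hxD⟩)
      exact congrArg ψ' (Subtype.ext hxy.symm)
    refine ⟨(⟨x, hxM⟩ : M)⁻¹ * ⟨ψ ⟨x, hxD⟩, hψM _⟩, Subgroup.mem_sup_left (hgood ⟨x, hxD⟩), ?_⟩
    rw [map_mul, map_inv, h1, hxy]
  have hctr := ihn _ hcard le_rfl hTp E hEs H' hH'c hhyp
  intro y
  obtain ⟨φ', hφ', hPM, hφM, hP', hv⟩ := hmor.2 P φ hφ
  obtain ⟨c, hc, hcv⟩ := hctr _ φ' hφ' ⟨θ ⟨y, hPM y.2⟩, hP' y⟩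
  rw [hv y] at hcv
  have h2 : (c : Ω)⁻¹ * ((y : Ω)⁻¹ * φ y) ∈ Q := by
    have h3 : θ c = θ ((⟨y, hPM y.2⟩ : M)⁻¹ * ⟨φ y, hφM y⟩) := by
      rw [map_mul, map_inv]; exact hcv
    have h5 : c⁻¹ * ((⟨y, hPM y.2⟩ : M)⁻¹ * ⟨φ y, hφM y⟩) ∈ Q.subgroupOf M :=
      QuotientGroup.eq.1 h3
    exact h5
  rw [show (y : Ω)⁻¹ * φ y = (c : Ω) * ((c : Ω)⁻¹ * ((y : Ω)⁻¹ * φ y)) by group]
  exact Subgroup.mul_mem _ hc (Subgroup.mem_sup_right h2)

/-- `W` controls transfer in saturated systems. -/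
theorem controls_of_functor (hW : IsoInvariant p W)
    (hne : ∀ (Q : Type u) [Group Q] [Finite Q], IsPGroup p Q → Nontrivial Q → W Q ≠ ⊥)
    (hloc : FocalCondition p W) :
    ∀ (n : ℕ) {Ω : Type u} [Group Ω] {M : Subgroup Ω} [Finite M], Nat.card M ≤ n →
      IsPGroup p M → ∀ (G : FusionSystem M), G.IsSaturated p → ∀ H : Subgroup Ω, ⁅M, M⁆ ≤ H →
      (∀ P φ, φ ∈ G.normalizerHom (wOf W M) P → GoodMap H φ) → Controls G H := by
  intro n
  induction n using Nat.strong_induction_on with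
  | _ n ihn =>
  intro Ω _ M _ hn hM G hG H hH hN
  obtain ⟨k, hk⟩ : ∃ k, (mapSet G).ncard = k := ⟨_, rfl⟩
  induction k using Nat.strong_induction_on generalizing M H with
  | _ k ih =>
  classical
  have hIH : ∀ (H : Subgroup Ω), ⁅M, M⁆ ≤ H → ∀ U : Subgroup Ω, G.IsFullyNormalized U →
      ¬ G.IsNormal U →
      (∀ P φ, φ ∈ G.normalizerHom (wOf W (normalizerIn M U)) P → GoodMap H φ) →
      ∀ P φ, φ ∈ G.normalizerHom U P → GoodMap H φ := by
    intro H hH U hU hUn hUW P φ hφ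
    obtain ⟨E, hE⟩ := exists_isNormalizerSystem G hU.1
    have hNM := normalizerIn_le M U
    haveI := finite_of_le hNM
    refine ih _ (hk ▸ ncard_normSystem_lt hU.1 hUn hE) ((Subgroup.card_le_of_le hNM).trans hn)
      (hM.to_le hNM) E (isSaturated_normalizerSystem hM hG hU hE) H
      ((Subgroup.commutator_mono hNM hNM).trans hH) ?_ rfl P φ ((hE P).symm ▸ hφ)
    rintro R ψ ⟨h1, h2, h3, ω, hω, hω1, hω2⟩
    exact hUW R ψ ⟨normSystem_le hE _ h1, fun z hz => ⟨hNM (h2 hz).1, (h2 hz).2⟩,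
      fun z => ⟨hNM (h3 z).1, (h3 z).2⟩, ω, normSystem_le hE _ hω, hω1, hω2⟩
  by_cases hM1 : M = ⊥
  · intro P φ hφ y
    have h1 : (y : Ω) = 1 := Subgroup.mem_bot.1 (hM1 ▸ le_left hφ y.2)
    have h2 : φ y = 1 := Subgroup.mem_bot.1 (hM1 ▸ apply_mem hφ y)
    rw [h1, h2, inv_one, one_mul]
    exact one_mem H
  have hQ := FusionFactor.isNormal_core G
  have hmax : ∀ V, G.IsNormal V → V ≤ G.core := fun V hV => le_sSup hV
  set Q := G.core with hQdef
  by_cases hQ1 : Q = ⊥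
  · -- no nontrivial normal subgroups
    have hnn : ∀ V, V ≠ ⊥ → ¬ G.IsNormal V := fun V hV h =>
      hV (le_bot_iff.1 (hQ1 ▸ hmax V h))
    set E := goodSystem G H hH
    have hclaim : ∀ (d : ℕ) (U : Subgroup Ω) (b : ℕ),
        Nat.card M - Nat.card (normalizerIn M U) ≤ d → G.IsFullyNormalized U → U ≠ ⊥ →
        b ≤ Nat.card (normalizerIn M U) →
        (∀ R : Subgroup Ω, b < Nat.card R → ∀ φ ∈ G.Hom R, GoodMap H φ) →
        ∀ P φ, φ ∈ G.normalizerHom U P → GoodMap H φ := by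
      intro d
      induction d using Nat.strong_induction_on with
      | _ d ihd =>
      intro U b hd hU hU1 hb habove
      refine hIH H hH U hU (hnn U hU1) ?_
      set N := normalizerIn M U with hNdef
      by_cases hNM : N = M
      · rw [hNM]; exact hN
      haveI := finite_of_le (normalizerIn_le M U)
      have hNp : IsPGroup p N := hM.to_le (normalizerIn_le M U)
      have hNne : N ≠ ⊥ := fun h => hU1 (le_bot_iff.1 (h ▸ le_normalizerIn hU.1))
      set V := wOf W N with hV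
      have hVN : V ≤ N := wOf_le N
      have hVM : V ≤ M := hVN.trans (normalizerIn_le M U)
      have hlt : Nat.card N < Nat.card (normalizerIn M V) :=
        card_normalizerIn_lt_of_char hM hNM hVN (wOf_char hW hNp)
      obtain ⟨V', hconj, hV'⟩ := exists_fullyNormalized (F := G) hVM
      obtain ⟨hV'a, hV'r⟩ := automized_receptive hM hG hV'
      obtain ⟨β, hβ, hβN, hβV⟩ := exists_map_normalizerIn hM hV'a hV'r hconj
      have h1 : Nat.card (normalizerIn M V) ≤ Nat.card (normalizerIn M V') :=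
        card_normalizerIn_le hβ hβN
      have h2 : Nat.card (normalizerIn M V') ≤ Nat.card M :=
        Subgroup.card_le_of_le (normalizerIn_le M V')
      have hd' : Nat.card M - Nat.card (normalizerIn M V') < d := lt_of_lt_of_le (by omega) hd
      have hV'1 : V' ≠ ⊥ := fun h => by
        have h3 := card_eq_of_isConj hconj
        rw [h, Subgroup.card_bot] at h3
        haveI := finite_of_le hVM
        exact wOf_ne_bot hne hNp hNne (Subgroup.eq_bot_of_card_eq _ h3)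
      have hgood := ihd _ hd' V' b le_rfl hV' hV'1 (by omega) habove
      intro P φ hφ
      exact (normalizerHom_subset_of_map (E := E) hVM hV'.1 hβ hβN hβV
        ⟨hβ, habove _ (by omega) β hβ⟩ (fun R ψ hψ => ⟨hψ.1, hgood R ψ hψ⟩) P hφ).2
    refine controls_of_le_goodSystem (hH := hH) (le_of_essential_step (E := E) hM hG
      fun R hR hR' habove α hα => (mem_autGroup_iff hR.1).2 ⟨(mem_autGroup_iff hR.1).1 hα, ?_⟩)
    have hR1 : R ≠ ⊥ := fun h => by
      rcases hR' with h' | hess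
      · exact hM1 (h'.symm.trans h)
      · exact hM1 (le_bot_iff.1 fun x hx => h ▸ centralizerIn_le_of_centric hess.1
          (mem_centralizerIn.2 ⟨hx, fun z hz => by
            rw [h, Subgroup.mem_bot] at hz; rw [hz, one_mul, mul_one]⟩))
    haveI := finite_of_le (normalizerIn_le M R)
    exact hclaim _ R (Nat.card R) le_rfl hR hR1 (Subgroup.card_le_of_le (le_normalizerIn hR.1))
      (fun R' h φ hφ => (habove R' h hφ).2) R _ (aut_mem_normalizerHom hR.1 hα)
  -- a nontrivial normal subgroup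
  set H₀ := H ⊓ G.focalSubgroup with hH₀
  have hH₀c : ⁅M, M⁆ ≤ H₀ := le_inf hH (commutator_le_focal G)
  have hN₀ : ∀ P φ, φ ∈ G.normalizerHom (wOf W M) P → GoodMap H₀ φ :=
    fun P φ hφ y => ⟨hN P φ hφ y, mem_focal hφ.1 y⟩
  suffices h₀ : Controls G H₀ from fun P φ hφ y => (h₀ P φ hφ y).1
  have hbig : ∀ V, V ≤ M → M ≤ Subgroup.normalizer (V : Set Ω) → ¬ G.IsNormal V →
      ∀ P φ, φ ∈ G.normalizerHom V P → GoodMap H₀ φ := fun V hV hMV hVn =>
    hIH H₀ hH₀c V (isFullyNormalized_of_le G hV hMV) hVn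
      (by rw [normalizerIn_eq_self hMV]; exact hN₀)
  have hHQ : Controls G (H₀ ⊔ Q) :=
    controls_sup_of_quotient hW hne ihn hn hM hG hQ hQ1 hmax hH₀c hbig
  by_cases hC : centralizerIn M Q ≤ Q
  · -- constrained
    have hle := focal_inf_le_of_centric (H := H₀) hM hG hW hloc hQ (isCentric_of_normal hQ hC) hN₀
    intro P φ hφ y
    have h1 := hHQ P φ hφ y
    have hHM : H₀ ≤ M := inf_le_right.trans (focal_le G)
    rw [← SetLike.mem_coe, Subgroup.coe_mul_of_left_le_normalizer_right _ _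
      (hHM.trans (normal_le_normalizer hQ))] at h1
    obtain ⟨h, hh, q, hq, hhq⟩ := Set.mem_mul.1 h1
    have hqf : q ∈ H₀ := hle ⟨by
      rw [show q = h⁻¹ * ((y : Ω)⁻¹ * φ y) by rw [← hhq, inv_mul_cancel_left]]
      exact Subgroup.mul_mem _ (Subgroup.inv_mem _ hh.2) (mem_focal hφ y), hq⟩
    rw [← hhq]
    exact mul_mem hh hqf
  set K := autInducedBy M Q with hK
  by_cases hind : G.autGroup Q ≤ K
  · exact controls_of_induced hM hG hQ hind hH₀c inf_le_right hHQ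
  have hMQ := normal_le_normalizer hQ
  have hRn : ¬ G.IsNormal (Q ⊔ centralizerIn M Q) := fun h =>
    hC (le_trans le_sup_right (hmax _ h))
  refine controls_of_decomposition hM hG hQ hH₀c
    (hbig _ (sup_le hQ.1 (centralizerIn_le M Q))
      (le_normalizer_sup hMQ (le_normalizer_centralizerIn hMQ)) hRn) ?_
  -- the proper subsystem inducing `K` on `Q`
  haveI := finite_of_le hQ.1
  have hkN : M = kNormalizer M Q K := le_antisymm (fun g hg => mem_kNormalizer.2
    ⟨hg, Q.normalizerMonoidHom ⟨g, hMQ hg⟩,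
      mem_autInducedBy_iff.2 ⟨g, hg, hMQ hg, fun _ => rfl⟩, fun q => rfl⟩) (kNormalizer_le K)
  have hKle : K ≤ G.autGroup Q := autInducedBy_le_autGroup hQ.1
  have hKS : CfsgLib.Fusion.IsSylowIn p (G.autGroup Q ⊓ K) (autInducedBy M Q ⊓ K) := by
    rw [show G.autGroup Q ⊓ K = K from inf_eq_right.2 hKle,
      show autInducedBy M Q ⊓ K = K from inf_idem _]
    have hKp : IsPGroup p K := isPGroup_autInducedBy hM Q
    refine ⟨⟨⊤, hKp.of_equiv Subgroup.topEquiv.symm, fun {_} _ h => top_le_iff.1 h⟩, ?_⟩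
    rw [Subgroup.subgroupOf_self]
  obtain ⟨-, hQr⟩ := automized_receptive hM hG (isFullyNormalized_of_le G hQ.1 hMQ)
  set E := kSystem G hQ.1 K hkN with hEdef
  have hEs : E.IsSaturated p := isSaturated_kSystem hM hG hQ.1 hQr K hKS hkN
  have hsub : ∀ R, E.Hom R ⊆ G.Hom R := fun R ψ hψ => hψ.1
  have hlt : (mapSet E).ncard < k := by
    rw [← hk]
    refine Set.ncard_lt_ncard ⟨fun x hx => hsub x.1 hx, fun hle => hind fun α hα => ?_⟩
      (mapSet_finite G)
    have hI := (mem_autGroup_iff hQ.1).1 hα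
    obtain ⟨-, -, -, ψ, -, h1, β, hβ, h2⟩ := hle
      (show (⟨Q, Q.subtype.comp α.toMonoidHom⟩ : Σ P : Subgroup Ω, P →* Ω) ∈ mapSet G from hI)
    convert hβ
    ext x
    exact ((h1 x).symm.trans (h2 x) :)
  have hEgood := ih _ hlt hn hM E hEs H₀ hH₀c (fun R ψ hψ => hN₀ R ψ
    ⟨hψ.1.1, hψ.2.1, hψ.2.2.1, by
      obtain ⟨ω, hω, hω1, hω2⟩ := hψ.2.2.2
      exact ⟨ω, hsub _ hω, hω1, hω2⟩⟩) rfl
  intro P φ hφ hfix hQP
  exact hEgood P φ ⟨hφ, le_left hφ, apply_mem hφ, restrictHom φ (sup_le le_rfl hQP),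
    restrict_mem hφ _, fun x => rfl, 1, one_mem K, fun q => hfix ⟨q, hQP q.2⟩ q.2⟩

/-- The focal subgroup of `N_F(W(S))` is that of `F`. -/
theorem focal_eq_of_functor (hW : IsoInvariant p W)
    (hne : ∀ (Q : Type u) [Group Q] [Finite Q], IsPGroup p Q → Nontrivial Q → W Q ≠ ⊥)
    (hloc : FocalCondition p W) {Ω : Type u} [Group Ω] {M : Subgroup Ω} [Finite M]
    (hM : IsPGroup p M) {G : FusionSystem M} (hG : G.IsSaturated p)
    {N : FusionSystem (normalizerIn M (wOf W M))} (hN : G.IsNormalizerSystem (wOf W M) N) :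
    N.focalSubgroup = G.focalSubgroup := by
  have hn : M ≤ Subgroup.normalizer (wOf W M : Set Ω) :=
    Subgroup.le_normalizer.trans (normalizer_le_normalizer_wOf hW hM)
  refine le_antisymm (focal_le_of_controls fun P φ hφ y => mem_focal (normSystem_le hN P hφ) y) ?_
  refine focal_le_of_controls (controls_of_functor hW hne hloc _ le_rfl hM G hG _ ?_
    fun P φ hφ y => mem_focal ((hN P).symm ▸ hφ) y)
  exact le_trans (Subgroup.commutator_mono (normalizerIn_eq_self hn).ge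
    (normalizerIn_eq_self hn).ge) (commutator_le_focal N)

end CfsgLib.WeakClosed
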