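import Cfsg.Agent.WeakClosed.FusionInner
import Cfsg.Agent.PLocal.GlaubermanThompson
import Cfsg.Agent.Transfer.NormalPComplement

/-!
Inner systems from inner normalizers: the `Z(J)` criterion for odd `p`, sparse systems.
-/

set_option autoImplicit false

universe u

namespace CfsgLib.WeakClosed

open Cfsg Cfsg.FusionSystem CfsgLib.Fusion CfsgLib.FusionThompson

variable {Ω : Type u} [Group Ω] {p : ℕ}

theorem le_normalizer_of_char {M W : Subgroup Ω} [Finite M] (hWM : W ≤ M)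
    (hW : (W.subgroupOf M).Characteristic) : M ≤ Subgroup.normalizer (W : Set Ω) := by
  haveI := hW
  exact (Subgroup.normal_subgroupOf_iff_le_normalizer hWM).1 inferInstance

/-- If no maximal normal subgroup is centric and the normalizers of the non-normal subgroups
normalised by `M` are inner, the system is inner. -/
theorem allInner_of_normalizers {M Q : Subgroup Ω} [Finite M] [Fact p.Prime] (hM : IsPGroup p M)
    {G : FusionSystem M} (hG : G.IsSaturated p) (hfree : FreeSys p G) (hQ : G.IsNormal Q)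
    (hmax : ∀ W, G.IsNormal W → W ≤ Q) (hC : ¬ centralizerIn M Q ≤ Q)
    (h : ∀ U ≤ M, M ≤ Subgroup.normalizer (U : Set Ω) → ¬ G.IsNormal U →
      ∀ (P : Subgroup Ω) (φ : P →* Ω), φ ∈ G.normalizerHom U P →
        φ ∈ (innerFusionSystem M).Hom P) : AllInner G := by
  set R := Q ⊔ centralizerIn M Q with hR
  have hMQ := normal_le_normalizer hQ
  have hRin := h R (sup_le hQ.1 (centralizerIn_le M Q))
    (le_normalizer_sup hMQ (le_normalizer_centralizerIn hMQ))
    fun h' => hC (le_trans le_sup_right (hmax R h'))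
  refine allInner_of_char hM hG hfree fun W hW hWc => (isPGroup_autInducedBy hM W).to_le ?_
  by_cases hWn : G.IsNormal W
  · exact induced_of_le_normal hM hG hQ hRin (hmax W hWn)
  · exact induced_of_normalizer_inner hW (h W hW (le_normalizer_of_char hW hWc) hWn)

theorem le_normalizer_centerThompsonAOf (M : Subgroup Ω) :
    M ≤ Subgroup.normalizer (centerThompsonAOf M : Set Ω) := fun m hm => by
  rw [Subgroup.mem_normalizer_iff_map_conj_eq]
  exact (PLocal.map_centerThompsonAOf (MulAut.conj m).injective M).trans (congrArg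
    (fun X : Subgroup Ω => centerThompsonAOf X)
    (Subgroup.mem_normalizer_iff_map_conj_eq.1 (Subgroup.le_normalizer hm)))

theorem induced_of_centerThompson_inner {M : Subgroup Ω} [Finite M] {G : FusionSystem M}
    (hN : ∀ (P : Subgroup Ω) (φ : P →* Ω), φ ∈ G.normalizerHom (centerThompsonAOf M) P →
      φ ∈ (innerFusionSystem M).Hom P) :
    G.autGroup (thompsonSubgroupAOf M) ≤ autInducedBy M (thompsonSubgroupAOf M) := by
  have hJM : thompsonSubgroupAOf M ≤ M := PLocal.thompsonSubgroupAOf_le M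
  set J := thompsonSubgroupAOf M with hJ
  set Z := centerThompsonAOf M with hZ
  intro α hα
  have hZJ : Z ≤ J := inf_le_left
  have hI := (mem_autGroup_iff hJM).1 hα
  have hle : J ⊔ Z ≤ J := sup_le le_rfl hZJ
  have hmemZ : ∀ y : J, (y : Ω) ∈ Z ↔ ∀ z : J, z * y = y * z := by
    intro y
    rw [hZ, centerThompsonAOf, Subgroup.mem_inf, Subgroup.mem_centralizer_iff]
    exact ⟨fun h z => Subtype.ext (h.2 z z.2),
      fun h => ⟨y.2, fun z hz => congrArg Subtype.val (h ⟨z, hz⟩)⟩⟩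
  refine induced_of_inner hJM (hN J _ ⟨hI, ?_, ?_, restrictHom _ hle, restrict_mem hI hle,
    fun x => rfl, ?_⟩)
  · exact fun x hx => ⟨hJM hx, le_normalizer_centerThompsonAOf M (hJM hx)⟩
  · exact fun x => ⟨hJM (α x).2, le_normalizer_centerThompsonAOf M (hJM (α x).2)⟩
  · ext y
    constructor
    · rintro ⟨x, hx, rfl⟩
      show ((α ⟨(x : Ω), hle x.2⟩ : J) : Ω) ∈ Z
      have h1 := (hmemZ ⟨(x : Ω), hle x.2⟩).1 hx
      refine (hmemZ _).2 fun z => ?_
      obtain ⟨z, rfl⟩ := α.surjective z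
      rw [← map_mul, ← map_mul, h1]
    · intro hy
      obtain ⟨x, hx⟩ := α.surjective ⟨y, hZJ hy⟩
      refine ⟨⟨x, Subgroup.mem_sup_left x.2⟩, (hmemZ x).2 fun z => ?_, ?_⟩
      · have h1 := (hmemZ (α x)).1 (by rw [hx]; exact hy) (α z)
        rw [← map_mul, ← map_mul] at h1
        exact α.injective h1
      · show ((α x : J) : Ω) = y
        rw [hx]

/-- The constrained case of the `Z(J)` criterion. -/
theorem allInner_of_centric_ZJ {M Q : Subgroup Ω} [Finite M] [Fact p.Prime] (hM : IsPGroup p M)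
    {G : FusionSystem M} (hG : G.IsSaturated p) (hp : p ≠ 2) (hQ : G.IsNormal Q)
    (hQc : G.IsCentric Q)
    (hN : ∀ (P : Subgroup Ω) (φ : P →* Ω), φ ∈ G.normalizerHom (centerThompsonAOf M) P →
      φ ∈ (innerFusionSystem M).Hom P) : AllInner G := by
  obtain ⟨L, _, ι, hL, -⟩ := exists_model_self hM hG hQ hQc (Or.inl hp)
  obtain ⟨hfin, hr, ⟨T, hT⟩, hc⟩ := id hL
  haveI := hfin
  set ZT := centerThompsonAOf (T : Subgroup L) with hZT
  have himZ : im ι (centerThompsonAOf M) = ZT := by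
    rw [hZT, hT, MonoidHom.range_eq_map, ← PLocal.map_centerThompsonAOf hr.1, im]
    congr 1
    refine Subgroup.map_injective M.subtype_injective ?_
    rw [PLocal.map_centerThompsonAOf M.subtype_injective, ← MonoidHom.range_eq_map,
      Subgroup.range_subtype, Subgroup.map_subgroupOf_eq_of_le]
    exact inf_le_left.trans (PLocal.thompsonSubgroupAOf_le M)
  obtain ⟨Q₀, hQ₀, himQ⟩ := exists_im_eq ((PLocal.pCore_le_sylow T).trans hT.le)
  have hZM : centerThompsonAOf M ≤ M := inf_le_left.trans (PLocal.thompsonSubgroupAOf_le M)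
  have hsM : Q₀ ⊔ centerThompsonAOf M ≤ M := sup_le hQ₀ hZM
  have hsim : im ι (Q₀ ⊔ centerThompsonAOf M) = pCore p L ⊔ ZT := by
    rw [im, Subgroup.subgroupOf_sup hQ₀ hZM, Subgroup.map_sup]
    exact congrArg₂ (· ⊔ ·) himQ himZ
  have hNT : Subgroup.normalizer (ZT : Set L) ≤ (T : Subgroup L) := by
    intro g hg
    have hmapQ : (pCore p L).map (MulAut.conj g).toMonoidHom = pCore p L :=
      Subgroup.mem_normalizer_iff_map_conj_eq.1 (by
        rw [Subgroup.normalizer_eq_top]; exact Subgroup.mem_top g)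
    have hmapZ : ZT.map (MulAut.conj g).toMonoidHom = ZT :=
      Subgroup.mem_normalizer_iff_map_conj_eq.1 hg
    have hmap : (im ι (Q₀ ⊔ centerThompsonAOf M)).map (MulAut.conj g).toMonoidHom =
        im ι (Q₀ ⊔ centerThompsonAOf M) := by
      rw [hsim, Subgroup.map_sup, hmapQ, hmapZ]
    obtain ⟨e, he, hev⟩ := exists_iso_of_conj hr hsM hsM hmap
    have hle : Q₀ ⊔ centerThompsonAOf M ⊔ centerThompsonAOf M ≤ Q₀ ⊔ centerThompsonAOf M :=
      sup_le le_rfl le_sup_right
    obtain ⟨-, t, ht, hv⟩ := hN _ _ (show (Q₀ ⊔ centerThompsonAOf M).subtype.comp e.toMonoidHom ∈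
        G.normalizerHom (centerThompsonAOf M) (Q₀ ⊔ centerThompsonAOf M) from
      ⟨he, fun y hy => ⟨hsM hy, le_normalizer_centerThompsonAOf M (hsM hy)⟩,
        fun y => ⟨hsM (e y).2, le_normalizer_centerThompsonAOf M (hsM (e y).2)⟩,
        restrictHom _ hle, restrict_mem he hle, fun y => rfl, by
          refine eq_of_im_eq hr.1 ?_ hZM ?_
          · rintro _ ⟨y, -, rfl⟩
            exact hsM (e ⟨y, hle y.2⟩).2
          rw [himZ]
          ext v
          constructor
          · rintro ⟨m, ⟨y, hy, hym⟩, rfl⟩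
            rw [show m = ⟨((e ⟨y, hle y.2⟩ : ↥(Q₀ ⊔ centerThompsonAOf M)) : Ω),
              hsM (e ⟨y, hle y.2⟩).2⟩ from Subtype.ext hym.symm, hev]
            refine (Subgroup.mem_normalizer_iff.1 hg _).1 ?_
            rw [← himZ]
            exact (apply_mem_im_iff hr.1).2 hy
          · intro hv'
            have h1 := (Subgroup.mem_normalizer_iff''.1 hg v).1 hv'
            rw [← himZ] at h1
            obtain ⟨m, hm, hmv⟩ := h1
            have hmD : (m : Ω) ∈ Q₀ ⊔ centerThompsonAOf M := Subgroup.mem_sup_right hm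
            refine ⟨⟨_, hsM (e ⟨m, hmD⟩).2⟩, ⟨⟨m, Subgroup.mem_sup_left hmD⟩, hm, rfl⟩, ?_⟩
            rw [hev ⟨m, hmD⟩, show ι ⟨(m : Ω), hsM hmD⟩ = g⁻¹ * v * g from hmv]
            group⟩)
    have hgt : (ι ⟨t, ht⟩)⁻¹ * g ∈ Subgroup.centralizer (pCore p L : Set L) := by
      refine Subgroup.mem_centralizer_iff.2 fun q hq => ?_
      rw [SetLike.mem_coe, ← himQ] at hq
      obtain ⟨m, hm, rfl⟩ := hq
      have h1 := hev ⟨m, Subgroup.mem_sup_left hm⟩
      have h2 : ((e ⟨m, Subgroup.mem_sup_left hm⟩ : ↥(Q₀ ⊔ centerThompsonAOf M)) : Ω) =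
        t * m * t⁻¹ := hv ⟨m, Subgroup.mem_sup_left hm⟩
      rw [show (⟨_, hsM (e ⟨(m : Ω), Subgroup.mem_sup_left hm⟩).2⟩ : M) =
          ⟨t, ht⟩ * m * (⟨t, ht⟩ : M)⁻¹ from Subtype.ext h2, map_mul, map_mul, map_inv] at h1
      calc ι m * ((ι ⟨t, ht⟩)⁻¹ * g)
          = (ι ⟨t, ht⟩)⁻¹ * (ι ⟨t, ht⟩ * ι m * (ι ⟨t, ht⟩)⁻¹) * g := by group
        _ = (ι ⟨t, ht⟩)⁻¹ * (g * ι m * g⁻¹) * g := by rw [h1]
        _ = (ι ⟨t, ht⟩)⁻¹ * g * ι m := by group
    have h3 := Subgroup.mul_mem _ (show ι ⟨t, ht⟩ ∈ (T : Subgroup L) from hT ▸ ⟨_, rfl⟩)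
      (PLocal.pCore_le_sylow T (hc hgt))
    rwa [mul_inv_cancel_left] at h3
  have hLN := PLocal.hasNormalPComplement_of_normalizer_centerThompsonAOf hp T
    (Transfer.hasNormalPComplement_of_isPGroup (T.isPGroup'.to_le hNT))
  obtain ⟨P, N, hNn, hNP⟩ := hLN
  have hNbot : N = ⊥ := by
    haveI := hNn
    refine le_bot_iff.1 fun n hn => ?_
    have hdis : Disjoint N (pCore p L) :=
      hNP.disjoint.mono_right (PLocal.pCore_le_sylow P)
    have hnQ : n ∈ pCore p L := hc (Subgroup.mem_centralizer_iff.2 fun q hq =>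
      (Subgroup.commute_of_normal_of_disjoint N (pCore p L) hNn inferInstance hdis n q hn hq).symm.eq)
    exact hdis.le_bot ⟨hn, hnQ⟩
  have hTtop : (T : Subgroup L) = ⊤ := by
    have hPtop : (P : Subgroup L) = ⊤ := by
      rw [← hNP.sup_eq_top, hNbot, bot_sup_eq]
    refine Subgroup.eq_top_of_card_eq _ ?_
    rw [T.card_eq_multiplicity, ← P.card_eq_multiplicity, hPtop, Subgroup.card_top]
  intro P' φ hφ
  obtain ⟨g, hg⟩ := (hr.2 P' (le_left hφ) φ fun z => apply_mem hφ z).1 hφ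
  obtain ⟨m, rfl⟩ : g ∈ ι.range := by rw [← hT, hTtop]; exact Subgroup.mem_top g
  refine ⟨le_left hφ, m, m.2, fun y => ?_⟩
  have h1 := hg y
  rw [← map_inv, ← map_mul, ← map_mul] at h1
  exact congrArg Subtype.val (hr.1 h1)

/-- The `Z(J)` criterion for odd `p`. -/
theorem allInner_of_ZJ {M : Subgroup Ω} [Finite M] [Fact p.Prime] (hM : IsPGroup p M)
    {G : FusionSystem M} (hG : G.IsSaturated p) (hp : p ≠ 2)
    (hN : ∀ (P : Subgroup Ω) (φ : P →* Ω), φ ∈ G.normalizerHom (centerThompsonAOf M) P →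
      φ ∈ (innerFusionSystem M).Hom P) : AllInner G := by
  obtain ⟨k, hk⟩ : ∃ k, (mapSet G).ncard = k := ⟨_, rfl⟩
  induction k using Nat.strong_induction_on generalizing G with
  | _ k ih =>
  classical
  have hfree : FreeSys p G := Or.inl hp
  have hZ := zIn_central_of_induced hM hG hfree (induced_of_centerThompson_inner hN)
  obtain ⟨Q, hQ, -, hmax⟩ := exists_max_normal (isNormal_of_isCentral hZ) le_rfl
  by_cases hC : centralizerIn M Q ≤ Q
  · exact allInner_of_centric_ZJ hM hG hp hQ (isCentric_of_normal hQ hC) hN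
  refine allInner_of_normalizers hM hG hfree hQ hmax hC fun U hU hMU hUn P φ hφ => ?_
  obtain ⟨E, hEs, hE⟩ := exists_normSystem_top hM hG hU hMU
  have hsub : ∀ R, E.Hom R ⊆ G.Hom R := fun R ψ hψ => ((hE R) ▸ hψ).1
  refine ih _ (hk ▸ ncard_normSystem_lt hU hUn hE) hEs (fun R ψ hψ => hN R ψ ?_) rfl P φ
    ((hE P).symm ▸ hφ)
  obtain ⟨h1, h2, h3, ω, hω, hω1, hω2⟩ := hψ
  exact ⟨hsub R h1, h2, h3, ω, hsub _ hω, hω1, hω2⟩

theorem centralizerIn_thompson_le (M : Subgroup Ω) [Finite M] :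
    centralizerIn M (thompsonSubgroupAOf M) ≤ thompsonSubgroupAOf M := by
  intro y hy
  refine ⟨⟨y, hy.1⟩, ?_, rfl⟩
  rw [← PLocal.thompsonSubgroupAOf_top]
  refine centralizer_le_thompson (⊤ : Subgroup M) ⟨Subgroup.mem_top _,
    Subgroup.mem_centralizer_iff.2 fun z hz => Subtype.ext ?_⟩
  rw [SetLike.mem_coe, PLocal.thompsonSubgroupAOf_top] at hz
  exact Subgroup.mem_centralizer_iff.1 hy.2 _ ⟨z, hz, rfl⟩

/-- A sparse system is constrained. -/
theorem isConstrained_of_sparse {M : Subgroup Ω} [Finite M] [Fact p.Prime] (hM : IsPGroup p M)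
    {G : FusionSystem M} (hG : G.IsSaturated p) (hfree : FreeSys p G) (hne : ¬ AllInner G)
    (hsp : ∀ E : FusionSystem M, E.IsSaturated p → (∀ P, E.Hom P ⊆ G.Hom P) →
      (∀ P, E.Hom P = G.Hom P) ∨ AllInner E) : G.IsConstrained p := by
  have hkey : ∀ U ≤ M, M ≤ Subgroup.normalizer (U : Set Ω) → ¬ G.IsNormal U →
      ∀ (P : Subgroup Ω) (φ : P →* Ω), φ ∈ G.normalizerHom U P →
        φ ∈ (innerFusionSystem M).Hom P := by
    intro U hU hMU hUn P φ hφ
    obtain ⟨E, hEs, hE⟩ := exists_normSystem_top hM hG hU hMU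
    rcases hsp E hEs (fun R ψ hψ => ((hE R) ▸ hψ).1) with h | h
    · refine absurd ⟨hU, fun R ψ hψ => ?_⟩ hUn
      rw [← h R, hE R] at hψ
      exact hψ.2.2.2
    · exact h P φ ((hE P).symm ▸ hφ)
  have hJM : thompsonSubgroupAOf M ≤ M := PLocal.thompsonSubgroupAOf_le M
  by_cases hJn : G.IsNormal (thompsonSubgroupAOf M)
  · exact ⟨hG, _, hJn, isCentric_of_normal hJn (centralizerIn_thompson_le M)⟩
  have hMJ : M ≤ Subgroup.normalizer (thompsonSubgroupAOf M : Set Ω) :=
    Subgroup.le_normalizer.trans (PLocal.normalizer_le_normalizer_thompsonSubgroupAOf _)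
  have hZ := zIn_central_of_induced hM hG hfree
    (induced_of_normalizer_inner hJM (hkey _ hJM hMJ hJn))
  obtain ⟨Q, hQ, -, hmax⟩ := exists_max_normal (isNormal_of_isCentral hZ) le_rfl
  by_cases hC : centralizerIn M Q ≤ Q
  · exact ⟨hG, Q, hQ, isCentric_of_normal hQ hC⟩
  · exact absurd (allInner_of_normalizers hM hG hfree hQ hmax hC hkey) hne

end CfsgLib.WeakClosed
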