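import Cfsg.Agent.WeakClosed.GroupModel
import Cfsg.Agent.LocalEven.QdSection
import Cfsg.Agent.FusionPStable.RadicalOvergroup

/-!
`Qd(p)` involved in a group is involved in the model of the normalizer system of a fully normalized
centric subgroup (`p` odd).
-/

set_option autoImplicit false

universe u

namespace CfsgLib.WeakClosed

open Cfsg Cfsg.FusionSystem CfsgLib.Fusion Matrix
open scoped MatrixGroups

variable {p : ℕ} [Fact p.Prime]

/-- The translation part. -/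
def transPart (M : ↥(Cfsg.qd p)) : Fin 2 → ZMod p := fun i => M.1.1 i.castSucc 2

theorem transPart_mul (M N : ↥(Cfsg.qd p)) :
    transPart (M * N) = QdFree.block M *ᵥ transPart N + transPart M := by
  obtain ⟨h0, h1, h2⟩ := QdFree.lastRow N
  ext i
  fin_cases i <;>
    simp [transPart, Matrix.mulVec, dotProduct, Subgroup.coe_mul,
      Matrix.SpecialLinearGroup.coe_mul, Matrix.mul_apply, Fin.sum_univ_three, Fin.sum_univ_two, h2]

variable {G : Type u} [Group G] [Finite G]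

/-- A subgroup with a plane quotient on which its normalizer induces `SL₂(p)`. -/
def HasPlane (p : ℕ) (R : Subgroup G) : Prop :=
  ∃ τ : R →* Multiplicative (Fin 2 → ZMod p), Function.Surjective τ ∧
    ∀ M : SL(2, ZMod p), ∃ g ∈ Subgroup.normalizer (R : Set G),
      ∀ (r : R) (hr : g * (r : G) * g⁻¹ ∈ R),
        (τ ⟨_, hr⟩).toAdd = M.1 *ᵥ (τ r).toAdd

theorem HasPlane.conj {R : Subgroup G} (h : HasPlane p R) (a : G) :
    HasPlane p (R.map (MulAut.conj a).toMonoidHom) := by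
  obtain ⟨τ, hτ, hM⟩ := h
  let e := (MulAut.conj a).subgroupMap R
  refine ⟨τ.comp e.symm.toMonoidHom, hτ.comp e.symm.surjective, fun M => ?_⟩
  obtain ⟨g, hg, hgv⟩ := hM M
  refine ⟨a * g * a⁻¹, ?_, fun r hr => ?_⟩
  · have h1 := Subgroup.le_normalizer_map (MulAut.conj a).toMonoidHom ⟨g, hg, rfl⟩
    exact h1
  · obtain ⟨r, rfl⟩ := e.surjective r
    have hr' : g * (r : G) * g⁻¹ ∈ R := (Subgroup.mem_normalizer_iff.1 hg _).1 r.2
    have he : (⟨a * g * a⁻¹ * ((e r : R.map (MulAut.conj a).toMonoidHom) : G) * (a * g * a⁻¹)⁻¹,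
        hr⟩ : R.map (MulAut.conj a).toMonoidHom) = e ⟨_, hr'⟩ := Subtype.ext (by
      show a * g * a⁻¹ * (a * (r : G) * a⁻¹) * (a * g * a⁻¹)⁻¹ = a * (g * (r : G) * g⁻¹) * a⁻¹
      group)
    show (τ (e.symm ⟨_, hr⟩)).toAdd = M.1 *ᵥ (τ (e.symm (e r))).toAdd
    refine (congrArg (fun z => (τ (e.symm z)).toAdd) he).trans ?_
    show (τ (e.symm (e ⟨_, hr'⟩))).toAdd = _
    rw [e.symm_apply_apply, e.symm_apply_apply]
    exact hgv r hr'

theorem exists_plane (h : Involves ↥(Cfsg.qd p) G) :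
    ∃ R : Subgroup G, IsPGroup p R ∧ HasPlane p R := by
  obtain ⟨K, f, hf⟩ := QdFree.exists_surjective_of_involves h
  set T₀ := (QdFree.translations p).comap f with hT₀
  haveI : T₀.Normal := (QdFree.translations_normal p).comap f
  obtain ⟨R₀⟩ : Nonempty (Sylow p T₀) := inferInstance
  set R₁ : Subgroup K := (R₀ : Subgroup T₀).map T₀.subtype with hR₁
  have hfr : Subgroup.normalizer (R₁ : Set K) ⊔ T₀ = ⊤ := Sylow.normalizer_sup_eq_top R₀
  let f₀ : T₀ →* ↥(QdFree.translations p) :=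
    (f.comp T₀.subtype).codRestrict _ fun x => x.2
  have hf₀ : Function.Surjective f₀ := by
    rintro ⟨y, hy⟩
    obtain ⟨x, rfl⟩ := hf y
    exact ⟨⟨x, hy⟩, rfl⟩
  have htrans : ∀ M ∈ QdFree.translations p, ∀ N, transPart (M * N) = transPart N + transPart M :=
    fun M hM N => by
      rw [transPart_mul, MonoidHom.mem_ker.1 hM, Matrix.one_mulVec]
  have hTp : IsPGroup p (QdFree.translations p) := by
    rintro ⟨M, hM⟩
    refine ⟨1, Subtype.ext ?_⟩
    show M ^ p ^ 1 = 1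
    have hpow : ∀ n : ℕ, transPart (M ^ n) = (n : ZMod p) • transPart M := by
      intro n
      induction n with
      | zero =>
        ext i
        fin_cases i <;> simp [transPart, Subgroup.coe_one, Matrix.SpecialLinearGroup.coe_one]
      | succ n ihn =>
        rw [pow_succ', htrans M hM, ihn, Nat.cast_succ, add_smul, one_smul]
    have hb : QdFree.block (M ^ p ^ 1) = 1 := by rw [map_pow, MonoidHom.mem_ker.1 hM, one_pow]
    have ht : transPart (M ^ p ^ 1) = 0 := by rw [hpow, pow_one, ZMod.natCast_self, zero_smul]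
    obtain ⟨h0, h1, h2⟩ := QdFree.lastRow (M ^ p ^ 1)
    refine Subtype.ext (Subtype.ext (Matrix.ext fun i j => ?_))
    have e1 := fun i j : Fin 2 => congrFun (congrFun hb i) j
    have e2 := fun i : Fin 2 => congrFun ht i
    simp only [QdFree.block_apply, transPart, Pi.zero_apply] at e1 e2
    have := e1 0 0; have := e1 0 1; have := e1 1 0; have := e1 1 1; have := e2 0; have := e2 1
    fin_cases i <;> fin_cases j <;>
      simp_all [Subgroup.coe_one, Matrix.SpecialLinearGroup.coe_one, Matrix.one_apply]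
  let R₀' : Sylow p ↥(QdFree.translations p) := R₀.mapSurjective hf₀
  have hR₀' : (R₀ : Subgroup T₀).map f₀ = ⊤ := by
    have h1 : (R₀' : Subgroup ↥(QdFree.translations p)) = ⊤ :=
      (R₀'.is_maximal' (hTp.of_equiv Subgroup.topEquiv.symm) le_top).symm
    exact h1
  refine ⟨R₁.map K.subtype, (R₀.isPGroup'.map _).map _, ?_⟩
  let eR := R₁.equivMapOfInjective K.subtype K.subtype_injective
  have hR₁T : R₁ ≤ T₀ := Subgroup.map_subtype_le _
  let τ₁ : R₁ →* Multiplicative (Fin 2 → ZMod p) :=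
    MonoidHom.mk' (fun r => Multiplicative.ofAdd (transPart (f r))) fun r s => by
      rw [Subgroup.coe_mul, map_mul, htrans _ (hR₁T r.2), ← ofAdd_add, add_comm]
  have hτ₁ : Function.Surjective τ₁ := by
    intro v
    obtain ⟨⟨x, hx⟩, hxR, hxv⟩ := (hR₀'.ge (Subgroup.mem_top
      (⟨QdFree.mkQd 1 0 0 1 (v.toAdd 0) (v.toAdd 1) (by ring), by
        rw [QdFree.translations, MonoidHom.mem_ker, QdFree.block_mkQd, Matrix.one_fin_two]⟩ :
        ↥(QdFree.translations p))))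
    refine ⟨⟨x, ⟨⟨x, hx⟩, hxR, rfl⟩⟩, ?_⟩
    show Multiplicative.ofAdd (transPart (f x)) = v
    rw [show f x = QdFree.mkQd 1 0 0 1 (v.toAdd 0) (v.toAdd 1) (by ring) from
      congrArg Subtype.val hxv]
    refine Multiplicative.toAdd.injective (funext fun i => ?_)
    fin_cases i <;> simp [transPart, QdFree.val_mkQd]
  refine ⟨τ₁.comp eR.symm.toMonoidHom, fun v => ?_, fun M => ?_⟩
  · obtain ⟨r, hr⟩ := hτ₁ v
    refine ⟨eR r, ?_⟩
    show τ₁ (eR.symm (eR r)) = v
    rw [eR.symm_apply_apply, hr]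
  · have hdet : M.1 0 0 * M.1 1 1 - M.1 0 1 * M.1 1 0 = 1 := by
      rw [← Matrix.det_fin_two]; exact M.2
    obtain ⟨k, hk⟩ := hf (QdFree.mkQd (M.1 0 0) (M.1 0 1) (M.1 1 0) (M.1 1 1) 0 0 hdet)
    obtain ⟨n, hn, t, ht, hnt⟩ := Subgroup.mem_sup_of_normal_right.1
      (hfr ▸ Subgroup.mem_top k : k ∈ Subgroup.normalizer (R₁ : Set K) ⊔ T₀)
    refine ⟨(n : G), Subgroup.le_normalizer_map K.subtype ⟨n, hn, rfl⟩, fun r hr => ?_⟩
    obtain ⟨r, rfl⟩ := eR.surjective r
    have hr' : n * (r : K) * n⁻¹ ∈ R₁ := (Subgroup.mem_normalizer_iff.1 hn _).1 r.2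
    have he : (⟨(n : G) * ((eR r : R₁.map K.subtype) : G) * (n : G)⁻¹, hr⟩ :
        R₁.map K.subtype) = eR ⟨_, hr'⟩ := Subtype.ext rfl
    show (τ₁ (eR.symm ⟨_, hr⟩)).toAdd = M.1 *ᵥ (τ₁ (eR.symm (eR r))).toAdd
    refine (congrArg (fun z => (τ₁ (eR.symm z)).toAdd) he).trans ?_
    show (τ₁ (eR.symm (eR ⟨_, hr'⟩))).toAdd = _
    rw [eR.symm_apply_apply, eR.symm_apply_apply]
    show transPart (f (n * (r : K) * n⁻¹)) = M.1 *ᵥ transPart (f r)
    have hB : QdFree.block (f n) = M.1 := by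
      have h1 : QdFree.block (f k) = M.1 := by
        rw [hk, QdFree.block_mkQd]
        exact (Matrix.eta_fin_two M.1).symm
      rwa [← hnt, map_mul, map_mul, MonoidHom.mem_ker.1 ht, mul_one] at h1
    have h2 : transPart (f (n * (r : K) * n⁻¹) * f n) = transPart (f n * f r) := by
      rw [← map_mul, ← map_mul, inv_mul_cancel_right]
    rw [htrans _ (hR₁T hr'), transPart_mul, hB, add_comm] at h2
    exact add_right_cancel h2

/-- If `Qd(p)` is involved in `G`, the fusion system of `G` is not `Qd(p)`-free. -/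
theorem not_isSectionFree_of_involves (hp : p ≠ 2) (S : Sylow p G)
    (h : Involves ↥(Cfsg.qd p) G) :
    ¬ (groupFusionSystem (S : Subgroup G)).IsSectionFree p ↥(Cfsg.qd p) := by
  intro hfree
  set F := groupFusionSystem (S : Subgroup G) with hF
  have hsat := isSaturated_groupFusion S
  obtain ⟨R₀, hR₀p, hR₀⟩ := exists_plane h
  obtain ⟨a, ha⟩ := exists_conj_mem_sylow S hR₀p
  obtain ⟨R, hconj, hR⟩ := exists_fullyNormalized (F := F)
    (show R₀.map (MulAut.conj a).toMonoidHom ≤ (S : Subgroup G) by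
      rintro _ ⟨x, hx, rfl⟩; exact ha x hx)
  have hplane : HasPlane p R := by
    obtain ⟨φ, ⟨-, -, b, hb⟩, rfl⟩ := hconj
    have : φ.range = (R₀.map (MulAut.conj a).toMonoidHom).map (MulAut.conj b).toMonoidHom := by
      ext y
      exact ⟨fun ⟨x, hx⟩ => ⟨x, x.2, ((hb x).symm.trans hx :)⟩,
        fun ⟨x, hx, hxy⟩ => ⟨⟨x, hx⟩, (hb ⟨x, hx⟩).trans hxy⟩⟩
    rw [this]
    exact (hR₀.conj a).conj b
  obtain ⟨τ, hτ, hM⟩ := hplane
  have hRS : R ≤ S := hR.1
  set C := Subgroup.centralizer (R : Set G) with hC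
  obtain ⟨U, hU⟩ := (groupFusion_fullyCentralized_iff S hRS).1
    (fullyCentralized_of_normalized S.isPGroup' hsat hR)
  set CR := centralizerIn (S : Subgroup G) R with hCR
  have hCRC : CR ≤ C := inf_le_right
  set Q := R ⊔ CR with hQdef
  have hQS : Q ≤ S := sup_le hRS (centralizerIn_le _ _)
  have hQcent : centralizerIn (S : Subgroup G) Q ≤ Q :=
    (centralizerIn_anti le_sup_left).trans le_sup_right
  have hQc : F.IsCentric Q := FusionPStable.isCentric_sup_centralizerIn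
    (fullyCentralized_of_normalized S.isPGroup' hsat hR)
  -- elements normalising `Q` and acting as `SL₂`
  have hCn : Subgroup.normalizer (R : Set G) ≤ Subgroup.normalizer (C : Set G) :=
    normalizer_le_normalizer_centralizer' R
  have hget : ∀ M : SL(2, ZMod p), ∃ g ∈ Subgroup.normalizer (Q : Set G),
      g ∈ Subgroup.normalizer (R : Set G) ∧ ∀ (r : R) (hr : g * (r : G) * g⁻¹ ∈ R),
        (τ ⟨_, hr⟩).toAdd = M.1 *ᵥ (τ r).toAdd := by
    intro M
    obtain ⟨g, hg, hgv⟩ := hM M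
    set N := Subgroup.normalizer (R : Set G) with hN
    have hCN : C ≤ N := centralizer_le_normalizer' R
    haveI : (C.subgroupOf N).Normal :=
      (Subgroup.normal_subgroupOf_iff_le_normalizer hCN).2 hCn
    have hCRmap : ((CR.subgroupOf C).map (Subgroup.inclusion hCN)) = CR.subgroupOf N := by
      ext x
      constructor
      · rintro ⟨y, hy, rfl⟩; exact hy
      · intro hx; exact ⟨⟨x, hCRC hx⟩, hx, rfl⟩
    let eC : C ≃* C.subgroupOf N := (Subgroup.subgroupOfEquivOfLe hCN).symm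
    let U' : Sylow p (C.subgroupOf N) := U.mapSurjective (f := eC.toMonoidHom) eC.surjective
    have hU' : (U' : Subgroup (C.subgroupOf N)).map (C.subgroupOf N).subtype = CR.subgroupOf N := by
      show ((U : Subgroup C).map eC.toMonoidHom).map (C.subgroupOf N).subtype = _
      rw [Subgroup.map_map, hU, ← hCRmap]
      congr 1
    have hfr := Sylow.normalizer_sup_eq_top U'
    rw [hU'] at hfr
    obtain ⟨n, hn, c, hc, hnc⟩ := Subgroup.mem_sup_of_normal_right.1
      (hfr ▸ Subgroup.mem_top (⟨g, hg⟩ : N) :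
        (⟨g, hg⟩ : N) ∈ Subgroup.normalizer ((CR.subgroupOf N : Subgroup N) : Set N) ⊔ C.subgroupOf N)
    have hnCR : (n : G) ∈ Subgroup.normalizer (CR : Set G) := by
      refine Subgroup.mem_normalizer_fintype fun x hx => ?_
      exact (Subgroup.mem_normalizer_iff.1 hn ⟨x, hCN (hCRC hx)⟩).1 hx
    refine ⟨n, ?_, n.2, fun r hr => ?_⟩
    · rw [hQdef, Subgroup.mem_normalizer_iff_map_conj_eq, Subgroup.map_sup,
        Subgroup.mem_normalizer_iff_map_conj_eq.1 n.2,
        Subgroup.mem_normalizer_iff_map_conj_eq.1 hnCR]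
    · have hg' : g = (n : G) * (c : G) := (congrArg Subtype.val hnc).symm
      have hval : g * (r : G) * g⁻¹ = (n : G) * r * (n : G)⁻¹ := by
        rw [hg', show (n : G) * c * r * ((n : G) * c)⁻¹ = n * ((c : G) * r * (c : G)⁻¹) * (n : G)⁻¹
          by group, ← Subgroup.mem_centralizer_iff.1 (show (c : G) ∈ C from hc) r r.2,
          mul_inv_cancel_right]
      have h1 := hgv r (hval ▸ hr)
      rwa [show (⟨g * (r : G) * g⁻¹, hval ▸ hr⟩ : R) = ⟨(n : G) * r * (n : G)⁻¹, hr⟩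
        from Subtype.ext hval] at h1
  -- move `Q` to a fully normalized conjugate
  obtain ⟨Q', hconjQ, hQ'⟩ := exists_fullyNormalized (F := F) hQS
  obtain ⟨φ, ⟨-, hφS, b, hb⟩, hφr⟩ := hconjQ
  set c := (MulAut.conj b).toMonoidHom with hc
  have hQ'eq : Q' = Q.map c := by
    rw [← hφr]
    ext y
    exact ⟨fun ⟨x, hx⟩ => ⟨x, x.2, ((hb x).symm.trans hx :)⟩,
      fun ⟨x, hx, hxy⟩ => ⟨⟨x, hx⟩, (hb ⟨x, hx⟩).trans hxy⟩⟩
  have hQ'c : F.IsCentric Q' := ⟨hQ'.1, fun Q'' h'' => hQc.2 Q'' (isConj_trans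
    (show F.IsConj Q Q' from ⟨φ, ⟨hQS, hφS, b, hb⟩, hφr⟩) h'')⟩
  obtain ⟨E, hE⟩ := exists_isNormalizerSystem F hQ'.1
  obtain ⟨L, _, ι, hL, -⟩ := exists_model_group S hQ' hQ'c hE
  obtain ⟨hfin, hr, -, -⟩ := id hL
  haveI := hfin
  have hbR : ∀ r : R, b * (r : G) * b⁻¹ ∈ normalizerIn (S : Subgroup G) Q' := fun r =>
    le_normalizerIn hQ'.1 (hQ'eq ▸ ⟨r, Subgroup.mem_sup_left r.2, rfl⟩)
  let j : R →* L := MonoidHom.mk' (fun r => ι ⟨_, hbR r⟩) fun r s => by
    rw [← map_mul]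
    refine congrArg ι (Subtype.ext ?_)
    show b * ((r : G) * s) * b⁻¹ = b * r * b⁻¹ * (b * s * b⁻¹)
    group
  have hj : Function.Injective j := fun r s hrs => by
    have h1 : b * (r : G) * b⁻¹ = b * s * b⁻¹ := congrArg Subtype.val (hr.1 hrs)
    exact Subtype.ext (mul_left_cancel (mul_right_cancel h1))
  set R₁ := τ.ker.map j with hR₁
  have hact : ∀ M : SL(2, ZMod p), ∃ l : L, l ∈ Subgroup.normalizer (R₁ : Set L) ∧
      ∀ r : R, ∃ r' : R, l * j r * l⁻¹ = j r' ∧ (τ r').toAdd = M.1 *ᵥ (τ r).toAdd := by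
    intro M
    obtain ⟨g, hgQ, hgR, hgv⟩ := hget M
    set g' := b * g * b⁻¹ with hg'
    have hg'Q : g' ∈ Subgroup.normalizer (Q' : Set G) := by
      rw [hQ'eq]
      exact Subgroup.le_normalizer_map c ⟨g, hgQ, rfl⟩
    have hg'S : ∀ x : Q', g' * (x : G) * g'⁻¹ ∈ Q' := fun x =>
      (Subgroup.mem_normalizer_iff.1 hg'Q x).1 x.2
    have hQ'N : Q' ≤ normalizerIn (S : Subgroup G) Q' := le_normalizerIn hQ'.1
    have hmem : conjHom Q' g' ∈ E.Hom Q' := by
      refine mem_normSystem hE ⟨hQ'.1, fun x => hQ'.1 (hg'S x), g', fun x => rfl⟩ le_rfl hQ'N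
        (fun x => hQ'N (hg'S x)) ?_
      refine le_antisymm ?_ fun y hy => ?_
      · rintro _ ⟨x, -, rfl⟩
        exact hg'S x
      · exact ⟨⟨g'⁻¹ * y * g', (Subgroup.mem_normalizer_iff''.1 hg'Q y).1 hy⟩,
          (Subgroup.mem_normalizer_iff''.1 hg'Q y).1 hy,
          show g' * (g'⁻¹ * y * g') * g'⁻¹ = y by group⟩
    obtain ⟨l, hl⟩ := (hr.2 Q' hQ'N _ fun x => hQ'N (hg'S x)).1 hmem
    have hlr : ∀ r : R, ∃ r' : R, l * j r * l⁻¹ = j r' ∧ (τ r').toAdd = M.1 *ᵥ (τ r).toAdd := by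
      intro r
      have hr' : g * (r : G) * g⁻¹ ∈ R := (Subgroup.mem_normalizer_iff.1 hgR _).1 r.2
      refine ⟨⟨_, hr'⟩, ?_, hgv r hr'⟩
      have h1 := hl ⟨b * r * b⁻¹, hQ'eq ▸ ⟨r, Subgroup.mem_sup_left r.2, rfl⟩⟩
      refine Eq.trans h1.symm (congrArg ι (Subtype.ext ?_))
      show g' * (b * (r : G) * b⁻¹) * g'⁻¹ = b * (g * r * g⁻¹) * b⁻¹
      rw [hg']; group
    refine ⟨l, Subgroup.mem_normalizer_fintype fun y hy => ?_, hlr⟩
    obtain ⟨r, hr0, rfl⟩ := hy
    obtain ⟨r', h1, h2⟩ := hlr r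
    refine ⟨r', ?_, h1.symm⟩
    rw [SetLike.mem_coe, MonoidHom.mem_ker] at hr0 ⊢
    rw [hr0, toAdd_one, Matrix.mulVec_zero] at h2
    exact Multiplicative.toAdd.injective h2
  set X := Subgroup.normalizer (R₁ : Set L) with hX
  haveI : (R₁.subgroupOf X).Normal := Subgroup.normal_in_normalizer
  have hjX : ∀ r : R, j r ∈ X := fun r => by
    refine Subgroup.mem_normalizer_fintype fun y hy => ?_
    obtain ⟨s, hs, rfl⟩ := hy
    refine ⟨r * s * r⁻¹, ?_, by rw [map_mul, map_mul, map_inv]⟩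
    exact (inferInstance : τ.ker.Normal).conj_mem s hs r
  choose sec hsec using fun v : Fin 2 → ZMod p => hτ (Multiplicative.ofAdd v)
  let t : (Fin 2 → ZMod p) → ↥X ⧸ R₁.subgroupOf X := fun v => QuotientGroup.mk ⟨j (sec v), hjX _⟩
  have hwd : ∀ r s : R, τ r = τ s →
      (QuotientGroup.mk (⟨j r, hjX r⟩ : X) : ↥X ⧸ R₁.subgroupOf X) =
        QuotientGroup.mk ⟨j s, hjX s⟩ := fun r s hrs => by
    refine QuotientGroup.eq.2 ⟨r⁻¹ * s, ?_, by rw [map_mul, map_inv]; rfl⟩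
    rw [SetLike.mem_coe, MonoidHom.mem_ker, map_mul, map_inv, hrs, inv_mul_cancel]
  refine hfree Q' hQ' hQ'c E hE L ι hL (ConjFunctor.involves_trans (ConjFunctor.involves_subgroup X)
    (ConjFunctor.involves_trans (ConjFunctor.involves_quotient (R₁.subgroupOf X))
      (LocalEven.involves_qd_of_natural hp t (fun v w => ?_) (fun v w hvw => ?_) fun M => ?_)))
  · rw [← QuotientGroup.mk_mul]
    refine (hwd _ (sec v * sec w) ?_).trans (congrArg _ (Subtype.ext (map_mul j _ _)))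
    rw [map_mul, hsec, hsec, hsec, ofAdd_add]
  · obtain ⟨s, hs, hsj⟩ : (⟨j (sec v), hjX _⟩ : X)⁻¹ * ⟨j (sec w), hjX _⟩ ∈ R₁.subgroupOf X :=
      QuotientGroup.eq.1 hvw
    have h1 : s = (sec v)⁻¹ * sec w := hj (by rw [map_mul, map_inv]; exact hsj)
    subst h1
    rw [SetLike.mem_coe, MonoidHom.mem_ker, map_mul, map_inv, hsec, hsec, inv_mul_eq_one] at hs
    exact Multiplicative.ofAdd.injective hs
  · obtain ⟨l, hlX, hl⟩ := hact M
    refine ⟨QuotientGroup.mk ⟨l, hlX⟩, fun v => ?_⟩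
    obtain ⟨r', h1, h2⟩ := hl (sec v)
    rw [hsec, toAdd_ofAdd] at h2
    rw [← QuotientGroup.mk_inv, ← QuotientGroup.mk_mul, ← QuotientGroup.mk_mul]
    refine Eq.trans (congrArg _ (Subtype.ext h1)) (hwd r' _ ?_)
    rw [hsec, ← h2, ofAdd_toAdd]

end CfsgLib.WeakClosed
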