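import Cfsg.Agent.WeakClosed.TorusGroup
import Cfsg.Agent.WeakClosed.FusionFixed
import Cfsg.Agent.FusionPStable.RadicalOvergroup

/-!
Glauberman's theorem on weakly closed central subgroups for fusion systems: if `p` is odd and
`N_F(J(S)) ⊆ N_F(T)` for `T ≤ Z(S)`, then `T` is weakly closed or a cyclic `p'`-subgroup of
`Aut_F(T)` is transitive on the nonidentity elements of its commutator with `T`.
-/

set_option autoImplicit false

universe u

namespace CfsgLib.WeakClosed.Torus

open Cfsg Cfsg.FusionSystem CfsgLib.Fusion CfsgLib.FusionThompson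

variable {Ω : Type u} [Group Ω] {p : ℕ}

/-- The second alternative. -/
def CyclicTransitive {S : Subgroup Ω} (F : FusionSystem S) (p : ℕ) (T : Subgroup Ω) : Prop :=
  ∃ X : Subgroup (MulAut ↥T), X ≤ F.autGroup T ∧ X ≠ ⊥ ∧ IsCyclic ↥X ∧ (Nat.card ↥X).Coprime p ∧
    ∀ a b : ↥T, a ∈ Subgroup.closure {y : ↥T | ∃ ψ ∈ X, ∃ t : ↥T, y = ψ t * t⁻¹} →
      b ∈ Subgroup.closure {y : ↥T | ∃ ψ ∈ X, ∃ t : ↥T, y = ψ t * t⁻¹} → a ≠ 1 → b ≠ 1 →
        ∃ ψ ∈ X, ψ a = b

/-- The automorphisms of `R` map the elements of `T` into `T`. -/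
def AutT {S : Subgroup Ω} (F : FusionSystem S) (R T : Subgroup Ω) : Prop :=
  ∀ α ∈ F.autGroup R, ∀ y : R, (y : Ω) ∈ T → (α y : Ω) ∈ T

theorem AutT.transport {S R R' T : Subgroup Ω} [Finite S] {F : FusionSystem S} (h : AutT F R' T)
    {e : R ≃* R'} (he : IsIso F e) (hTR : T ≤ R) (heT : ∀ y : R, (y : Ω) ∈ T → (e y : Ω) ∈ T) :
    AutT F R T := by
  classical
  haveI := finite_of_le (hTR.trans he.le_left)
  intro α hα y hy
  have h1 := h _ (congr_mem_autGroup he hα) (e y) (heT y hy)
  rw [congr_apply] at h1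
  let g : T → T := fun t => ⟨e ⟨t, hTR t.2⟩, heT _ t.2⟩
  have hg : Function.Surjective g := Finite.injective_iff_surjective.1 fun a b hab =>
    Subtype.ext (congrArg (fun z : R => (z : Ω))
      (e.injective (Subtype.ext (congrArg (fun z : T => (z : Ω)) hab :) :
        e ⟨a, hTR a.2⟩ = e ⟨b, hTR b.2⟩)))
  obtain ⟨t, ht⟩ := hg ⟨_, h1⟩
  have h2 : (⟨t, hTR t.2⟩ : R) = α y := e.injective (Subtype.ext (congrArg (fun z : T => (z : Ω)) ht :))
  exact h2 ▸ t.2

theorem cyclicTransitive_of_hasTorus {S N T : Subgroup Ω} [Finite S] [Fact p.Prime]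
    {F : FusionSystem S} {E : FusionSystem N} (hsub : ∀ P, E.Hom P ⊆ F.Hom P) (hTN : T ≤ N)
    {L : Type u} [Group L] {ι : ↥N →* L} (hr : E.IsRealizedBy ι)
    (h : HasTorus p (im ι T)) : CyclicTransitive F p T := by
  classical
  obtain ⟨k, hk, ⟨m, hm, hkm⟩, ⟨s, hs, hsk⟩, Y, hY, htr⟩ := h
  obtain ⟨e, he, hev⟩ := exists_iso_of_conj hr hTN hTN
    (Subgroup.mem_normalizer_iff_map_conj_eq.1 hk)
  let j : T →* L := ι.comp (Subgroup.inclusion hTN)
  have hj : Function.Injective j := hr.1.comp (Subgroup.inclusion_injective hTN)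
  have hjm : ∀ t : T, j t ∈ im ι T := fun t => ⟨Subgroup.inclusion hTN t, t.2, rfl⟩
  have hje : ∀ t : T, j (e t) = k * j t * k⁻¹ := fun t => hev t
  have hpow : ∀ (i : ℕ) (t : T), j ((e ^ i) t) = k ^ i * j t * (k ^ i)⁻¹ := by
    intro i
    induction i with
    | zero => intro t; simp
    | succ i ih =>
      intro t
      rw [pow_succ', MulAut.mul_apply, hje, ih, pow_succ', mul_inv_rev]
      group
  have hem : e ^ m = 1 := MulEquiv.ext fun t => hj (by
    rw [hpow, ← Subgroup.mem_centralizer_iff.1 hkm _ (hjm t), mul_inv_cancel_right]; rfl)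
  have heF : (e : MulAut T) ∈ F.autGroup T := autGroup_mono hsub T he.mem_autGroup
  haveI : Finite T := (finite_of_le (le_left (hsub T he)) :)
  haveI : Finite (MulAut T) := Finite.of_injective (fun α => (α : T → T)) DFunLike.coe_injective
  refine ⟨Subgroup.zpowers (e : MulAut T), Subgroup.zpowers_le.2 heF, ?_, inferInstance, ?_, ?_⟩
  · rw [Ne, Subgroup.zpowers_eq_bot]
    intro he1
    obtain ⟨x, hx, rfl⟩ := hs
    refine hsk ?_
    have h1 := hje ⟨x, hx⟩
    rw [show e ⟨x, hx⟩ = ⟨x, hx⟩ from DFunLike.congr_fun he1 _] at h1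
    exact h1.symm
  · rw [Nat.card_zpowers]
    exact Nat.Coprime.coprime_dvd_left (orderOf_dvd_of_pow_eq_one hem) hm
  · intro a b ha hb ha1 hb1
    have hle : Subgroup.closure {y : ↥T | ∃ ψ ∈ Subgroup.zpowers (e : MulAut T), ∃ t : ↥T,
        y = ψ t * t⁻¹} ≤ Y.comap j := by
      refine (Subgroup.closure_le _).2 ?_
      rintro _ ⟨ψ, hψ, t, rfl⟩
      obtain ⟨i, rfl⟩ := mem_powers_iff_mem_zpowers.2 hψ
      show j _ ∈ Y
      rw [map_mul, map_inv, hpow]
      exact hY _ (hjm t) i
    obtain ⟨i, hi⟩ := htr _ (hle ha) _ (hle hb) (fun h => ha1 (hj (h.trans j.map_one.symm)))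
      (fun h => hb1 (hj (h.trans j.map_one.symm)))
    exact ⟨_, Subgroup.npow_mem_zpowers (e : MulAut T) i, hj ((hpow i a).trans hi)⟩

theorem mem_of_normalizerHom {S T P : Subgroup Ω} {F : FusionSystem S} {φ : P →* Ω}
    (hφ : φ ∈ F.normalizerHom T P) {y : P} (hy : (y : Ω) ∈ T) : φ y ∈ T := by
  obtain ⟨-, -, -, ψ, -, hψ, hψT⟩ := hφ
  rw [← hψ y]
  exact hψT.le ⟨_, hy, rfl⟩

theorem weaklyClosed_or {S : Subgroup Ω} [Finite S] [Fact p.Prime] (hS : IsPGroup p S)
    {F : FusionSystem S} (hF : F.IsSaturated p) (hp : p ≠ 2) {T : Subgroup Ω} (hT : T ≤ zIn S)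
    (hJ : ∀ P, F.normalizerHom (thompsonSubgroupAOf S) P ⊆ F.normalizerHom T P) :
    F.WeaklyClosed T ∨ CyclicTransitive F p T := by
  classical
  by_contra hcon
  rw [not_or] at hcon
  obtain ⟨hnw, hnC⟩ := hcon
  have hTS : T ≤ S := hT.trans inf_le_left
  have hcent : ∀ g ∈ S, g ∈ Subgroup.centralizer (T : Set Ω) := fun g hg =>
    Subgroup.mem_centralizer_iff.2 fun t ht =>
      (Subgroup.mem_centralizer_iff.1 (Subgroup.mem_inf.1 (hT ht)).2 g hg).symm
  have hTc : ∀ R : Subgroup Ω, F.IsCentric R → T ≤ R := fun R hR t ht =>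
    centralizerIn_le_of_centric hR (mem_centralizerIn.2 ⟨hTS ht, fun z hz =>
      Subgroup.mem_centralizer_iff.1 (Subgroup.mem_inf.1 (hT ht)).2 z (hR.1 hz)⟩)
  have hNT : normalizerIn S T = S :=
    inf_eq_left.2 (fun g hg => Subgroup.centralizer_le_normalizer _ (hcent g hg))
  -- the descent
  have hclaim : ∀ (d : ℕ) (U : Subgroup Ω) (b : ℕ),
      Nat.card S - Nat.card (normalizerIn S U) ≤ d → F.IsFullyNormalized U → F.IsCentric U →
      b ≤ Nat.card (normalizerIn S U) →
      (∀ R : Subgroup Ω, b < Nat.card R → ∀ φ ∈ F.Hom R, ∀ y : R, (y : Ω) ∈ T → φ y ∈ T) →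
      AutT F U T := by
    intro d
    induction d using Nat.strong_induction_on with
    | _ d ihd =>
    intro U b hd hU hUc hb habove
    set N := normalizerIn S U with hN
    haveI := finite_of_le (normalizerIn_le S U)
    obtain ⟨E, hE⟩ := exists_isNormalizerSystem F hU.1
    have hsub := normSystem_le hE
    obtain ⟨L, _, ι, hL⟩ := exists_model_normalizer hS hF hU hUc hE
    obtain ⟨hfin, hr, ⟨P, hP⟩, hc⟩ := id hL
    haveI := hfin
    have hUN : U ≤ N := le_normalizerIn hU.1
    have hTU : T ≤ U := hTc U hUc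
    have hTN : T ≤ N := hTU.trans hUN
    set W := thompsonSubgroupAOf N with hW
    have hWN : W ≤ N := PLocal.thompsonSubgroupAOf_le N
    have hTW : T ≤ W := fun t ht =>
      zIn_le_thompson ((zIn_le_zIn_normalizerIn hU.1) (hT ht))
    have hTim : im ι T ≤ (P : Subgroup L) := hP ▸ im_le_range ι T
    have hWT : AutT F W T := by
      intro α hα y hy
      by_cases hNS : N = S
      · have hWS : thompsonSubgroupAOf S = W := by rw [hW, hNS]
        have h : W.subtype.comp α.toMonoidHom ∈ F.normalizerHom T W := by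
          refine hJ W ?_
          rw [hWS]
          exact aut_mem_normalizerHom (hWN.trans (normalizerIn_le S U)) hα
        exact mem_of_normalizerHom h hy
      have hWS : W ≤ S := hWN.trans (normalizerIn_le S U)
      have hlt : Nat.card N < Nat.card (normalizerIn S W) :=
        card_normalizerIn_lt_of_char hS hNS hWN (thompsonSubgroupAOf_char N)
      obtain ⟨W', hconj, hW'⟩ := exists_fullyNormalized (F := F) hWS
      obtain ⟨hW'a, hW'r⟩ := automized_receptive hS hF hW'
      obtain ⟨β, hβ, hβN, hβW⟩ := exists_map_normalizerIn hS hW'a hW'r hconj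
      have h1 : Nat.card (normalizerIn S W) ≤ Nat.card (normalizerIn S W') :=
        card_normalizerIn_le hβ hβN
      -- the centric overgroup
      set W'' := W' ⊔ centralizerIn S W' with hW''
      have hW''c : F.IsCentric W'' :=
        FusionPStable.isCentric_sup_centralizerIn (fullyCentralized_of_normalized hS hF hW')
      have hext := FusionPStable.autExtends_sup_centralizerIn hW'r
      have hTW'' : T ≤ W'' := hTc W'' hW''c
      have hNW' : normalizerIn S W' ≤ normalizerIn S W'' := by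
        intro g hg
        obtain ⟨hgS, hgn⟩ := Subgroup.mem_inf.1 hg
        refine Subgroup.mem_inf.2 ⟨hgS, Subgroup.mem_normalizer_iff_map_conj_eq.2 ?_⟩
        have hn' := Subgroup.mem_normalizer_iff_map_conj_eq.1 hgn
        rw [hW'', Subgroup.map_sup, hn']
        congr 1
        rw [centralizerIn, Subgroup.map_inf _ _ _ (MulAut.conj g).injective]
        congr 1
        · exact Subgroup.mem_normalizer_iff_map_conj_eq.1 (Subgroup.le_normalizer hgS)
        · conv_rhs => rw [← hn']
          ext z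
          simp only [Subgroup.mem_map, Subgroup.mem_centralizer_iff, Subgroup.coe_map,
            Set.mem_image, forall_exists_index, and_imp, forall_apply_eq_imp_iff₂]
          constructor
          · rintro ⟨w, hw, rfl⟩ x hx
            exact (map_mul _ _ _).symm.trans ((congrArg _ (hw x hx)).trans (map_mul _ _ _))
          · intro hz
            refine ⟨g⁻¹ * z * g, fun x hx => ?_, by simp [mul_assoc]⟩
            have h2 : g * x * g⁻¹ * z = z * (g * x * g⁻¹) := hz x hx
            calc x * (g⁻¹ * z * g) = g⁻¹ * (g * x * g⁻¹ * z) * g := by group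
              _ = g⁻¹ * (z * (g * x * g⁻¹)) * g := by rw [h2]
              _ = g⁻¹ * z * g * x := by group
      haveI := finite_of_le (normalizerIn_le S W'')
      obtain ⟨R, hRconj, hR⟩ := exists_fullyNormalized (F := F) hW''c.1
      obtain ⟨hRa, hRr⟩ := automized_receptive hS hF hR
      obtain ⟨δ, hδ, hδN, hδW⟩ := exists_map_normalizerIn hS hRa hRr hRconj
      have hcard' : Nat.card (normalizerIn S W') ≤ Nat.card (normalizerIn S W'') :=
        Subgroup.card_le_of_le hNW'
      have hcardR : Nat.card (normalizerIn S W'') ≤ Nat.card (normalizerIn S R) :=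
        card_normalizerIn_le hδ hδN
      have hRc : F.IsCentric R := isCentric_of_isConj hW''c hRconj
      have hcardS : Nat.card (normalizerIn S R) ≤ Nat.card S :=
        Subgroup.card_le_of_le (normalizerIn_le S R)
      have hd' : Nat.card S - Nat.card (normalizerIn S R) < d := by omega
      have hfixR : AutT F R T := ihd _ hd' R b le_rfl hR hRc (by omega) habove
      have hW''le : W'' ≤ normalizerIn S W'' := le_normalizerIn hW''c.1
      obtain ⟨e₂, he₂, he₂v⟩ := exists_iso (restrict_mem hδ hW''le)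
        ((range_restrictHom δ hW''le).trans hδW)
      have hfix'' : AutT F W'' T := hfixR.transport he₂ hTW'' fun z hz => by
        rw [he₂v, restrictHom_apply]
        exact habove _ (by omega) δ hδ _ hz
      have hfix' : AutT F W' T := fun γ hγ z hz => by
        obtain ⟨γ', hγ', hγ'v⟩ := hext γ hγ
        rw [← hγ'v z (Subgroup.mem_sup_left z.2)]
        exact hfix'' γ' hγ' _ hz
      have hWle : W ≤ normalizerIn S W := le_normalizerIn hWS
      obtain ⟨e₁, he₁, he₁v⟩ := exists_iso (restrict_mem hβ hWle)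
        ((range_restrictHom β hWle).trans hβW)
      refine hfix'.transport he₁ hTW (fun z hz => ?_) α hα y hy
      rw [he₁v, restrictHom_apply]
      exact habove _ (by omega) β hβ _ hz
    have hNT' : Subgroup.normalizer (thompsonSubgroupAOf (P : Subgroup L) : Set L) ≤
        Subgroup.normalizer (im ι T : Set L) := by
      intro g hg
      have himJ : im ι W = thompsonSubgroupAOf (P : Subgroup L) := by
        rw [hP]; exact im_thompsonSubgroupAOf hr.1
      have hgJ : (im ι W).map (MulAut.conj g).toMonoidHom = im ι W := by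
        rw [himJ]; exact Subgroup.mem_normalizer_iff_map_conj_eq.1 hg
      obtain ⟨e, he, hev⟩ := exists_iso_of_conj hr hWN hWN hgJ
      refine mem_normalizer_of_map_le ?_
      rintro _ ⟨_, ⟨x, hx, rfl⟩, rfl⟩
      have hxW : (x : Ω) ∈ W := hTW hx
      exact ⟨⟨e ⟨x, hxW⟩, hWN (e ⟨x, hxW⟩).2⟩,
        hWT e (autGroup_mono hsub W he.mem_autGroup) ⟨x, hxW⟩ hx, hev ⟨x, hxW⟩⟩
    rcases normal_or_hasTorus hp P hc hTim (by
      rintro _ ⟨x, hx, rfl⟩
      rw [Subgroup.mem_centralizer_iff, hP]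
      rintro _ ⟨z, rfl⟩
      rw [← map_mul, ← map_mul]
      exact congrArg ι (Subtype.ext (Subgroup.mem_centralizer_iff.1
        (Subgroup.mem_inf.1 (hT hx)).2 z (normalizerIn_le S U z.2)))) hNT' with hn | hn
    · intro α hα y hy
      have hI := (mem_autGroup_iff hU.1).1 hα
      have hmem : U.subtype.comp α.toMonoidHom ∈ E.Hom U :=
        hE U ▸ aut_mem_normalizerHom hU.1 hα
      obtain ⟨g, hg⟩ := (hr.2 U hUN _ fun z => hUN (α z).2).1 hmem
      have hgn : g ∈ Subgroup.normalizer (im ι T : Set L) := by rw [hn]; exact Subgroup.mem_top g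
      have h1 : g * ι ⟨y, hUN y.2⟩ * g⁻¹ ∈ im ι T :=
        (Subgroup.mem_normalizer_iff.1 hgn _).1 ⟨_, hy, rfl⟩
      rw [← hg y] at h1
      obtain ⟨z, hz, hze⟩ := h1
      rw [hr.1 hze] at hz
      exact hz
    · exact absurd (cyclicTransitive_of_hasTorus hsub hTN hr hn) hnC
  -- Alperin
  have hker : S = kNormalizer S T ⊤ := by rw [kNormalizer_top, hNT]
  have hle : F ≤ kSystem F hTS ⊤ hker := by
    refine le_of_essential_step hS hF fun R hR hR' IH α hα => ?_
    have hRc : F.IsCentric R := hR'.elim (fun e => by rw [e]; exact isCentric_self) fun h => h.1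
    haveI := finite_of_le (normalizerIn_le S R)
    have hfix := hclaim _ R (Nat.card R) le_rfl hR hRc
      (Subgroup.card_le_of_le (le_normalizerIn hR.1)) fun R' h φ hφ y hy => by
        have h2 : φ ∈ kHom F T ⊤ S R' := IH R' h hφ
        rw [show kHom F T ⊤ S R' = kHom F T ⊤ (normalizerIn S T) R' by rw [hNT], kHom_top] at h2
        exact mem_of_normalizerHom h2 hy
    have hTR : T ≤ R := hTc R hRc
    have hI := (mem_autGroup_iff hR.1).1 hα
    refine (mem_autGroup_iff hR.1).2 ?_
    show _ ∈ kHom F T ⊤ S R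
    rw [show kHom F T ⊤ S R = kHom F T ⊤ (normalizerIn S T) R by rw [hNT], kHom_top]
    refine ⟨hI, hNT.symm ▸ hR.1, fun z => hNT.symm ▸ hR.1 (α z).2,
      restrictHom _ (sup_le le_rfl hTR), restrict_mem hI (sup_le le_rfl hTR), fun z => rfl, ?_⟩
    haveI := finite_of_le hTS
    refine Subgroup.eq_of_le_of_card_ge ?_ (le_of_eq ?_)
    · rintro _ ⟨z, hz, rfl⟩
      exact hfix α hα ⟨z, sup_le le_rfl hTR z.2⟩ hz
    · rw [Subgroup.card_map_of_injective, Nat.card_congr
        (Subgroup.subgroupOfEquivOfLe (le_sup_right : T ≤ R ⊔ T)).toEquiv]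
      exact (restrict_mem hI (sup_le le_rfl hTR) |> F.injective_of_mem)
  refine hnw ⟨hTS, fun φ hφ => ?_⟩
  haveI := finite_of_le hTS
  refine Subgroup.eq_of_le_of_card_ge ?_ (le_of_eq ?_)
  · rintro _ ⟨y, rfl⟩
    have h2 : φ ∈ kHom F T ⊤ S T := hle T hφ
    rw [show kHom F T ⊤ S T = kHom F T ⊤ (normalizerIn S T) T by rw [hNT], kHom_top] at h2
    exact mem_of_normalizerHom h2 y.2
  · exact Nat.card_congr (MonoidHom.ofInjective (F.injective_of_mem hφ)).toEquiv

end CfsgLib.WeakClosed.Torus
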