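import Cfsg.Agent.WeakClosed.FusionCenter
import Cfsg.Agent.FusionAbelian.Basic

/-!
For `p` odd the centre of a saturated system is a direct factor of the centre of `S`: the transfer
over the cosets of `Aut_S(J(S))` in `Aut_F(J(S))` projects `Z(S)` onto it.
-/

set_option autoImplicit false

universe u

namespace CfsgLib.WeakClosed

open Cfsg Cfsg.FusionSystem CfsgLib.Fusion CfsgLib.FusionThompson

variable {Ω : Type u} [Group Ω] {p : ℕ}

theorem center_factor {S : Subgroup Ω} [Finite S] [Fact p.Prime] (hS : IsPGroup p S)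
    {F : FusionSystem S} (hF : F.IsSaturated p) (hfree : FreeSys p F) :
    ∃ K : Subgroup Ω, K ≤ zIn S ∧ F.center ⊓ K = ⊥ ∧ F.center ⊔ K = zIn S := by
  classical
  set J := thompsonSubgroupAOf S with hJdef
  have hJS : J ≤ S := PLocal.thompsonSubgroupAOf_le S
  have hSJ : S ≤ Subgroup.normalizer (J : Set Ω) :=
    Subgroup.le_normalizer.trans (PLocal.normalizer_le_normalizer_thompsonSubgroupAOf S)
  have hzJ : zIn S ≤ J := zIn_le_thompson
  haveI := finite_of_le hJS
  obtain ⟨hJa, -⟩ := automized_receptive hS hF (isFullyNormalized_of_le F hJS hSJ)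
  obtain ⟨-, P, hP⟩ := hJa
  have hn : (((autInducedBy S J).subgroupOf (F.autGroup J)).index).Coprime p :=
    hP ▸ ((Fact.out : p.Prime).coprime_iff_not_dvd.2 P.not_dvd_index).symm
  set A := F.autGroup J with hA
  set B : Subgroup A := (autInducedBy S J).subgroupOf A with hB
  haveI : Fintype (A ⧸ B) := Fintype.ofFinite _
  -- `S` fixes `Z(S)`
  have hBfix : ∀ b : A, b ∈ B → ∀ z : J, (z : Ω) ∈ zIn S → (b : MulAut J) z = z := by
    intro b hb z hz
    obtain ⟨g, hg, -, hv⟩ := mem_autInducedBy_iff.1 (Subgroup.mem_subgroupOf.1 hb)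
    refine Subtype.ext ?_
    rw [hv, Subgroup.mem_centralizer_iff.1 hz.2 g hg, mul_inv_cancel_right]
  have hcoset : ∀ (q : A ⧸ B) (a : A), (a : A ⧸ B) = q → ∀ z : J, (z : Ω) ∈ zIn S →
      (a : MulAut J) z = (q.out : MulAut J) z := by
    intro q a ha z hz
    have hb : q.out⁻¹ * a ∈ B := QuotientGroup.eq.1 (by rw [QuotientGroup.out_eq', ha])
    have h1 := hBfix _ hb z hz
    calc (a : MulAut J) z = ((q.out * (q.out⁻¹ * a) : A) : MulAut J) z := by rw [mul_inv_cancel_left]
      _ = _ := by rw [Subgroup.coe_mul, MulAut.mul_apply, h1]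
  -- the transfer, with values in the centre of `J`
  have hmap : ∀ (a : MulAut J) (z : J), (z : Ω) ∈ zIn S → a z ∈ Subgroup.center J := by
    intro a z hz
    refine Subgroup.mem_center_iff.2 fun g => ?_
    have h1 : a.symm g * z = z * a.symm g :=
      Subtype.ext (Subgroup.mem_centralizer_iff.1 hz.2 _ (hJS (a.symm g).2))
    have h2 := congrArg a h1
    rwa [map_mul, map_mul, MulEquiv.apply_symm_apply] at h2
  letI : CommGroup (Subgroup.center J) :=
    { (inferInstance : Group (Subgroup.center J)) with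
      mul_comm := fun x y => Subtype.ext (Subgroup.mem_center_iff.1 y.2 x) }
  set Z := zIn S with hZ
  let ι : Z →* J := Subgroup.inclusion hzJ
  let term : A ⧸ B → Z →* Subgroup.center J := fun q =>
    ((q.out : MulAut J).toMonoidHom.comp ι).codRestrict _ fun z => hmap _ (ι z) z.2
  let tr : Z →* Subgroup.center J := ∏ q, term q
  have htr : ∀ z : Z, tr z = ∏ q, term q z := fun z => MonoidHom.finsetProd_apply term Finset.univ z
  have hcenter : ∀ z : Ω, z ∈ F.center → z ∈ Z ∧ Fixes F z := fun z hz =>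
    ⟨⟨(FusionFactor.isCentral_center F).1 hz, F.center_le_centralizer hz⟩,
      fun R φ hφ y hy => by rw [FusionAbelian.mem_center_apply hφ y (hy ▸ hz), hy]⟩
  have hfixed : ∀ z : Ω, z ∈ F.center → ∀ a : A, ∀ hz : z ∈ J, (a : MulAut J) ⟨z, hz⟩ = ⟨z, hz⟩ :=
    fun z hz a hzJ' => Subtype.ext
      ((hcenter z hz).2 J _ ((mem_autGroup_iff hJS).1 a.2) ⟨z, hzJ'⟩ rfl)
  -- the values are fixed by the automorphisms, so central in the system
  have hval : ∀ z : Z, (((tr z : Subgroup.center J) : J) : Ω) ∈ F.center := by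
    intro z
    have hAfix : ∀ a : A, (a : MulAut J) (tr z : J) = (tr z : J) := by
      intro a
      let ψ : Subgroup.center J →* Subgroup.center J :=
        ((a : MulAut J).toMonoidHom.comp (Subgroup.center J).subtype).codRestrict _ fun c => by
          refine Subgroup.mem_center_iff.2 fun g => ?_
          have h2 := congrArg (a : MulAut J) (Subgroup.mem_center_iff.1 c.2 ((a : MulAut J).symm g))
          rwa [map_mul, map_mul, MulEquiv.apply_symm_apply] at h2
      suffices h : ψ (tr z) = tr z from congrArg Subtype.val h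
      rw [htr, map_prod]
      refine Fintype.prod_bijective (fun q => a • q) (MulAction.bijective a) _ _ fun q => ?_
      refine Subtype.ext ?_
      show (a : MulAut J) ((q.out : MulAut J) (ι z)) = ((a • q).out : MulAut J) (ι z)
      rw [← hcoset (a • q) (a * q.out) (by rw [← smul_eq_mul, ← MulAction.Quotient.smul_coe,
        QuotientGroup.out_eq']) (ι z) z.2]
      rfl
    set w : Ω := ((tr z : J) : Ω) with hw
    have hwS : w ∈ S := hJS (tr z : J).2
    have hwZ : w ∈ Z := by
      refine ⟨hwS, Subgroup.mem_centralizer_iff.2 fun g hg => ?_⟩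
      have hg' : (J.normalizerMonoidHom ⟨g, hSJ hg⟩ : MulAut J) ∈ A := autInducedBy_le_autGroup hJS
        (mem_autInducedBy_iff.2 ⟨g, hg, hSJ hg, fun _ => rfl⟩)
      have h1 : g * w * g⁻¹ = w := congrArg Subtype.val (hAfix ⟨_, hg'⟩)
      exact mul_inv_eq_iff_eq_mul.1 h1
    refine mem_center_of_fixes hS hF hwS (fixes_of_thompson hS hF hfree hwZ ?_)
    intro a ha y hy
    have : y = (tr z : J) := Subtype.ext hy
    subst this
    exact congrArg Subtype.val (hAfix ⟨a, ha⟩)
  have hpow : ∀ z : Z, (z : Ω) ∈ F.center →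
      (((tr z : Subgroup.center J) : J) : Ω) = (z : Ω) ^ B.index := by
    intro z hz
    rw [htr, Finset.prod_eq_pow_card (b := (⟨ι z, hmap 1 (ι z) z.2⟩ : Subgroup.center J))
      (fun q _ => Subtype.ext (hfixed z hz q.out (hzJ z.2))), Finset.card_univ,
      ← Nat.card_eq_fintype_card, ← Subgroup.index_eq_card]
    rfl
  refine ⟨tr.ker.map Z.subtype, Subgroup.map_subtype_le _, ?_,
    le_antisymm (sup_le (fun z hz => (hcenter z hz).1) (Subgroup.map_subtype_le _)) fun z hz => ?_⟩
  · rw [eq_bot_iff]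
    rintro _ ⟨hzc, z, hzk, rfl⟩
    have h1 := hpow z hzc
    rw [(MonoidHom.mem_ker).1 hzk] at h1
    have h2 : orderOf (z : Ω) ∣ B.index := orderOf_dvd_of_pow_eq_one h1.symm
    obtain ⟨n, hn'⟩ := IsPGroup.iff_orderOf.1 hS ⟨z, z.2.1⟩
    rw [Subgroup.orderOf_mk] at hn'
    have h3 : orderOf (z : Ω) = 1 :=
      Nat.eq_one_of_dvd_coprimes (hn.pow_right n) h2 (dvd_of_eq hn')
    rw [orderOf_eq_one_iff] at h3
    exact Subgroup.mem_bot.2 h3
  · have hCS : F.center ≤ S := (FusionFactor.isCentral_center F).1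
    haveI := finite_of_le hCS
    obtain ⟨n, hn'⟩ := (hS.to_le hCS).exists_card_eq
    have hcop : (Nat.card F.center).Coprime B.index := by
      rw [hn']
      exact (hn.pow_right n).symm
    set w : F.center := (powCoprime hcop).symm ⟨_, hval ⟨z, hz⟩⟩ with hw
    have hwp : (w : Ω) ^ B.index = (((tr ⟨z, hz⟩ : Subgroup.center J) : J) : Ω) :=
      congrArg Subtype.val ((powCoprime hcop).apply_symm_apply ⟨_, hval ⟨z, hz⟩⟩)
    have hwZ : (w : Ω) ∈ Z := (hcenter w w.2).1
    have hk : (⟨(w : Ω), hwZ⟩ : Z)⁻¹ * ⟨z, hz⟩ ∈ tr.ker := by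
      rw [MonoidHom.mem_ker, map_mul, map_inv, inv_mul_eq_one]
      refine Subtype.ext (Subtype.ext ?_)
      rw [hpow ⟨(w : Ω), hwZ⟩ w.2]
      exact hwp
    have h1 := Subgroup.mul_mem _ (Subgroup.mem_sup_left (T := tr.ker.map Z.subtype) w.2)
      (Subgroup.mem_sup_right (Subgroup.mem_map_of_mem Z.subtype hk))
    simpa using h1

end CfsgLib.WeakClosed
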