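import Cfsg.Agent.WeakClosed.GoodMaps
import Cfsg.Agent.FusionBiset.Transfer
import Cfsg.Agent.Fusion.ModelBasic
import Cfsg.Agent.Fusion.NormalizerSaturated
import Cfsg.Agent.Coprime.PTimesQ
import Mathlib.GroupTheory.Focal

/-!
A functor satisfying the local focal condition controls transfer in saturated fusion systems.
-/

set_option autoImplicit false

universe u

namespace CfsgLib.WeakClosed

open Cfsg Cfsg.FusionSystem CfsgLib.Fusion CfsgLib.FusionThompson
open CfsgLib.FusionQd (wOf IsoInvariant wOf_le wOf_congr wOf_ne_bot normalizer_le_normalizer_wOf)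
open scoped commutatorElement

variable {p : ℕ} {W : ∀ (Q : Type u) [Group Q], Subgroup Q}

/-- The local focal condition. -/
def FocalCondition (p : ℕ) (W : ∀ (Q : Type u) [Group Q], Subgroup Q) : Prop :=
  ∀ (G : Type u) [Group G] [Finite G] (P : Sylow p G),
    Subgroup.centralizer (pCore p G : Set G) ≤ pCore p G →
      ∀ z ∈ pCore p G, z ∈ commutator G →
        z ∈ (commutator ↥(Subgroup.normalizer (wOf W (P : Subgroup G) : Set G))).map
          (Subgroup.normalizer (wOf W (P : Subgroup G) : Set G)).subtype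

section

variable {Ω : Type u} [Group Ω] [Fact p.Prime] {M Q : Subgroup Ω} [Finite M] {G : FusionSystem M}
  {H : Subgroup Ω}

/-- In the constrained case the focal elements in `Q` lie in `H`. -/
theorem focal_inf_le_of_centric (hM : IsPGroup p M) (hG : G.IsSaturated p) (hW : IsoInvariant p W)
    (hloc : FocalCondition p W) (hQ : G.IsNormal Q) (hQc : G.IsCentric Q)
    (hN : ∀ P φ, φ ∈ G.normalizerHom (wOf W M) P → GoodMap H φ) :
    G.focalSubgroup ⊓ Q ≤ H := by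
  obtain ⟨L, _, ι, hL⟩ := exists_model hM hG hQ hQc
  obtain ⟨hfin, hr, ⟨T, hT⟩, hc⟩ := id hL
  haveI := hfin
  have hWM : wOf W M ≤ M := wOf_le M
  have himW : im ι (wOf W M) = wOf W (T : Subgroup L) := im_wOf hW hM hr.1 hT
  haveI hQn := im_normal_of_isNormal hL hQ
  rintro x ⟨hxf, hxQ⟩
  have hxM : x ∈ M := hQ.1 hxQ
  have hxO : ι ⟨x, hxM⟩ ∈ pCore p L :=
    PLocal.le_pCore (N := im ι Q) ((hM.comap_subtype (K := M) |>.to_le
      (fun m _ => m.2)).map ι) ((apply_mem_im_iff hr.1).2 hxQ)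
  have hxC : ι ⟨x, hxM⟩ ∈ commutator L := by
    have key : ∀ z ∈ G.focalSubgroup, ∃ h : z ∈ M, ι ⟨z, h⟩ ∈ commutator L := by
      intro z hz
      induction hz using Subgroup.closure_induction with
      | mem z hz =>
        obtain ⟨P, φ, y, hφ, rfl⟩ := hz
        obtain ⟨g, hg⟩ := (hr.2 P (le_left hφ) φ fun z => apply_mem hφ z).1 hφ
        refine ⟨M.mul_mem (M.inv_mem (le_left hφ y.2)) (apply_mem hφ y), ?_⟩
        rw [show (⟨(y : Ω)⁻¹ * φ y, M.mul_mem (M.inv_mem (le_left hφ y.2)) (apply_mem hφ y)⟩ : M) =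
          (⟨y, le_left hφ y.2⟩ : M)⁻¹ * ⟨φ y, apply_mem hφ y⟩ from rfl, map_mul, map_inv, hg y]
        have h1 := Subgroup.commutator_mem_commutator (H₁ := (⊤ : Subgroup L)) (H₂ := ⊤)
          (Subgroup.mem_top (ι ⟨y, le_left hφ y.2⟩)⁻¹) (Subgroup.mem_top g)
        rw [commutatorElement_def, inv_inv] at h1
        rw [commutator_def]
        simpa [mul_assoc] using h1
      | one => exact ⟨M.one_mem, by rw [show (⟨1, M.one_mem⟩ : M) = 1 from rfl, map_one]; exact one_mem _⟩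
      | mul a b _ _ iha ihb =>
        obtain ⟨ha, ha'⟩ := iha
        obtain ⟨hb, hb'⟩ := ihb
        exact ⟨M.mul_mem ha hb, by
          rw [show (⟨a * b, M.mul_mem ha hb⟩ : M) = ⟨a, ha⟩ * ⟨b, hb⟩ from rfl, map_mul]
          exact mul_mem ha' hb'⟩
      | inv a _ iha =>
        obtain ⟨ha, ha'⟩ := iha
        exact ⟨M.inv_mem ha, by
          rw [show (⟨a⁻¹, M.inv_mem ha⟩ : M) = ⟨a, ha⟩⁻¹ from rfl, map_inv]; exact inv_mem ha'⟩
    exact (key x hxf).2
  set N := Subgroup.normalizer (wOf W (T : Subgroup L) : Set L) with hNdef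
  obtain ⟨⟨z, hzN⟩, hzc, hzx⟩ := hloc L T hc _ hxO hxC
  have hTN : (T : Subgroup L) ≤ N :=
    Subgroup.le_normalizer.trans (normalizer_le_normalizer_wOf hW T.isPGroup')
  let T' : Sylow p N := T.subtype hTN
  have hzT : (⟨z, hzN⟩ : N) ∈ (T' : Subgroup N) := by
    rw [Sylow.coe_subtype, Subgroup.mem_subgroupOf]
    show z ∈ (T : Subgroup L)
    rw [show z = ι ⟨x, hxM⟩ from hzx, hT]
    exact ⟨_, rfl⟩
  have hfoc : (⟨z, hzN⟩ : N) ∈ (T' : Subgroup N).focalSubgroup := by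
    rw [← Subgroup.commutator_inf_eq_focalSubgroup T']
    exact ⟨hzc, hzT⟩
  have hle : (T' : Subgroup N).focalSubgroup ≤
      ((H.subgroupOf M).map ι).comap N.subtype := by
    refine (Subgroup.closure_le _).2 ?_
    rintro _ ⟨hgT, a, haT, u, rfl⟩
    obtain ⟨m, hm⟩ : (a : L) ∈ ι.range := hT ▸ haT
    have hconj : (u : L) * (ι m)⁻¹ * (u : L)⁻¹ ∈ ι.range := by
      have h1 : ((⁅a, u⁆ : N) : L) ∈ ι.range := hT ▸ hgT
      have h2 := Subgroup.mul_mem _ (Subgroup.inv_mem _ (⟨m, rfl⟩ : ι m ∈ ι.range)) h1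
      rw [commutatorElement_def] at h2
      simpa [hm, mul_assoc] using h2
    obtain ⟨m', hm'⟩ := hconj
    -- the map `m⁻¹ ↦ m'`
    have hD : Subgroup.zpowers ((m⁻¹ : M) : Ω) ⊔ wOf W M ≤ M :=
      sup_le (Subgroup.zpowers_le.2 (m⁻¹ : M).2) hWM
    set D := Subgroup.zpowers ((m⁻¹ : M) : Ω) ⊔ wOf W M with hDdef
    set D' := Subgroup.zpowers (m' : Ω) ⊔ wOf W M with hD'def
    have hD'M : D' ≤ M := sup_le (Subgroup.zpowers_le.2 m'.2) hWM
    have himz : ∀ k : M, im ι (Subgroup.zpowers (k : Ω)) = Subgroup.zpowers (ι k) := fun k => by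
      rw [← MonoidHom.map_zpowers, im]
      congr 1
      refine Subgroup.map_injective M.subtype_injective ?_
      rw [MonoidHom.map_zpowers, Subgroup.map_subgroupOf_eq_of_le (Subgroup.zpowers_le.2 k.2)]
      rfl
    have himsup : ∀ k : M, im ι (Subgroup.zpowers (k : Ω) ⊔ wOf W M) =
        Subgroup.zpowers (ι k) ⊔ wOf W (T : Subgroup L) := fun k => by
      rw [im, Subgroup.subgroupOf_sup (Subgroup.zpowers_le.2 k.2) hWM, Subgroup.map_sup]
      exact congrArg₂ (· ⊔ ·) (himz k) himW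
    have hmapW : (wOf W (T : Subgroup L)).map (MulAut.conj (u : L)).toMonoidHom =
        wOf W (T : Subgroup L) := Subgroup.mem_normalizer_iff_map_conj_eq.1 u.2
    have hmap : (im ι D).map (MulAut.conj (u : L)).toMonoidHom = im ι D' := by
      rw [hDdef, hD'def, himsup, himsup, Subgroup.map_sup, MonoidHom.map_zpowers, hmapW, map_inv,
        show (MulAut.conj (u : L)).toMonoidHom (ι m)⁻¹ = ι m' from hm'.symm]
    obtain ⟨e, he, hev⟩ := exists_iso_of_conj hr hD hD'M hmap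
    have hle : D ⊔ wOf W M ≤ D := sup_le le_rfl le_sup_right
    have hn : M ≤ Subgroup.normalizer (wOf W M : Set Ω) :=
      Subgroup.le_normalizer.trans (normalizer_le_normalizer_wOf hW hM)
    have hgood := hN D (D'.subtype.comp e.toMonoidHom)
      ⟨he, fun y hy => ⟨hD hy, hn (hD hy)⟩, fun y => ⟨hD'M (e y).2, hn (hD'M (e y).2)⟩,
        restrictHom _ hle, restrict_mem he hle, fun y => rfl, by
        refine eq_of_im_eq hr.1 ?_ hWM ?_
        · rintro _ ⟨y, -, rfl⟩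
          exact hD'M (e ⟨y, hle y.2⟩).2
        rw [himW]
        ext v
        constructor
        · rintro ⟨k, ⟨y, hy, hyk⟩, rfl⟩
          rw [show k = ⟨((e ⟨y, hle y.2⟩ : D') : Ω), hD'M (e ⟨y, hle y.2⟩).2⟩ from
            Subtype.ext hyk.symm, hev]
          refine (Subgroup.mem_normalizer_iff.1 u.2 _).1 ?_
          rw [← himW]
          exact (apply_mem_im_iff hr.1).2 hy
        · intro hv'
          have h1 := (Subgroup.mem_normalizer_iff''.1 u.2 v).1 hv'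
          rw [← himW] at h1
          obtain ⟨k, hk, hkv⟩ := h1
          have hkD : (k : Ω) ∈ D := Subgroup.mem_sup_right hk
          refine ⟨⟨_, hD'M (e ⟨k, hkD⟩).2⟩, ⟨⟨k, Subgroup.mem_sup_left hkD⟩, hk, rfl⟩, ?_⟩
          rw [hev ⟨k, hkD⟩, show ι ⟨(k : Ω), hD hkD⟩ = (u : L)⁻¹ * v * (u : L) from hkv]
          group⟩
    have hmem : ((m⁻¹ : M) : Ω) ∈ D := Subgroup.mem_sup_left (Subgroup.mem_zpowers _)
    refine ⟨(m⁻¹ : M)⁻¹ * ⟨_, hD'M (e ⟨_, hmem⟩).2⟩, hgood ⟨_, hmem⟩, ?_⟩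
    rw [map_mul, map_inv, map_inv, inv_inv, hev ⟨_, hmem⟩,
      show (⟨((m⁻¹ : M) : Ω), hD hmem⟩ : M) = m⁻¹ from rfl, map_inv, hm]
    show (a : L) * ((u : L) * (a : L)⁻¹ * (u : L)⁻¹) = ((⁅a, u⁆ : N) : L)
    rw [commutatorElement_def]
    simp [mul_assoc]
  obtain ⟨m, hm, hmx⟩ : z ∈ (H.subgroupOf M).map ι := hle hfoc
  rw [show z = ι ⟨x, hxM⟩ from hzx] at hmx
  have := hr.1 hmx
  rw [this] at hm
  exact hm

/-- A step down the central series: if the automorphisms of `Q` are induced by `M`, the focal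
subgroup lies in `H U` with `U ≤ Q` normalised by `M` only if it lies in `H [U,M]`. -/
theorem controls_step (hM : IsPGroup p M) (hG : G.IsSaturated p) (hQ : G.IsNormal Q)
    (hind : G.autGroup Q ≤ autInducedBy M Q) (hH : ⁅M, M⁆ ≤ H) (hHf : H ≤ G.focalSubgroup)
    {U : Subgroup Ω} (hUQ : U ≤ Q) (hUn : M ≤ Subgroup.normalizer (U : Set Ω))
    (hU : Controls G (H ⊔ U)) : Controls G (H ⊔ ⁅U, M⁆) := by
  classical
  have hUM : U ≤ M := hUQ.trans hQ.1
  set U' := ⁅U, M⁆ with hU'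
  have hU'U : U' ≤ U := Coprime.commutator_le_of_le_normalizer hUn
  have hU'M : U' ≤ M := hU'U.trans hUM
  have hnormal : ∀ V : Subgroup Ω, V ≤ Q → M ≤ Subgroup.normalizer (V : Set Ω) → G.IsNormal V := by
    intro V hVQ hVn
    refine ⟨hVQ.trans hQ.1, fun P φ hφ => ?_⟩
    obtain ⟨ψ, hψ, hψP, hψQ⟩ := exists_normal_extension hQ hφ
    obtain ⟨α, hα, hαv⟩ := exists_iso (restrict_mem hψ (le_sup_right : Q ≤ P ⊔ Q))
      ((range_restrictHom ψ _).trans hψQ)
    obtain ⟨g, hg, -, hgv⟩ := mem_autInducedBy_iff.1 (hind hα.mem_autGroup)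
    have hle : P ⊔ V ≤ P ⊔ Q := sup_le_sup_left hVQ P
    have hval : ∀ (v : Ω) (hv : v ∈ V),
        restrictHom ψ hle ⟨v, Subgroup.mem_sup_right hv⟩ = g * v * g⁻¹ := fun v hv =>
      ((hαv ⟨v, hVQ hv⟩).symm.trans (hgv ⟨v, hVQ hv⟩) :)
    refine ⟨_, restrict_mem hψ hle, fun x => hψP x, ?_⟩
    ext y
    constructor
    · rintro ⟨⟨v, hv'⟩, hv, rfl⟩
      rw [hval v hv]
      exact (Subgroup.mem_normalizer_iff.1 (hVn hg) v).1 hv
    · intro hy
      have hv := (Subgroup.mem_normalizer_iff''.1 (hVn hg) y).1 hy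
      exact ⟨⟨_, Subgroup.mem_sup_right hv⟩, hv, (hval _ hv).trans (by group)⟩
  have hU'n : M ≤ Subgroup.normalizer (U' : Set Ω) := fun m hm => by
    rw [Subgroup.mem_normalizer_iff_map_conj_eq, hU']
    refine (Subgroup.map_commutator _ _ _).trans (congrArg₂ (⁅·, ·⁆) ?_ ?_)
    · exact Subgroup.mem_normalizer_iff_map_conj_eq.1 (hUn hm)
    · exact Subgroup.mem_normalizer_iff_map_conj_eq.1 (Subgroup.le_normalizer hm)
  have hU'N : G.IsNormal U' := hnormal U' (hU'U.trans hUQ) hU'n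
  have hsc := stronglyClosed_of_normal hU'N
  haveI : (U'.subgroupOf M).Normal :=
    (Subgroup.normal_subgroupOf_iff_le_normalizer hU'M).2 hU'n
  obtain ⟨E, hE⟩ := FusionFactor.exists_factorSystem_quotient G U' hsc
  have hEs := FusionFactor.isSaturated_factor hM hG hsc hE
  obtain ⟨hmor, -, hlift⟩ := FusionFactor.isSurjectiveMorphism_of_isFactorSystem hM hG hsc hE
  set θ := QuotientGroup.mk' (U'.subgroupOf M) with hθ
  have hTp : IsPGroup p (⊤ : Subgroup (↥M ⧸ U'.subgroupOf M)) := (hM.to_quotient _).to_subgroup ⊤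
  -- images of `U` are central
  have hcen : ∀ x : M, (x : Ω) ∈ U → θ x ∈ E.center := by
    intro x hx
    refine mem_center_of_fixes hTp hEs (Subgroup.mem_top _) fun P' φ' hφ' y hy => ?_
    obtain ⟨φ, hφ, hPM, hφM, hP', hv⟩ := hlift P' le_top φ' hφ'
    have hxP : (x : Ω) ∈ preimageAlong θ P' :=
      FusionFactor.mem_preimageAlong.2 ⟨x.2, by rw [show θ x = y from hy.symm]; exact y.2⟩
    obtain ⟨α, hα, hαv⟩ := exists_aut_normal hQ hφ
    obtain ⟨g, hg, -, hgv⟩ := mem_autInducedBy_iff.1 (hind hα)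
    have h1 := hv ⟨(x : Ω), hxP⟩
    rw [show (⟨θ ⟨(x : Ω), hPM hxP⟩, hP' ⟨_, hxP⟩⟩ : P') = y from Subtype.ext hy.symm] at h1
    rw [h1]
    have h2 : φ ⟨(x : Ω), hxP⟩ = g * x * g⁻¹ :=
      (hαv ⟨(x : Ω), hxP⟩ (hUQ hx)).trans (hgv _)
    refine (QuotientGroup.eq.2 ?_ : (QuotientGroup.mk _ : ↥M ⧸ U'.subgroupOf M) = _).symm
    rw [Subgroup.mem_subgroupOf]
    show (x : Ω)⁻¹ * φ ⟨(x : Ω), hxP⟩ ∈ U'
    rw [h2]
    have h3 := Subgroup.commutator_mem_commutator (U.inv_mem hx) hg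
    rw [commutatorElement_def, inv_inv] at h3
    simpa [mul_assoc] using h3
  intro P φ hφ y
  have hHM : H ≤ M := hHf.trans (focal_le G)
  obtain ⟨h, hh, u, hu, hhu⟩ : ∃ h ∈ H, ∃ u ∈ U, h * u = (y : Ω)⁻¹ * φ y := by
    have := hU P φ hφ y
    rw [← SetLike.mem_coe, Subgroup.coe_mul_of_left_le_normalizer_right _ _ (hHM.trans hUn)] at this
    exact Set.mem_mul.1 this
  have huf : θ ⟨u, hUM hu⟩ ∈ E.focalSubgroup := by
    refine map_focal_le hmor ⟨⟨u, hUM hu⟩, ?_, rfl⟩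
    rw [SetLike.mem_coe, Subgroup.mem_subgroupOf]
    show u ∈ G.focalSubgroup
    rw [show u = h⁻¹ * ((y : Ω)⁻¹ * φ y) by rw [← hhu, inv_mul_cancel_left]]
    exact mul_mem (inv_mem (hHf hh)) (mem_focal hφ y)
  have hcom := ((FusionBiset.focal_inf_center hTp hEs).le ⟨huf, hcen ⟨u, hUM hu⟩ hu⟩).1
  have hcle : ⁅(⊤ : Subgroup (↥M ⧸ U'.subgroupOf M)), ⊤⁆ ≤ (H.subgroupOf M).map θ := by
    rw [← Subgroup.map_top_of_surjective θ (QuotientGroup.mk'_surjective _),
      ← Subgroup.map_commutator]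
    refine Subgroup.map_mono fun c hc => hH ?_
    have h4 : (c : Ω) ∈ (⁅(⊤ : Subgroup M), (⊤ : Subgroup M)⁆ : Subgroup M).map M.subtype :=
      ⟨c, hc, rfl⟩
    rwa [Subgroup.map_commutator, ← MonoidHom.range_eq_map, Subgroup.range_subtype] at h4
  obtain ⟨c, hc, hcu⟩ := hcle hcom
  have h5 : (c : Ω)⁻¹ * u ∈ U' :=
    ((QuotientGroup.eq (s := U'.subgroupOf M) (a := c) (b := ⟨u, hUM hu⟩)).1 hcu :)
  rw [← hhu, show h * u = (h * c) * ((c : Ω)⁻¹ * u) by group]
  exact Subgroup.mul_mem _ (Subgroup.mem_sup_left (H.mul_mem hh hc)) (Subgroup.mem_sup_right h5)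

theorem commutator_lt_of_ne (hM : IsPGroup p M) {U : Subgroup Ω} (hUM : U ≤ M)
    (hUn : M ≤ Subgroup.normalizer (U : Set Ω)) (hne : U ≠ ⊥) : ⁅U, M⁆ < U := by
  have hne' : U.subgroupOf M ≠ ⊥ := fun h => hne (by
    rw [← Subgroup.map_subgroupOf_eq_of_le hUM, h, Subgroup.map_bot])
  haveI : (U.subgroupOf M).Normal := (Subgroup.normal_subgroupOf_iff_le_normalizer hUM).2 hUn
  have h := Coprime.commutator_lt_of_isPGroup (U := U.subgroupOf M) (P := ⊤)
    (hM.to_subgroup _) (hM.to_subgroup _) (by rw [Subgroup.normalizer_eq_top]) hne'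
  have h2 := (Subgroup.map_lt_map_iff_of_injective M.subtype_injective).2 h
  rwa [Subgroup.map_commutator, Subgroup.map_subgroupOf_eq_of_le hUM, ← MonoidHom.range_eq_map,
    Subgroup.range_subtype] at h2

/-- All automorphisms of `Q` induced by `M`: goodness modulo `Q` gives goodness. -/
theorem controls_of_induced (hM : IsPGroup p M) (hG : G.IsSaturated p) (hQ : G.IsNormal Q)
    (hind : G.autGroup Q ≤ autInducedBy M Q) (hH : ⁅M, M⁆ ≤ H) (hHf : H ≤ G.focalSubgroup)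
    (hHQ : Controls G (H ⊔ Q)) : Controls G H := by
  suffices key : ∀ (n : ℕ) (U : Subgroup Ω), Nat.card U = n → U ≤ Q →
      M ≤ Subgroup.normalizer (U : Set Ω) → Controls G (H ⊔ U) → Controls G H from
    key _ Q rfl le_rfl (normal_le_normalizer hQ) hHQ
  intro n
  induction n using Nat.strong_induction_on with
  | _ n ih =>
  intro U hn hUQ hUn hU
  rcases eq_or_ne U ⊥ with rfl | hne
  · rwa [sup_bot_eq] at hU
  have hUM : U ≤ M := hUQ.trans hQ.1
  haveI := finite_of_le hUM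
  have hlt := commutator_lt_of_ne hM hUM hUn hne
  refine ih _ (hn ▸ Set.Finite.card_lt_card (Set.toFinite _) hlt) ⁅U, M⁆ rfl
    (hlt.le.trans hUQ) (fun m hm => ?_) (controls_step hM hG hQ hind hH hHf hUQ hUn hU)
  rw [Subgroup.mem_normalizer_iff_map_conj_eq]
  refine (Subgroup.map_commutator _ _ _).trans (congrArg₂ (⁅·, ·⁆) ?_ ?_)
  · exact Subgroup.mem_normalizer_iff_map_conj_eq.1 (hUn hm)
  · exact Subgroup.mem_normalizer_iff_map_conj_eq.1 (Subgroup.le_normalizer hm)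

/-- A system with a normal subgroup is generated by `N(Q C(Q))` and the maps inducing inner
automorphisms of the `p`-group on it. -/
theorem controls_of_decomposition (hM : IsPGroup p M) (hG : G.IsSaturated p) (hQ : G.IsNormal Q)
    (hH : ⁅M, M⁆ ≤ H)
    (hR : ∀ P φ, φ ∈ G.normalizerHom (Q ⊔ centralizerIn M Q) P → GoodMap H φ)
    (hK : ∀ P φ, φ ∈ G.Hom P → (∀ q : P, (q : Ω) ∈ Q → φ q = q) → Q ≤ P → GoodMap H φ) :
    Controls G H := by
  refine controls_of_le_goodSystem (hH := hH) fun P φ hφ => ?_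
  obtain ⟨χ, hχ, hχP, hχQ⟩ := exists_normal_extension hQ hφ
  refine mem_of_agree (h := (le_sup_left : P ≤ P ⊔ Q)) ?_ fun x => (hχP x).symm
  clear hφ φ hχP
  revert χ
  generalize hD : P ⊔ Q = D
  intro χ hχ hχQ
  have hQD : Q ≤ D := hD ▸ le_sup_right
  haveI := finite_of_le hQ.1
  have hMQ := normal_le_normalizer hQ
  set S₀ := centralizerIn M Q with hS₀
  set R := Q ⊔ S₀ with hRdef
  have hMR : M ≤ Subgroup.normalizer (R : Set Ω) :=
    le_normalizer_sup hMQ (le_normalizer_centralizerIn hMQ)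
  obtain ⟨e, he, heχ⟩ := exists_iso (restrict_mem hχ hQD) ((range_restrictHom χ _).trans hχQ)
  obtain ⟨-, hQr⟩ := automized_receptive hM hG (isFullyNormalized_of_le G hQ.1 hMQ)
  have hext : D ⊔ S₀ ≤ extender M Q (Q.subtype.comp e.toMonoidHom) := by
    refine sup_le (fun d hd => ?_) (centralizerIn_le_extender _)
    exact inf_normalizer_le_extender hχ hQD
      (fun x => by rw [← restrictHom_apply χ hQD x, ← heχ x]; rfl)
      ⟨hd, hMQ (le_left hχ hd)⟩
  obtain ⟨ν, hν, hνe⟩ := exists_extension hQr he hext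
  have hνQ : imgHom ν Q = Q := imgHom_eq_of_agree (hQD.trans le_sup_left) hνe
  have hνS₀ : imgHom ν S₀ = S₀ := by
    haveI := finite_of_le (centralizerIn_le M Q)
    haveI : Finite ↥(imgHom ν S₀) := Nat.finite_of_card_ne_zero (by
      rw [card_imgHom (G.injective_of_mem hν) le_sup_right]; exact Nat.card_pos.ne')
    refine Subgroup.eq_of_le_of_card_ge ?_ (card_imgHom (G.injective_of_mem hν) le_sup_right).ge
    rintro _ ⟨x, hx, rfl⟩
    refine Subgroup.mem_inf.2 ⟨apply_mem hν x, ?_⟩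
    have h := map_mem_centralizer (hQD.trans le_sup_left) (ψ := ν) (g := x)
      (mem_centralizerIn.1 hx).2
    rwa [hνQ] at h
  have hle : D ⊔ R ≤ D ⊔ S₀ := sup_le le_sup_left (sup_le (hQD.trans le_sup_left) le_sup_right)
  have hνN : restrictHom ν le_sup_left ∈ G.normalizerHom R D := by
    refine ⟨restrict_mem hν _, le_inf (le_left hχ) ((le_left hχ).trans hMR),
      fun x => ⟨apply_mem hν _, hMR (apply_mem hν _)⟩, restrictHom ν hle, restrict_mem hν hle,
      fun x => rfl, ?_⟩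
    refine Eq.trans ?_ (congrArg₂ (· ⊔ ·) hνQ hνS₀)
    rw [← imgHom_sup ν (hQD.trans le_sup_left) le_sup_right]
    ext w
    exact ⟨fun ⟨x, hx, hxw⟩ => ⟨⟨x, hle x.2⟩, hx, hxw⟩,
      fun ⟨x, hx, hxw⟩ => ⟨⟨x, Subgroup.mem_sup_right hx⟩, hx, hxw⟩⟩
  obtain ⟨n, hn, hnν⟩ := exists_iso_range (restrict_mem hν (le_sup_left : D ≤ D ⊔ S₀))
  obtain ⟨c, hc, hcχ⟩ := exists_iso_range hχ
  have hnG : IsIso (goodSystem G H hH) n := mem_congr
    (show restrictHom ν (le_sup_left : D ≤ D ⊔ S₀) ∈ (goodSystem G H hH).Hom D from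
      ⟨restrict_mem hν _, hR D _ hνN⟩) fun d => hnν d
  have hagree : ∀ (q : Ω) (hq : q ∈ Q), (n ⟨q, hQD hq⟩ : Ω) = χ ⟨q, hQD hq⟩ := fun q hq => by
    rw [hnν, restrictHom_apply]
    refine (hνe ⟨q, hq⟩ _).trans ?_
    rw [heχ ⟨q, hq⟩]
    rfl
  have hQrange : Q ≤ (restrictHom ν (le_sup_left : D ≤ D ⊔ S₀)).range := fun q hq => by
    obtain ⟨d, hd, hdq⟩ := hνQ.ge hq
    exact ⟨⟨d, hQD hd⟩, hdq⟩
  have hκ : IsIso (goodSystem G H hH) (n.symm.trans c) := by
    refine ⟨hn.symm.trans hc, hK _ _ (hn.symm.trans hc) (fun q hq => ?_) hQrange⟩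
    obtain ⟨d, hd, hdq⟩ := hνQ.ge hq
    have hdD : (d : Ω) ∈ D := hQD hd
    have e1 : n ⟨d, hdD⟩ = q := Subtype.ext (by rw [hnν, restrictHom_apply]; exact hdq)
    show ((c (n.symm q) : χ.range) : Ω) = q
    rw [← e1, MulEquiv.symm_apply_apply, hcχ, hagree d hd]
  refine mem_congr (hnG.trans hκ) fun d => ?_
  show χ d = ((c (n.symm (n d)) : χ.range) : Ω)
  rw [MulEquiv.symm_apply_apply, hcχ]

end

end CfsgLib.WeakClosed
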