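import Cfsg.Agent.WeakClosed.FunctorFixed
import Cfsg.Agent.FusionFactor.Lift
import Cfsg.Agent.FusionFactor.Construct
import Cfsg.Agent.FusionFactor.ImageSaturated

/-!
Maps moving no element outside a subgroup containing `[S,S]`: subsystem, transport of normalizers,
behaviour under factor systems.
-/

set_option autoImplicit false

universe u v

namespace CfsgLib.WeakClosed

open Cfsg Cfsg.FusionSystem CfsgLib.Fusion CfsgLib.FusionThompson
open scoped commutatorElement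

variable {Ω : Type u} [Group Ω] {p : ℕ}

/-- The map moves every element by an element of `H`. -/
def GoodMap (H : Subgroup Ω) {P : Subgroup Ω} (φ : P →* Ω) : Prop :=
  ∀ y : P, (y : Ω)⁻¹ * φ y ∈ H

/-- All maps are good. -/
def Controls {M : Subgroup Ω} (G : FusionSystem M) (H : Subgroup Ω) : Prop :=
  ∀ (P : Subgroup Ω) (φ : P →* Ω), φ ∈ G.Hom P → GoodMap H φ

theorem focal_le_of_controls {M H : Subgroup Ω} {G : FusionSystem M} (h : Controls G H) :
    G.focalSubgroup ≤ H :=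
  (Subgroup.closure_le _).2 fun _ ⟨P, φ, x, hφ, hy⟩ => hy ▸ h P φ hφ x

theorem focal_le {M : Subgroup Ω} (G : FusionSystem M) : G.focalSubgroup ≤ M :=
  focal_le_of_controls fun _ _ hφ y => M.mul_mem (M.inv_mem (le_left hφ y.2)) (apply_mem hφ y)

theorem mem_focal {M : Subgroup Ω} {G : FusionSystem M} {P : Subgroup Ω} {φ : P →* Ω}
    (hφ : φ ∈ G.Hom P) (y : P) : (y : Ω)⁻¹ * φ y ∈ G.focalSubgroup :=
  Subgroup.subset_closure ⟨P, φ, y, hφ, rfl⟩

theorem commutator_le_focal {M : Subgroup Ω} (G : FusionSystem M) :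
    ⁅M, M⁆ ≤ G.focalSubgroup := by
  refine Subgroup.commutator_le.2 fun a ha b hb => ?_
  have h1 := mem_focal (G.conj_mem (le_refl M) hb) ⟨a⁻¹, M.inv_mem ha⟩
  simpa [commutatorElement_def, conjHom, mul_assoc] using h1

theorem inv_mul_conj_mem {M H : Subgroup Ω} (hH : ⁅M, M⁆ ≤ H) {g y : Ω} (hg : g ∈ M)
    (hy : y ∈ M) : y⁻¹ * (g * y * g⁻¹) ∈ H := by
  have h1 := hH (Subgroup.commutator_mem_commutator (M.inv_mem hy) hg)
  simpa [commutatorElement_def, mul_assoc] using h1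

/-- The subsystem of good maps. -/
def goodSystem {M : Subgroup Ω} (G : FusionSystem M) (H : Subgroup Ω) (hH : ⁅M, M⁆ ≤ H) :
    FusionSystem M where
  Hom P := {φ | φ ∈ G.Hom P ∧ GoodMap H φ}
  le_of_mem h := G.le_of_mem h.1
  injective_of_mem h := G.injective_of_mem h.1
  conj_mem hP hg := ⟨G.conj_mem hP hg, fun y => inv_mul_conj_mem hH hg (hP y.2)⟩
  comp_mem := by
    rintro P Q φ ψ ⟨hφ, hφH⟩ ⟨hψ, hψH⟩ h
    refine ⟨G.comp_mem hφ hψ h, fun y => ?_⟩
    have := H.mul_mem (hφH y) (hψH ⟨φ y, h y⟩)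
    rw [mul_assoc, mul_inv_cancel_left] at this
    exact this
  inv_mem := by
    rintro P φ ⟨hφ, hφH⟩
    obtain ⟨ψ, hψ, hψv⟩ := G.inv_mem hφ
    refine ⟨ψ, ⟨hψ, ?_⟩, hψv⟩
    rintro ⟨_, x, rfl⟩
    rw [hψv x]
    simpa using H.inv_mem (hφH x)

theorem controls_of_le_goodSystem {M H : Subgroup Ω} {G : FusionSystem M} {hH : ⁅M, M⁆ ≤ H}
    (h : ∀ P, G.Hom P ⊆ (goodSystem G H hH).Hom P) : Controls G H :=
  fun P _ hφ => (h P hφ).2

/-- Transport of the maps normalising `W₁` along a map in the target system. -/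
theorem normalizerHom_subset_of_map {M T : Subgroup Ω} [Finite M] {G : FusionSystem M}
    {E : FusionSystem T} {W₁ Q₁ : Subgroup Ω} (hW1M : W₁ ≤ M) (hQ1M : Q₁ ≤ M)
    {β : normalizerIn M W₁ →* Ω} (hβ : β ∈ G.Hom (normalizerIn M W₁))
    (hβN : ∀ x, β x ∈ normalizerIn M Q₁) (hβW : imgHom β W₁ = Q₁)
    (hβE : β ∈ E.Hom (normalizerIn M W₁))
    (hQ1E : ∀ P, G.normalizerHom Q₁ P ⊆ E.Hom P) :
    ∀ P, G.normalizerHom W₁ P ⊆ E.Hom P := by
  rintro P φ ⟨hφ, hP, hφN, ω, hω, hωP, hωW⟩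
  have hDle : P ⊔ W₁ ≤ normalizerIn M W₁ := sup_le hP (le_normalizerIn hW1M)
  have hωN : ∀ x, ω x ∈ normalizerIn M W₁ := by
    intro x
    have h1 : ω x ∈ φ.range ⊔ W₁ :=
      range_extension hωP hωW ▸ (⟨x, rfl⟩ : ω x ∈ ω.range)
    refine sup_le ?_ (le_normalizerIn hW1M) h1
    rintro _ ⟨y, rfl⟩
    exact hφN y
  obtain ⟨a, ha, haω⟩ := exists_iso_range hω
  obtain ⟨b₁, hb1, hb1β⟩ := exists_iso_range (restrict_mem hβ hDle)
  have hrle : ω.range ≤ normalizerIn M W₁ := by rintro _ ⟨x, rfl⟩; exact hωN x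
  obtain ⟨b₂, hb2, hb2β⟩ := exists_iso_range (restrict_mem hβ hrle)
  have hb1E : IsIso E b₁ := mem_congr (restrict_mem hβE hDle) fun x => hb1β x
  have hb2E : IsIso E b₂ := mem_congr (restrict_mem hβE hrle) fun x => hb2β x
  set κ := b₁.symm.trans (a.trans b₂) with hκ
  have hκG : IsIso G κ := hb1.symm.trans (ha.trans hb2)
  have hQle : Q₁ ≤ (restrictHom β hDle).range := by
    rw [← hβW, range_restrictHom]
    exact imgHom_mono β le_sup_right
  have hsupeq : (restrictHom β hDle).range ⊔ Q₁ = (restrictHom β hDle).range :=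
    sup_eq_left.2 hQle
  have hrN : ∀ {R : Subgroup Ω} (h : R ≤ normalizerIn M W₁),
      (restrictHom β h).range ≤ normalizerIn M Q₁ := by
    intro R h
    rintro _ ⟨x, rfl⟩
    exact hβN _
  have hκE : IsIso E κ := by
    refine hQ1E _ ⟨hκG, hrN hDle, fun y => hrN hrle (κ y).2, restrictHom _ hsupeq.le,
      restrict_mem hκG hsupeq.le, fun y => rfl, ?_⟩
    haveI := finite_of_le hQ1M
    refine Subgroup.eq_of_le_of_card_ge ?_ ?_
    · rintro _ ⟨y, hy, rfl⟩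
      have hy' : (y : Ω) ∈ Q₁ := hy
      obtain ⟨w, hw, hwy⟩ := hβW.ge hy'
      rw [restrictHom_apply]
      have hwD : (w : Ω) ∈ P ⊔ W₁ := Subgroup.mem_sup_right hw
      have e1 : b₁ ⟨w, hwD⟩ = ⟨(y : Ω), hsupeq.le y.2⟩ := Subtype.ext (by
        rw [hb1β, restrictHom_apply]; exact hwy)
      show (((b₁.symm.trans (a.trans b₂)) ⟨(y : Ω), hsupeq.le y.2⟩ : _) : Ω) ∈ Q₁
      rw [← e1]
      show ((b₂ (a (b₁.symm (b₁ ⟨w, hwD⟩))) : _) : Ω) ∈ Q₁
      rw [MulEquiv.symm_apply_apply, hb2β, restrictHom_apply, ← hβW]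
      refine apply_mem_imgHom β ?_
      show ((a ⟨w, hwD⟩ : ω.range) : Ω) ∈ W₁
      rw [haω]
      exact hωW.le ⟨⟨w, hwD⟩, hw, rfl⟩
    · refine le_of_eq ?_
      rw [Subgroup.card_map_of_injective
        (fun y y' h => Subtype.ext (congrArg Subtype.val
          (G.injective_of_mem (restrict_mem hκG hsupeq.le) h))),
        Nat.card_congr (Subgroup.subgroupOfEquivOfLe le_sup_right).toEquiv]
  have haE : IsIso E a := by
    refine mem_congr ((hb1E.trans hκE).trans hb2E.symm) fun x => ?_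
    show ((a x : ω.range) : Ω) = ((b₂.symm (κ (b₁ x)) : ω.range) : Ω)
    rw [hκ]
    simp
  refine mem_of_agree (h := (le_sup_left : P ≤ P ⊔ W₁)) haE fun x => ?_
  rw [← hωP x]
  exact (haω _).symm

/-- Focal subgroups map into focal subgroups along morphisms. -/
theorem map_focal_le {M : Subgroup Ω} {G : FusionSystem M} {Ω' : Type v} [Group Ω']
    {M' : Subgroup Ω'} {E : FusionSystem M'} {θ : M →* Ω'} (hθ : G.IsMorphism E θ) :
    (G.focalSubgroup.subgroupOf M).map θ ≤ E.focalSubgroup := by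
  rintro _ ⟨⟨z, hzM⟩, hz, rfl⟩
  rw [SetLike.mem_coe, Subgroup.mem_subgroupOf] at hz
  have key : ∀ z ∈ G.focalSubgroup, ∃ h : z ∈ M, θ ⟨z, h⟩ ∈ E.focalSubgroup := by
    intro z hz
    induction hz using Subgroup.closure_induction with
    | mem z hz =>
      obtain ⟨P, φ, x, hφ, rfl⟩ := hz
      obtain ⟨φ', hφ', hPM, hφM, hP', hv⟩ := hθ.2 P φ hφ
      refine ⟨M.mul_mem (M.inv_mem (hPM x.2)) (hφM x), ?_⟩
      have h1 := mem_focal hφ' ⟨θ ⟨x, hPM x.2⟩, hP' x⟩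
      rw [hv x] at h1
      rw [show (⟨(x : Ω)⁻¹ * φ x, M.mul_mem (M.inv_mem (hPM x.2)) (hφM x)⟩ : M) =
        (⟨x, hPM x.2⟩ : M)⁻¹ * ⟨φ x, hφM x⟩ from rfl, map_mul, map_inv]
      exact h1
    | one => exact ⟨M.one_mem, by rw [show (⟨1, M.one_mem⟩ : M) = 1 from rfl, map_one]; exact one_mem _⟩
    | mul a b _ _ iha ihb =>
      obtain ⟨ha, ha'⟩ := iha
      obtain ⟨hb, hb'⟩ := ihb
      exact ⟨M.mul_mem ha hb, by
        rw [show (⟨a * b, M.mul_mem ha hb⟩ : M) = ⟨a, ha⟩ * ⟨b, hb⟩ from rfl, map_mul]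
        exact mul_mem ha' hb'⟩
    | inv a _ iha =>
      obtain ⟨ha, ha'⟩ := iha
      exact ⟨M.inv_mem ha, by
        rw [show (⟨a⁻¹, M.inv_mem ha⟩ : M) = ⟨a, ha⟩⁻¹ from rfl, map_inv]; exact inv_mem ha'⟩
  exact (key z hz).2

end CfsgLib.WeakClosed
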