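import Cfsg.Agent.WeakClosed.Products
import Cfsg.Agent.WeakClosed.Transvection
import Cfsg.Agent.ConjFunctor.Sections
import Cfsg.Agent.PLocal.Cores

/-!
Glauberman's theorem on weakly closed elements, constrained case: let `X` satisfy
`C_X(O_p(X)) ≤ O_p(X)` with `p` odd or `S₄` not involved.  An element of a Sylow `p`-subgroup `P`
centralised by `N(J(P))` is central in `X`.
-/

set_option autoImplicit false

universe u

namespace CfsgLib.WeakClosed

open Cfsg Subgroup
open scoped IsMulCommutative

/-- `p` is odd or `S₄` is not involved. -/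
def Adequate (p : ℕ) (X : Type u) [Group X] : Prop :=
  p ≠ 2 ∨ ¬ Involves (Equiv.Perm (Fin 4)) X

theorem Adequate.of_involves {p : ℕ} {X Y : Type u} [Group X] [Group Y] (h : Adequate p X)
    (hY : Involves Y X) : Adequate p Y :=
  h.imp id fun h h' => h (ConjFunctor.involves_trans hY h')

variable {p : ℕ} [Fact p.Prime]

theorem isSylowIn_top {X : Type u} [Group X] [Finite X] (P : Sylow p X) :
    ConjFunctor.IsSylowIn p (P : Subgroup X) ⊤ :=
  ⟨le_top, P.isPGroup', by rw [relIndex_top_right]; exact P.not_dvd_index⟩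

theorem frattini_inf {X : Type u} [Group X] [Finite X] (P : Sylow p X) (N : Subgroup X) [N.Normal] :
    normalizer (((P : Subgroup X) ⊓ N : Subgroup X) : Set X) ⊔ N = ⊤ := by
  have h : ConjFunctor.IsSylowIn p ((P : Subgroup X) ⊓ N) N := (isSylowIn_top P).inf_of_normal le_top (by rw [normalizer_eq_top (H := N)])
  let T : Sylow p N := (h.2.1.comap_subtype (K := N)).toSylow h.2.2
  have hfr := Sylow.normalizer_sup_eq_top T
  rwa [show ((T : Subgroup N).map N.subtype) = (P : Subgroup X) ⊓ N from
    map_subgroupOf_eq_of_le inf_le_right] at hfr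

/-- The maps fixing `x`: all proper overgroups of `P` centralise `x`, and so does `N(J(P))`. -/
theorem mem_center_step {X : Type u} [Group X] [Finite X] (P : Sylow p X)
    (hc : centralizer (pCore p X : Set X) ≤ pCore p X) (hfree : Adequate p X) {x : X}
    (hxP : x ∈ (P : Subgroup X))
    (hN : normalizer (thompsonSubgroupAOf (P : Subgroup X) : Set X) ≤ centralizer ({x} : Set X))
    (hxp : x ^ p ∈ center X)
    (hmax : ∀ H : Subgroup X, (P : Subgroup X) ≤ H → H ≠ ⊤ → H ≤ centralizer ({x} : Set X)) :
    x ∈ center X := by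
  classical
  by_contra hxZ
  set M := centralizer ({x} : Set X) with hM
  have hMne : M ≠ ⊤ := fun h => hxZ (mem_center_iff.2 fun g =>
    mem_centralizer_singleton_iff.1 (h ▸ mem_top g : g ∈ M))
  set Q := pCore p X with hQ
  have hQn : Q.Normal := inferInstance
  have hQP : Q ≤ P := PLocal.pCore_le_sylow P
  have hPM : (P : Subgroup X) ≤ M := le_trans (le_trans Subgroup.le_normalizer
    (PLocal.normalizer_le_normalizer_thompsonSubgroupAOf _)) hN
  have hxC : x ∈ centralizer (Q : Set X) :=
    mem_centralizer_iff.2 fun y hy => mem_centralizer_singleton_iff.1 (hPM (hQP hy))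
  set V := normalClosure ({x} : Set X) with hV
  have hxV : x ∈ V := subset_normalClosure (Set.mem_singleton x)
  have hVQ : V ≤ Q ⊓ centralizer (Q : Set X) :=
    normalClosure_le_normal (Set.singleton_subset_iff.2 (mem_inf.2 ⟨hc hxC, hxC⟩))
  have hVc : ∀ a ∈ V, ∀ b ∈ V, a * b = b * a := fun a ha b hb =>
    (mem_centralizer_iff.1 (hVQ ha).2 b (hVQ hb).1).symm
  haveI : IsMulCommutative V := ⟨⟨fun a b => Subtype.ext (hVc a a.2 b b.2)⟩⟩
  have hVP : V ≤ P := (hVQ.trans inf_le_left).trans hQP
  have hVp : IsPGroup p V := P.isPGroup'.to_le hVP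
  have hpow : ∀ v ∈ V, v ^ p ∈ center X := by
    intro v hv
    induction hv using closure_induction with
    | mem y hy =>
      obtain ⟨z, hz, hconj⟩ := Group.mem_conjugatesOfSet_iff.1 hy
      rw [Set.mem_singleton_iff] at hz
      rw [hz] at hconj
      obtain ⟨g, hg⟩ := isConj_iff.1 hconj
      rw [← hg]
      rw [conj_pow, mem_center_iff.1 hxp g, mul_inv_cancel_right]
      exact hxp
    | one => simp
    | mul a b ha hb iha ihb =>
      rw [(show Commute a b from hVc a ha b hb).mul_pow]; exact mul_mem iha ihb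
    | inv a _ iha => rw [inv_pow]; exact inv_mem iha
  set C := centralizer (V : Set X) with hC
  have hCM : C ≤ M := centralizer_le (Set.singleton_subset_iff.2 hxV)
  have hQC : Q ≤ C := fun y hy => mem_centralizer_iff.2 fun v hv =>
    (mem_centralizer_iff.1 (hVQ hv).2 y hy).symm
  have hJ : ¬ thompsonSubgroupAOf (P : Subgroup X) ≤ C := by
    intro hle
    refine hMne (top_le_iff.1 ((frattini_inf P C).ge.trans (sup_le ?_ hCM)))
    refine (PLocal.normalizer_le_normalizer_thompsonSubgroupAOf _).trans ?_
    rw [PLocal.thompsonSubgroupAOf_eq_of_le inf_le_left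
      (le_inf (PLocal.thompsonSubgroupAOf_le _) hle)]
    exact hN
  -- smallest offenders
  obtain ⟨E₁, -, hE₁⟩ := exists_offender P.isPGroup' hVP hVc hJ
  obtain ⟨E₂, hE₂, hmin⟩ := Set.exists_min_image {E : Subgroup X | IsOffender p V E}
    (fun E => Nat.card E) (Set.toFinite _) ⟨E₁, hE₁⟩
  have hS := isSylowIn_top P
  obtain ⟨g₀, -, hg₀⟩ := hS.exists_cj_le (A := E₂) le_top hE₂.pgroup
  set D := minOffenders p V with hD
  have hDinv : ∀ s : X, ∀ E ∈ D, E.map (MulAut.conj s).toMonoidHom ∈ D :=
    fun s E hE => minOffenders_conj hE s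
  set E₀ := E₂.map (MulAut.conj g₀).toMonoidHom with hE₀
  have hE₀D : E₀ ∈ D := hDinv g₀ E₂ ⟨hE₂, hmin⟩
  -- the fixed points
  set Es := sSup {E : Subgroup X | E ∈ D ∧ E ≤ P} with hEs
  have hEsP : Es ≤ P := sSup_le fun E hE => hE.2
  have hE₀s : E₀ ≤ Es := le_sSup ⟨hE₀D, hg₀⟩
  have hmapEs : ∀ n : X, Es.map (MulAut.conj n).toMonoidHom ≤ P →
      n ∈ normalizer (Es : Set X) := fun n hn => by
    refine ConjFunctor.mem_normalizer_of_cj_le ?_
    rw [map_le_iff_le_comap]
    refine sSup_le fun E hE => map_le_iff_le_comap.1 (le_sSup ⟨hDinv n E hE.1, ?_⟩)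
    exact (map_mono (le_sSup hE)).trans hn
  have hNEs : normalizer (Es : Set X) ≤ M := by
    refine hmax _ (fun s hs => hmapEs s ?_) fun htop => ?_
    · rintro _ ⟨y, hy, rfl⟩
      exact mul_mem (mul_mem hs (hEsP hy)) (inv_mem hs)
    · have : Es.Normal := normalizer_eq_top_iff.1 htop
      exact hE₀D.1.not_le ((hE₀s.trans (PLocal.le_pCore (P.isPGroup'.to_le hEsP))).trans hQC)
  haveI : Fintype (X ⧸ M) := Fintype.ofFinite _
  have hfixed : Finset.univ.filter (fun r : X ⧸ M => ¬ Moves D (P : Subgroup X) r) =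
      {((1 : X) : X ⧸ M)} := by
    ext r
    induction r using QuotientGroup.induction_on with
    | H g =>
    simp only [Finset.mem_filter, Finset.mem_univ, true_and, Finset.mem_singleton]
    constructor
    · intro hr
      have hle : Es.map (MulAut.conj g⁻¹).toMonoidHom ≤ M := by
        rw [map_le_iff_le_comap]
        refine sSup_le fun E hE e he => ?_
        have h1 : e • (g : X ⧸ M) = (g : X ⧸ M) := by
          by_contra hne
          exact hr ⟨E, hE.1, hE.2, e, he, hne⟩
        have h2 := M.inv_mem (QuotientGroup.eq.1 h1)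
        simpa [mul_assoc] using h2
      obtain ⟨m, hm, hmE⟩ := (hS.of_le hPM le_top).exists_cj_le hle
        ((P.isPGroup'.to_le hEsP).map _)
      rw [ConjFunctor.cj_cj] at hmE
      have hn : m * g⁻¹ ∈ M := hNEs (hmapEs _ hmE)
      refine QuotientGroup.eq.2 ?_
      rw [mul_one]
      simpa using M.mul_mem (M.inv_mem hm) hn
    · rintro hr ⟨E, -, hES, e, he, hne⟩
      rw [hr] at hne
      refine hne (QuotientGroup.eq.2 ?_)
      simpa using M.inv_mem (hPM (hES he))
  -- the family of conjugates
  let w₀ : X → V := fun g => ⟨g * x * g⁻¹, (inferInstance : V.Normal).conj_mem x hxV g⟩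
  let w : X ⧸ M → V := fun r => w₀ r.out
  have hwv : ∀ g : X, w (g : X ⧸ M) = w₀ g := fun g => by
    obtain ⟨⟨m, hm⟩, hmg⟩ := QuotientGroup.mk_out_eq_mul M g
    refine Subtype.ext ?_
    show ((g : X ⧸ M).out) * x * ((g : X ⧸ M).out)⁻¹ = g * x * g⁻¹
    rw [hmg]
    calc g * m * x * (g * m)⁻¹ = g * (m * x) * m⁻¹ * g⁻¹ := by group
      _ = g * x * g⁻¹ := by rw [mem_centralizer_singleton_iff.1 hm]; group
  have hw : ∀ (g : X) (r : X ⧸ M), ((w (g • r) : V) : X) = g * w r * g⁻¹ := fun g r => by
    induction r using QuotientGroup.induction_on with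
    | H h =>
    rw [MulAction.Quotient.smul_coe, smul_eq_mul, hwv, hwv]
    show g * h * x * (g * h)⁻¹ = g * (h * x * h⁻¹) * g⁻¹
    group
  let Z : Subgroup V := (center X).subgroupOf V
  let q : V →* V ⧸ Z := QuotientGroup.mk' Z
  have hDprod : ∀ E ∈ D, E ≤ (P : Subgroup X) → ∀ r : X ⧸ M, (∃ e ∈ E, e • r ≠ r) →
      ∏ y ∈ ConjFunctor.orbitFinset E r, q (w y) = 1 := by
    intro E hE _ r hr
    refine prod_orbit_offender hVp hVc hE q (fun v hv => (QuotientGroup.eq_one_iff v).2 hv) w hw
      (fun y => hpow _ (w y).2) (fun c hc' y => ?_) (fun h v hv => h ▸ hpow v hv) ?_ hr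
    · induction y using QuotientGroup.induction_on with
      | H h =>
      refine QuotientGroup.eq.2 ?_
      have : h⁻¹ * c⁻¹ * h ∈ C := by
        simpa using (inferInstance : C.Normal).conj_mem _ (inv_mem hc') h⁻¹
      simpa [mul_assoc] using hCM this
    · intro h2 a haC ha2 hcard
      subst h2
      rcases hfree with h | h
      · exact h rfl
      refine h (involves_s4_of_transvection V hVp hVc haC ha2 hcard fun N hNn hN2 => ?_)
      set R := N.comap (QuotientGroup.mk' C) with hR
      haveI : R.Normal := hNn.comap _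
      have hCR : C ≤ R := fun c hc' => by
        rw [hR, mem_comap, show QuotientGroup.mk' C c = 1 from (QuotientGroup.eq_one_iff c).2 hc']
        exact one_mem N
      have hCidx : C.relIndex R = Nat.card N := by
        conv_lhs => rw [← QuotientGroup.ker_mk' C, ← MonoidHom.comap_bot]
        rw [relIndex_comap, map_comap_eq_self_of_surjective (QuotientGroup.mk'_surjective C),
          relIndex_bot_left]
      set PR := (P : Subgroup X) ⊓ R with hPR
      have hsup : C ⊔ PR = R := by
        refine le_antisymm (sup_le hCR inf_le_right) (relIndex_eq_one.1 ?_)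
        obtain ⟨k, hk⟩ := IsPGroup.iff_card.1 hN2
        have h1 : (C ⊔ PR).relIndex R ∣ 2 ^ k := hk ▸ hCidx ▸
          relIndex_dvd_of_le_left R (le_sup_left : C ≤ C ⊔ PR)
        obtain ⟨j, -, hj⟩ := (Nat.dvd_prime_pow Nat.prime_two).1 h1
        have hPR2 : ConjFunctor.IsSylowIn 2 PR R :=
          hS.inf_of_normal le_top (by rw [normalizer_eq_top (H := R)])
        have h2 : ¬ 2 ∣ (C ⊔ PR).relIndex R := fun hd => hPR2.2.2
            (hd.trans (relIndex_dvd_of_le_left R (le_sup_right : PR ≤ C ⊔ PR)))
        rcases Nat.eq_zero_or_pos j with rfl | hj0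
        · simpa using hj
        · exact absurd (hj ▸ dvd_pow_self 2 hj0.ne') h2
      have htop : normalizer (PR : Set X) ⊔ C = ⊤ := by
        refine top_le_iff.1 ((frattini_inf P R).ge.trans (sup_le le_sup_left ?_))
        conv_lhs => rw [← hsup]
        exact sup_le le_sup_right (Subgroup.le_normalizer.trans le_sup_left)
      have hPRle : PR ≤ Q := by
        by_contra hne
        refine hMne (top_le_iff.1 (htop.ge.trans (sup_le (hmax _ ?_ fun h' => hne ?_) hCM)))
        · intro s hs
          refine mem_normalizer_iff.2 fun y => ⟨fun hy => ?_, fun hy => ?_⟩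
          · exact mem_inf.2 ⟨Subgroup.mul_mem _ (Subgroup.mul_mem _ hs (mem_inf.1 hy).1)
              (Subgroup.inv_mem _ hs), (inferInstance : R.Normal).conj_mem y (mem_inf.1 hy).2 s⟩
          · refine mem_inf.2 ⟨?_, ?_⟩
            · simpa [mul_assoc] using Subgroup.mul_mem _ (Subgroup.mul_mem _ (Subgroup.inv_mem _ hs)
                (mem_inf.1 hy).1) hs
            · simpa [mul_assoc] using (inferInstance : R.Normal).conj_mem _ hy.2 s⁻¹
        · have : PR.Normal := normalizer_eq_top_iff.1 h'
          exact PLocal.le_pCore (P.isPGroup'.to_le inf_le_left)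
      have hRC : R ≤ C := hsup ▸ sup_le le_rfl (hPRle.trans hQC)
      rw [eq_bot_iff]
      intro y hy
      obtain ⟨y, rfl⟩ := QuotientGroup.mk'_surjective C y
      exact (QuotientGroup.eq_one_iff y).2 (hRC hy)
  have hkey := prod_eq_prod_fixed (F := fun r => q (w r)) (D := D) P.isPGroup'
    (fun s _ E hE => hDinv s E hE) hDprod
  rw [hfixed, Finset.prod_singleton, hwv, ← map_prod] at hkey
  let n : V := ∏ r, w r
  have hn : ((n : V) : X) ∈ center X := by
    rw [mem_center_iff]
    intro s
    let c : V →* V := (MulAut.conjNormal s : MulAut V).toMonoidHom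
    have hcn : c n = n := by
      rw [map_prod]
      refine Fintype.prod_equiv (MulAction.toPerm s) _ _ fun r => Subtype.ext ?_
      exact (MulAut.conjNormal_apply s (w r)).trans (hw s r).symm
    have := congrArg Subtype.val hcn
    rw [show ((c n : V) : X) = s * n * s⁻¹ from MulAut.conjNormal_apply s n,
      mul_inv_eq_iff_eq_mul] at this
    exact this
  have hmem : n⁻¹ * w₀ 1 ∈ Z := QuotientGroup.eq.1 hkey
  have h3 : ((n : V) : X) * (((n⁻¹ * w₀ 1 : V)) : X) ∈ center X := mul_mem hn hmem
  rw [← Subgroup.coe_mul, mul_inv_cancel_left] at h3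
  exact hxZ (by simpa [w₀] using h3)

/-- Glauberman's theorem on weakly closed elements for constrained groups. -/
theorem mem_center_of_thompson {X : Type u} [Group X] [Finite X] (P : Sylow p X)
    (hc : centralizer (pCore p X : Set X) ≤ pCore p X) (hfree : Adequate p X) {x : X}
    (hxP : x ∈ (P : Subgroup X))
    (hN : normalizer (thompsonSubgroupAOf (P : Subgroup X) : Set X) ≤ centralizer ({x} : Set X)) :
    x ∈ center X := by
  suffices H : ∀ (n : ℕ) (X : Type u) [Group X] [Finite X], Nat.card X = n → ∀ (P : Sylow p X),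
      centralizer (pCore p X : Set X) ≤ pCore p X → Adequate p X → ∀ (k : ℕ) (x : X),
      orderOf x = k → x ∈ (P : Subgroup X) →
      normalizer (thompsonSubgroupAOf (P : Subgroup X) : Set X) ≤ centralizer ({x} : Set X) →
      x ∈ center X from H _ X rfl P hc hfree _ x rfl hxP hN
  intro n
  induction n using Nat.strongRecOn with
  | ind n ihn =>
  intro X _ _ hn P hc hfree k
  induction k using Nat.strongRecOn with
  | ind k ihk =>
  intro x hk hxP hN
  rcases eq_or_ne x 1 with rfl | hx1
  · exact one_mem _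
  refine mem_center_step P hc hfree hxP hN (ihk (orderOf (x ^ p)) ?_ _ rfl (pow_mem hxP p) ?_) ?_
  · obtain ⟨j, hj⟩ := IsPGroup.iff_orderOf.1 P.isPGroup' ⟨x, hxP⟩
    rw [Subgroup.orderOf_mk] at hj
    have hj0 : j ≠ 0 := fun h0 => hx1 (orderOf_eq_one_iff.1 (by rw [hj, h0, pow_zero]))
    obtain ⟨i, rfl⟩ := Nat.exists_eq_succ_of_ne_zero hj0
    rw [← hk, orderOf_pow' x (Fact.out : p.Prime).ne_zero, hj, pow_succ', Nat.gcd_mul_right_left,
      Nat.mul_div_cancel_left _ (Fact.out : p.Prime).pos]
    exact lt_mul_of_one_lt_left (pow_pos (Fact.out : p.Prime).pos i) (Fact.out : p.Prime).one_lt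
  · refine hN.trans fun g hg => mem_centralizer_singleton_iff.2 ?_
    exact ((show Commute g x from mem_centralizer_singleton_iff.1 hg).pow_right p).eq
  · intro H hPH hH
    have hlt : Nat.card H < n := by
      rw [← hn]
      exact lt_of_le_of_ne (Subgroup.card_le_card_group H) fun h => hH (eq_top_of_card_eq H h)
    have hQH := PLocal.pCore_subgroupOf_le (p := p) H
    have hcH : centralizer (pCore p H : Set H) ≤ pCore p H := by
      intro c hc'
      refine hQH (mem_subgroupOf.2 (hc (mem_centralizer_iff.2 fun q hq => ?_)))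
      have hqH : q ∈ H := hPH (PLocal.pCore_le_sylow P hq)
      exact congrArg Subtype.val (mem_centralizer_iff.1 hc' ⟨q, hqH⟩ (hQH (mem_subgroupOf.2 hq)))
    have hx := ihn _ hlt H rfl (P.subtype hPH) hcH
      (hfree.of_involves (ConjFunctor.involves_subgroup H)) _ ⟨x, hPH hxP⟩ rfl hxP ?_
    · intro h hh
      exact mem_centralizer_singleton_iff.2
        (congrArg Subtype.val (mem_center_iff.1 hx ⟨h, hh⟩))
    · intro g hg
      have hmap : (thompsonSubgroupAOf ((P.subtype hPH : Sylow p H) : Subgroup H)).map H.subtype =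
          thompsonSubgroupAOf (P : Subgroup X) := by
        rw [PLocal.map_thompsonSubgroupAOf H.subtype_injective, Sylow.coe_subtype,
          map_subgroupOf_eq_of_le hPH]
      have h1 := hN (hmap ▸ le_normalizer_map H.subtype ⟨g, hg, rfl⟩)
      exact mem_centralizer_singleton_iff.2 (Subtype.ext (mem_centralizer_singleton_iff.1 h1))

/-- Thompson's criterion, constrained form. -/
theorem sylow_eq_top_of_thompson {X : Type u} [Group X] [Finite X] (P : Sylow p X)
    (hc : centralizer (pCore p X : Set X) ≤ pCore p X) (hfree : Adequate p X)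
    (hC : centralizer (((P : Subgroup X) ⊓ centralizer ((P : Subgroup X) : Set X) : Subgroup X)
      : Set X) ≤ P)
    (hN : normalizer (thompsonSubgroupAOf (P : Subgroup X) : Set X) ≤ P) :
    (P : Subgroup X) = ⊤ := by
  refine top_le_iff.1 (le_trans ?_ hC)
  intro g _
  refine mem_centralizer_iff.2 fun z hz => ?_
  have := mem_center_of_thompson P hc hfree hz.1 (fun h hh => mem_centralizer_singleton_iff.2
    (mem_centralizer_iff.1 hz.2 h (hN hh)))
  exact (mem_center_iff.1 this g).symm

end CfsgLib.WeakClosed
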