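import Cfsg.Prelude.Def_FusionReduction
import Cfsg.Agent.S2011
import Cfsg.Agent.S5191
import Cfsg.Agent.Fusion.ModelUnique
import Cfsg.Agent.WeakClosed.Normalizer
import Cfsg.Agent.ConjFunctor.Sections

/-!
Models of normalizer systems of fusion systems of groups: for a fully normalized centric `Q` the
model is `N_G(Q) / O_{p'}(N_G(Q))`.
-/

set_option autoImplicit false

universe u

namespace CfsgLib.WeakClosed

open Cfsg Cfsg.FusionSystem CfsgLib.Fusion

variable {G : Type u} [Group G] [Finite G] {p : ℕ} [Fact p.Prime]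

theorem pPrimeCore_normalizer_le (Q : Subgroup G) (hQ : IsPGroup p Q) {g : G}
    (hg : g ∈ Subgroup.normalizer (Q : Set G))
    (hgK : (⟨g, hg⟩ : ↥(Subgroup.normalizer (Q : Set G))) ∈
      pPrimeCore p ↥(Subgroup.normalizer (Q : Set G))) :
    g ∈ Subgroup.centralizer (Q : Set G) := by
  set N := Subgroup.normalizer (Q : Set G) with hN
  haveI : (Q.subgroupOf N).Normal := Subgroup.normal_in_normalizer
  have hQp : IsPGroup p (Q.subgroupOf N) := hQ.comap_subtype
  have hdis : Disjoint (pPrimeCore p N) (Q.subgroupOf N) :=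
    disjoint_iff.2 (Transfer.inf_eq_bot_of_not_dvd_card
      (Transfer.coprime_prime_iff.mp (PLocal.coprime_card_pPrimeCore p N)) hQp)
  refine Subgroup.mem_centralizer_iff.2 fun q hq => ?_
  exact congrArg Subtype.val (Subgroup.commute_of_normal_of_disjoint _ _ inferInstance
    inferInstance hdis ⟨g, hg⟩ ⟨q, Subgroup.le_normalizer hq⟩ hgK hq).symm.eq

theorem exists_model_group (S : Sylow p G) {Q : Subgroup G}
    (hQ : (groupFusionSystem (S : Subgroup G)).IsFullyNormalized Q)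
    (hQc : (groupFusionSystem (S : Subgroup G)).IsCentric Q)
    {E : FusionSystem (normalizerIn (S : Subgroup G) Q)}
    (hE : (groupFusionSystem (S : Subgroup G)).IsNormalizerSystem Q E) :
    ∃ (L : Type u) (_ : Group L) (ι : ↥(normalizerIn (S : Subgroup G) Q) →* L),
      E.IsModel p L ι ∧ Involves L G := by
  set F := groupFusionSystem (S : Subgroup G) with hF
  set N := Subgroup.normalizer (Q : Set G) with hN
  have hQS : Q ≤ S := hQ.1
  have hQp : IsPGroup p Q := S.isPGroup'.to_le hQS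
  have hNSp : IsPGroup p ↥(normalizerIn (S : Subgroup G) Q) :=
    S.isPGroup'.to_le (normalizerIn_le _ _)
  have hNSN : normalizerIn (S : Subgroup G) Q ≤ N := inf_le_right
  obtain ⟨T, hT⟩ := (groupFusion_fullyNormalized_iff S hQS).1 hQ
  have hTmem : ∀ x : N, x ∈ (T : Subgroup N) ↔ (x : G) ∈ normalizerIn (S : Subgroup G) Q :=
    fun x => by rw [hT]; exact Iff.rfl
  haveI hKn : (pPrimeCore p N).Normal := inferInstance
  set π := QuotientGroup.mk' (pPrimeCore p N) with hπ
  let ι : ↥(normalizerIn (S : Subgroup G) Q) →* (↥N ⧸ pPrimeCore p N) :=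
    π.comp (Subgroup.inclusion hNSN)
  have hι : ∀ x, ι x = (QuotientGroup.mk (⟨(x : G), hNSN x.2⟩ : N) : ↥N ⧸ pPrimeCore p N) :=
    fun x => rfl
  have hrange : ι.range = (T : Subgroup N).map π := by
    rw [MonoidHom.range_comp, Subgroup.inclusion_range, hT]
  have hinj : Function.Injective ι := by
    intro a b hab
    have h1 : (⟨(a : G), hNSN a.2⟩ : N)⁻¹ * ⟨(b : G), hNSN b.2⟩ ∈ pPrimeCore p N :=
      QuotientGroup.eq.1 hab
    have h2 : (⟨(a : G), hNSN a.2⟩ : N)⁻¹ * ⟨(b : G), hNSN b.2⟩ ∈ (T : Subgroup N) :=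
      Subgroup.mul_mem _ (Subgroup.inv_mem _ ((hTmem _).2 a.2)) ((hTmem _).2 b.2)
    have h3 := (disjoint_iff.2 (Transfer.inf_eq_bot_of_not_dvd_card
      (Transfer.coprime_prime_iff.mp (PLocal.coprime_card_pPrimeCore p N)) T.isPGroup')).le_bot
        ⟨h1, h2⟩
    rw [Subgroup.mem_bot, inv_mul_eq_one] at h3
    exact Subtype.ext (congrArg (fun z : N => (z : G)) h3)
  refine ⟨↥N ⧸ pPrimeCore p N, inferInstance, ι, ⟨inferInstance, ⟨hinj, fun P hP φ hφ => ?_⟩,
    ⟨T.mapSurjective (QuotientGroup.mk'_surjective _), hrange.symm⟩, ?_⟩,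
    ConjFunctor.involves_trans (ConjFunctor.involves_subgroup N)
      (ConjFunctor.involves_quotient _)⟩
  · rw [hE P]
    constructor
    · rintro ⟨-, -, -, ψ, ⟨-, -, g, hg⟩, h1, h2⟩
      have hgN : g ∈ N := by
        refine Subgroup.mem_normalizer_fintype fun q hq => ?_
        have h3 := h2.le (apply_mem_imgHom ψ (R := Q) (x := ⟨q, Subgroup.mem_sup_right hq⟩) hq)
        rwa [hg] at h3
      refine ⟨QuotientGroup.mk ⟨g, hgN⟩, fun x => ?_⟩
      rw [hι, hι, ← QuotientGroup.mk_inv, ← QuotientGroup.mk_mul, ← QuotientGroup.mk_mul]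
      refine congrArg _ (Subtype.ext ?_)
      show φ x = g * x * g⁻¹
      rw [← h1 x]
      exact hg _
    · rintro ⟨l, hl⟩
      obtain ⟨⟨g, hg⟩, rfl⟩ := QuotientGroup.mk_surjective l
      have hPN : P ≤ N := hP.trans hNSN
      obtain ⟨g', hg'⟩ := Cfsg.Agent.S5191.result (p := p) T (P.subgroupOf N)
        (fun x hx => (hTmem x).2 (hP hx))
        (QuotientGroup.mk ⟨g, hg⟩) fun x hx => by
          refine ⟨⟨φ ⟨x, hx⟩, hNSN (hφ _)⟩, (hTmem _).2 (hφ ⟨x, hx⟩), ?_⟩
          exact hl ⟨x, hx⟩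
      have hval : ∀ x : P, φ x = (g' : G) * x * (g' : G)⁻¹ := fun x => by
        obtain ⟨hmem', hmk⟩ := hg' ⟨x, hPN x.2⟩ x.2
        have hmem : (g' : G) * x * (g' : G)⁻¹ ∈ normalizerIn (S : Subgroup G) Q :=
          (hTmem _).1 hmem'
        have h1 : ι ⟨(g' : G) * x * (g' : G)⁻¹, hmem⟩ = ι ⟨φ x, hφ x⟩ := by
          rw [hl x]
          exact hmk
        exact (congrArg Subtype.val (hinj h1)).symm
      have hsup : P ⊔ Q ≤ (S : Subgroup G).comap (MulAut.conj (g' : G)).toMonoidHom :=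
        sup_le (fun y hy => show (g' : G) * y * (g' : G)⁻¹ ∈ (S : Subgroup G) from
            hval ⟨y, hy⟩ ▸ (hφ ⟨y, hy⟩).1)
          fun y hy => show (g' : G) * y * (g' : G)⁻¹ ∈ (S : Subgroup G) from
            hQS ((Subgroup.mem_normalizer_iff.1 g'.2 y).1 hy)
      refine ⟨⟨hP.trans (normalizerIn_le _ _), fun x => (hφ x).1, g', hval⟩, hP, hφ,
        conjHom (P ⊔ Q) g', ⟨sup_le (hP.trans (normalizerIn_le _ _)) hQS, fun y => hsup y.2,
          g', fun y => rfl⟩, fun x => (hval x).symm, ?_⟩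
      ext y
      constructor
      · rintro ⟨x, hx, rfl⟩
        exact (Subgroup.mem_normalizer_iff.1 g'.2 _).1 hx
      · intro hy
        refine ⟨⟨_, Subgroup.mem_sup_right ((Subgroup.mem_normalizer_iff''.1 g'.2 y).1 hy)⟩,
          (Subgroup.mem_normalizer_iff''.1 g'.2 y).1 hy, ?_⟩
        show (g' : G) * ((g' : G)⁻¹ * y * g') * (g' : G)⁻¹ = y
        group
  · -- `C_L(O_p(L)) ≤ O_p(L)`
    haveI : (Q.subgroupOf N).Normal := Subgroup.normal_in_normalizer
    set Qb := (Q.subgroupOf N).map π with hQb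
    haveI : Qb.Normal := Subgroup.Normal.map inferInstance π (QuotientGroup.mk'_surjective _)
    have hQbO : Qb ≤ pCore p (↥N ⧸ pPrimeCore p N) :=
      PLocal.le_pCore ((hQp.comap_subtype (K := N)).map π)
    refine ((Subgroup.centralizer_le hQbO).trans fun c hc => ?_).trans hQbO
    obtain ⟨⟨g, hg⟩, rfl⟩ := QuotientGroup.mk_surjective c
    have hgC : g ∈ Subgroup.centralizer (Q : Set G) := by
      refine Subgroup.mem_centralizer_iff.2 fun q hq => ?_
      set qN : N := ⟨q, Subgroup.le_normalizer hq⟩ with hqN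
      have h1 := Subgroup.mem_centralizer_iff.1 hc (QuotientGroup.mk qN) ⟨qN, hq, rfl⟩
      rw [← QuotientGroup.mk_mul, ← QuotientGroup.mk_mul] at h1
      have h2 := QuotientGroup.eq.1 h1
      have h3 : (qN * ⟨g, hg⟩)⁻¹ * (⟨g, hg⟩ * qN) ∈ Q.subgroupOf N := by
        rw [mul_inv_rev, show (⟨g, hg⟩ : N)⁻¹ * qN⁻¹ * (⟨g, hg⟩ * qN) =
          ((⟨g, hg⟩ : N)⁻¹ * qN⁻¹ * ⟨g, hg⟩) * qN from by group]
        refine Subgroup.mul_mem _ ?_ hq
        have := (inferInstance : (Q.subgroupOf N).Normal).conj_mem qN⁻¹ (Subgroup.inv_mem _ hq)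
          (⟨g, hg⟩ : N)⁻¹
        rwa [inv_inv] at this
      have h4 := (disjoint_iff.2 (Transfer.inf_eq_bot_of_not_dvd_card
        (Transfer.coprime_prime_iff.mp (PLocal.coprime_card_pPrimeCore p N))
        (hQp.comap_subtype (K := N)))).le_bot ⟨h2, h3⟩
      rw [Subgroup.mem_bot, inv_mul_eq_one] at h4
      exact congrArg Subtype.val h4
    obtain ⟨-, -, hcomm, -, hsup⟩ := (Cfsg.Agent.S2011.result p S Q hQS).1 hQc
    set C := Subgroup.centralizer (Q : Set G) with hC
    have hCN : C ≤ N := CfsgLib.Fusion.centralizer_le_normalizer' Q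
    haveI hCn : (C.subgroupOf N).Normal :=
      (Subgroup.normal_subgroupOf_iff_le_normalizer hCN).2
        (normalizer_le_normalizer_centralizer' Q)
    have hKC : (pPrimeCore p C).map C.subtype ≤
        (pPrimeCore p N).map N.subtype := by
      rintro _ ⟨k, hk, rfl⟩
      refine ⟨⟨k, hCN k.2⟩, PLocal.pPrimeCore_map_subtype_le (C.subgroupOf N) ?_, rfl⟩
      refine ⟨(Subgroup.subgroupOfEquivOfLe hCN).symm k, ?_, rfl⟩
      exact PLocal.map_pPrimeCore_equiv_le (Subgroup.subgroupOfEquivOfLe hCN).symm ⟨k, hk, rfl⟩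
    have hgQK : g ∈ (((Q.subgroupOf N).map π).comap π).map N.subtype := by
      have h5 : Q ⊓ C ⊔ (pPrimeCore p C).map C.subtype ≤
          (((Q.subgroupOf N).map π).comap π).map N.subtype := by
        refine sup_le (fun y hy => ?_) (hKC.trans (Subgroup.map_mono ?_))
        · exact ⟨⟨y, Subgroup.le_normalizer hy.1⟩, ⟨_, hy.1, rfl⟩, rfl⟩
        · intro k hk
          rw [Subgroup.mem_comap, hπ, QuotientGroup.mk'_apply,
            (QuotientGroup.eq_one_iff k).2 hk]
          exact one_mem _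
      exact h5 (hsup.symm ▸ hgC : g ∈ Q ⊓ C ⊔ (pPrimeCore p C).map C.subtype)
    obtain ⟨n, hn, hng⟩ := hgQK
    rw [show (⟨g, hg⟩ : N) = n from Subtype.ext hng.symm]
    exact hn

/-- The fusion system of a group not involving `H` is `H`-free. -/
theorem isSectionFree_groupFusion (S : Sylow p G) {H : Type*} [Group H]
    (h : ¬ Involves H G) : (groupFusionSystem (S : Subgroup G)).IsSectionFree p H := by
  intro Q hQ hQc E hE L _ ι hL hinv
  obtain ⟨L₀, _, ι₀, hL₀, hinv₀⟩ := exists_model_group S hQ hQc hE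
  haveI := finite_of_le (S := (S : Subgroup G)) (normalizerIn_le (S : Subgroup G) Q)
  obtain ⟨Φ, -⟩ := exists_equiv_models hL₀ hL (normSystem_isNormal hQ.1 hE)
    (normSystem_isCentric hQc hE)
  exact h (ConjFunctor.involves_trans
    (ConjFunctor.involves_trans hinv₀ (ConjFunctor.involves_equiv Φ)) hinv)

end CfsgLib.WeakClosed
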