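import Cfsg.Agent.ConjFunctor.Orbit

/-!
The orbit lemma for a conjugation invariant family `D` of subgroups of a `p`-group `S`: if the
product of `F` over every nontrivial orbit of a member of `D` is `1`, then only the points fixed by
all members of `D` in `S` contribute to the product of `F`.
-/

set_option autoImplicit false

namespace CfsgLib.WeakClosed

open Cfsg Subgroup CfsgLib.ConjFunctor

variable {G : Type*} [Group G] {Ω A : Type*} [MulAction G Ω] [Fintype Ω] [DecidableEq Ω]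
  [CommMonoid A]

open scoped Classical in
theorem prod_eq_one_of_orbits (T : Subgroup G) (F : Ω → A) (O : Finset Ω)
    (hO : ∀ x ∈ O, ∀ t ∈ T, t • x ∈ O)
    (h : ∀ x ∈ O, ∏ y ∈ orbitFinset T x, F y = 1) : ∏ x ∈ O, F x = 1 := by
  rw [← Finset.prod_fiberwise_of_maps_to (t := Finset.univ) (g := fun x => orbitFinset T x)
    (fun _ _ => Finset.mem_univ _)]
  refine Finset.prod_eq_one fun o _ => ?_
  by_cases ho : ∃ x ∈ O, orbitFinset T x = o
  · obtain ⟨x, hx, rfl⟩ := ho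
    have heq : (O.filter fun z => orbitFinset T z = orbitFinset T x) = orbitFinset T x := by
      ext z
      rw [Finset.mem_filter]
      constructor
      · rintro ⟨-, hz⟩
        rw [← hz]
        exact mem_orbitFinset.mpr ⟨1, one_mem _, one_smul _ _⟩
      · intro hz
        obtain ⟨t, ht, rfl⟩ := mem_orbitFinset.mp hz
        exact ⟨hO x hx t ht, orbitFinset_eq_of_mem hz⟩
    rw [heq]
    exact h x hx
  · refine Finset.prod_eq_one fun z hz => absurd ⟨z, (Finset.mem_filter.mp hz).1,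
      (Finset.mem_filter.mp hz).2⟩ ho

/-- A member of `D` moves `ω`. -/
def Moves (D : Set (Subgroup G)) (S : Subgroup G) (ω : Ω) : Prop :=
  ∃ E ∈ D, E ≤ S ∧ ∃ e ∈ E, e • ω ≠ ω

variable [Finite G] {p : ℕ} [Fact p.Prime] {D : Set (Subgroup G)} {F : Ω → A}

theorem prod_orbit_eq_one {S : Subgroup G} (hS : IsPGroup p S)
    (hinv : ∀ s ∈ S, ∀ E ∈ D, E.map (MulAut.conj s).toMonoidHom ∈ D)
    (hD : ∀ E ∈ D, E ≤ S → ∀ x : Ω, (∃ e ∈ E, e • x ≠ x) → ∏ y ∈ orbitFinset E x, F y = 1)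
    (ω : Ω) (hω : Moves D S ω) : ∏ x ∈ orbitFinset S ω, F x = 1 := by
  classical
  suffices H : ∀ n : ℕ, ∀ T : Subgroup G, Nat.card T = n → T ≤ S → ∀ ω : Ω,
      Moves D T ω → ∏ x ∈ orbitFinset T ω, F x = 1 from H _ S rfl le_rfl ω hω
  intro n
  induction n using Nat.strongRecOn with
  | ind n ih =>
  intro T hn hT ω hω
  obtain ⟨E₀, hE₀D, hE₀T, e₀, he₀, he₀ω⟩ := hω
  let R : Subgroup T := (MulAction.stabilizer G ω).subgroupOf T
  have hR : R ≠ ⊤ := fun h => he₀ω (by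
    have : (⟨e₀, hE₀T he₀⟩ : T) ∈ R := h ▸ Subgroup.mem_top _
    exact this)
  obtain ⟨M₀, hRM, hMn, hidx⟩ := exists_normal_index_eq (hS.to_le hT) hR
  let M : Subgroup G := M₀.map T.subtype
  have hMT : M ≤ T := map_subtype_le _
  have hMcard : Nat.card M < n := by
    rw [← hn, show Nat.card M = Nat.card M₀ from card_map_of_injective T.subtype_injective,
      ← card_mul_index M₀, hidx]
    exact lt_mul_of_one_lt_right Nat.card_pos (Fact.out : p.Prime).one_lt
  have horb : ∀ x ∈ orbitFinset T ω, ∀ t ∈ T, t • x ∈ orbitFinset T ω := by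
    intro x hx t ht
    obtain ⟨s, hs, rfl⟩ := mem_orbitFinset.mp hx
    exact mem_orbitFinset.mpr ⟨t * s, mul_mem ht hs, mul_smul _ _ _⟩
  by_cases hall : ∀ E ∈ D, E ≤ T → E ≤ M
  · refine prod_eq_one_of_orbits M F _ (fun x hx t ht => horb x hx t (hMT ht)) fun x hx => ?_
    obtain ⟨t, ht, rfl⟩ := mem_orbitFinset.mp hx
    refine ih _ hMcard M rfl (hMT.trans hT) _ ?_
    have hE : E₀.map (MulAut.conj t).toMonoidHom ∈ D := hinv t (hT ht) E₀ hE₀D
    have hET : E₀.map (MulAut.conj t).toMonoidHom ≤ T := by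
      rintro _ ⟨e, he, rfl⟩
      exact mul_mem (mul_mem ht (hE₀T he)) (inv_mem ht)
    refine ⟨_, hE, hall _ hE hET, t * e₀ * t⁻¹, ⟨e₀, he₀, rfl⟩, fun h => he₀ω ?_⟩
    rw [← mul_smul, inv_mul_cancel_right, mul_smul, smul_left_cancel_iff] at h
    exact h
  · push Not at hall
    obtain ⟨E, hED, hET, hEM⟩ := hall
    refine prod_eq_one_of_orbits E F _ (fun x hx t ht => horb x hx t (hET ht)) fun x hx => ?_
    refine hD E hED (hET.trans hT) x ?_
    by_contra hfix
    push Not at hfix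
    obtain ⟨t, ht, rfl⟩ := mem_orbitFinset.mp hx
    refine hEM fun e he => ?_
    refine ⟨⟨e, hET he⟩, ?_, rfl⟩
    have hmem : (⟨t, ht⟩ : T)⁻¹ * ⟨e, hET he⟩ * ⟨t, ht⟩ ∈ R := by
      show (t⁻¹ * e * t : G) ∈ MulAction.stabilizer G ω
      rw [MulAction.mem_stabilizer_iff, mul_smul, mul_smul, hfix e he, inv_smul_smul]
    have := hMn.conj_mem _ (hRM hmem) ⟨t, ht⟩
    rwa [show (⟨t, ht⟩ : T) * ((⟨t, ht⟩ : T)⁻¹ * ⟨e, hET he⟩ * ⟨t, ht⟩) * (⟨t, ht⟩ : T)⁻¹ =
      ⟨e, hET he⟩ by group] at this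

open scoped Classical in
/-- Only the points fixed by every member of `D` inside `S` contribute. -/
theorem prod_eq_prod_fixed {S : Subgroup G} (hS : IsPGroup p S)
    (hinv : ∀ s ∈ S, ∀ E ∈ D, E.map (MulAut.conj s).toMonoidHom ∈ D)
    (hD : ∀ E ∈ D, E ≤ S → ∀ x : Ω, (∃ e ∈ E, e • x ≠ x) → ∏ y ∈ orbitFinset E x, F y = 1) :
    ∏ x, F x = ∏ x ∈ Finset.univ.filter (fun x => ¬ Moves D S x), F x := by
  rw [← Finset.prod_filter_mul_prod_filter_not Finset.univ (fun x => ¬ Moves D S x)]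
  have : ∏ x ∈ Finset.univ.filter (fun x : Ω => ¬ ¬ Moves D S x), F x = 1 := by
    refine prod_eq_one_of_orbits S F _ (fun x hx s hs => ?_) fun x hx => ?_
    · obtain ⟨-, hm⟩ := Finset.mem_filter.mp hx
      obtain ⟨E, hE, hES, e, he, hex⟩ := not_not.mp hm
      refine Finset.mem_filter.mpr ⟨Finset.mem_univ _, not_not.mpr
        ⟨_, hinv s hs E hE, ?_, s * e * s⁻¹, ⟨e, he, rfl⟩, fun h => hex ?_⟩⟩
      · rintro _ ⟨u, hu, rfl⟩
        exact mul_mem (mul_mem hs (hES hu)) (inv_mem hs)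
      · rw [← mul_smul, inv_mul_cancel_right, mul_smul, smul_left_cancel_iff] at h
        exact h
    · exact prod_orbit_eq_one hS hinv hD x (not_not.mp (Finset.mem_filter.mp hx).2)
  rw [this, mul_one]

end CfsgLib.WeakClosed
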