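import Cfsg.Agent.PLocal.GlaubermanZJ
import Cfsg.Agent.WeakClosed.Orbit
import Cfsg.Prelude.Def_PLocal

/-!
Quadratic offenders on an abelian normal subgroup, from the abelian subgroups of largest order of a
Sylow subgroup, and products over their orbits.
-/

set_option autoImplicit false

namespace CfsgLib.WeakClosed

open Cfsg Subgroup
open scoped commutatorElement

variable {X : Type*} [Group X]

/-- An abelian `p`-group `E` acting nontrivially and quadratically on `V` with
`|V : C_V(E)| ≤ |E : C_E(V)|`. -/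
structure IsOffender (p : ℕ) (V E : Subgroup X) : Prop where
  pgroup : IsPGroup p E
  abelian : ∀ a ∈ E, ∀ b ∈ E, a * b = b * a
  quad : ∀ a ∈ E, ∀ b ∈ E, ∀ v ∈ V, Commute ⁅a, v⁆ b
  not_le : ¬ E ≤ centralizer (V : Set X)
  card_le : Nat.card ↥(E ⊓ centralizer (V : Set X)) * Nat.card V ≤
    Nat.card E * Nat.card ↥(V ⊓ centralizer (E : Set X))

/-- The offenders of smallest order. -/
def minOffenders (p : ℕ) (V : Subgroup X) : Set (Subgroup X) :=
  {E | IsOffender p V E ∧ ∀ E', IsOffender p V E' → Nat.card E ≤ Nat.card E'}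

theorem map_conj_inf_centralizer (A B : Subgroup X) (g : X) :
    (A ⊓ centralizer (B : Set X)).map (MulAut.conj g).toMonoidHom =
      A.map (MulAut.conj g).toMonoidHom ⊓
        centralizer ((B.map (MulAut.conj g).toMonoidHom : Subgroup X) : Set X) := by
  ext y
  constructor
  · rintro ⟨z, hz, rfl⟩
    refine mem_inf.2 ⟨mem_map_of_mem _ hz.1, mem_centralizer_iff.2 ?_⟩
    rintro _ ⟨w, hw, rfl⟩
    rw [← map_mul, ← map_mul, mem_centralizer_iff.1 hz.2 w hw]
  · rintro ⟨⟨z, hz, rfl⟩, hy⟩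
    refine ⟨z, mem_inf.2 ⟨hz, mem_centralizer_iff.2 fun w hw => ?_⟩, rfl⟩
    have := mem_centralizer_iff.1 hy _ (mem_map_of_mem _ hw)
    rw [← map_mul, ← map_mul] at this
    exact (MulAut.conj g).injective this

theorem IsOffender.map_conj {p : ℕ} {V E : Subgroup X} [V.Normal] (h : IsOffender p V E) (g : X) :
    IsOffender p V (E.map (MulAut.conj g).toMonoidHom) := by
  have hV : V.map (MulAut.conj g).toMonoidHom = V := (Subgroup.mem_normalizer_iff_map_conj_eq.1 (by rw [normalizer_eq_top]; exact mem_top g))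
  have hinj : Function.Injective (MulAut.conj g).toMonoidHom := (MulAut.conj g).injective
  refine ⟨h.pgroup.map _, ?_, ?_, ?_, ?_⟩
  · rintro _ ⟨a, ha, rfl⟩ _ ⟨b, hb, rfl⟩
    rw [← map_mul, ← map_mul, h.abelian a ha b hb]
  · rintro _ ⟨a, ha, rfl⟩ _ ⟨b, hb, rfl⟩ v hv
    obtain ⟨w, hw, rfl⟩ := hV.ge hv
    rw [← map_commutatorElement]
    exact (h.quad a ha b hb w hw).map _
  · intro hle
    refine h.not_le fun a ha => mem_centralizer_iff.2 fun v hv => hinj ?_
    rw [map_mul, map_mul]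
    exact mem_centralizer_iff.1 (hle (mem_map_of_mem _ ha)) _ (hV.le (mem_map_of_mem _ hv))
  · have h1 := map_conj_inf_centralizer E V g
    have h2 := map_conj_inf_centralizer V E g
    rw [hV] at h1 h2
    rw [← h1, ← h2, card_map_of_injective hinj, card_map_of_injective hinj,
      card_map_of_injective hinj]
    exact h.card_le

theorem minOffenders_conj {p : ℕ} {V E : Subgroup X} [V.Normal] (h : E ∈ minOffenders p V) (g : X) :
    E.map (MulAut.conj g).toMonoidHom ∈ minOffenders p V :=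
  ⟨h.1.map_conj g, fun E' hE' => by
    rw [card_map_of_injective (MulAut.conj g).injective]; exact h.2 E' hE'⟩

variable [Finite X] {p : ℕ} [Fact p.Prime]

/-- If `J(P)` does not centralise `V`, there is an offender inside `P`. -/
theorem exists_offender {P V : Subgroup X} [V.Normal] (hP : IsPGroup p P) (hVP : V ≤ P)
    (hVc : ∀ a ∈ V, ∀ b ∈ V, a * b = b * a)
    (hJ : ¬ thompsonSubgroupAOf P ≤ centralizer (V : Set X)) :
    ∃ E, E ≤ P ∧ IsOffender p V E := by
  classical
  haveI hVcomm : IsMulCommutative V := ⟨⟨fun u v => Subtype.ext (hVc u u.2 v v.2)⟩⟩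
  obtain ⟨A₀, hA₀, hA₀C⟩ : ∃ A ∈ PLocal.maxAbIn P, ¬ A ≤ centralizer (V : Set X) := by
    by_contra h
    push Not at h
    exact hJ (by rw [PLocal.thompsonSubgroupAOf_eq]; exact sSup_le h)
  obtain ⟨A, ⟨hA, hAC⟩, hmax⟩ := Set.exists_max_image
    {B : Subgroup X | B ∈ PLocal.maxAbIn P ∧ ¬ B ≤ centralizer (V : Set X)}
    (fun B => Nat.card ↥(B ⊓ V)) (Set.toFinite _) ⟨A₀, hA₀, hA₀C⟩
  obtain ⟨hAP, hAab, hAmax⟩ := id hA
  have hVV : ⁅V, V⁆ ≤ A := le_trans (le_of_eq (commutator_eq_bot_iff_le_centralizer.2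
    fun u hu => mem_centralizer_iff.2 fun v hv => hVc v hv u hu)) bot_le
  have hPV : P ≤ normalizer (V : Set X) := by rw [normalizer_eq_top]; exact le_top
  have hVN : V ≤ normalizer (A : Set X) := by
    by_contra hnot
    obtain ⟨b, hb, hbN, hbA⟩ := PLocal.exists_repl_element hP hVP hPV hnot
    have h := PLocal.replData_of_pGroup (fun _ => hVcomm) hP hAab hAP hVP hPV hVV hb hbN
    have hmem : PLocal.replStar A b ∈ PLocal.maxAbIn P :=
      ⟨h.replStar_le_N.trans inf_le_left, h.isMulCommutative_replStar, fun C hCP hC => by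
        rw [h.card_replStar]; exact hAmax C hCP hC⟩
    have hlt := h.inf_lt hbA
    have hVB : ¬ V ≤ PLocal.replStar A b := fun hle => hnot (hle.trans h.replStar_le_normalizer)
    have hB'C : ¬ PLocal.replStar A b ≤ centralizer (V : Set X) := by
      intro hle
      apply hVB
      have hsup : IsMulCommutative ↥(PLocal.replStar A b ⊔ V) :=
        PLocal.isMulCommutative_sup h.isMulCommutative_replStar hVcomm (fun x hx => hle hx)
      have heq : PLocal.replStar A b = PLocal.replStar A b ⊔ V :=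
        eq_of_le_of_card_ge le_sup_left (hmem.2.2 _ (sup_le hmem.1 hVP) hsup)
      exact heq ▸ le_sup_right
    exact absurd (eq_of_le_of_card_ge hlt.le (hmax _ ⟨hmem, hB'C⟩)) hlt.ne
  refine ⟨A, hAP, ⟨hP.to_le hAP, fun a ha b hb => ?_, fun a ha b hb v hv => ?_, hAC, ?_⟩⟩
  · haveI := hAab
    exact congrArg Subtype.val (mul_comm' (⟨a, ha⟩ : A) ⟨b, hb⟩)
  · haveI := hAab
    have h2 : ⁅a, v⁆ ∈ A := by
      rw [commutatorElement_def, mul_assoc, mul_assoc, ← mul_assoc v]
      exact mul_mem ha ((mem_normalizer_iff.1 (hVN hv) _).1 (inv_mem ha))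
    exact congrArg Subtype.val (mul_comm' (⟨_, h2⟩ : A) ⟨b, hb⟩)
  · set C := A ⊓ centralizer (V : Set X)
    have hCab : IsMulCommutative C := by
      haveI := hAab
      exact ⟨⟨fun u v => Subtype.ext
        (congrArg (fun w : A => (w : X)) (mul_comm' (⟨u, u.2.1⟩ : A) ⟨v, v.2.1⟩))⟩⟩
    have hsup : IsMulCommutative ↥(C ⊔ V) :=
      PLocal.isMulCommutative_sup hCab hVcomm (fun x hx => hx.2)
    have h1 : Nat.card ↥(C ⊔ V) ≤ Nat.card A := hAmax _ (sup_le (inf_le_left.trans hAP) hVP) hsup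
    have h2 : Nat.card C * Nat.card V ≤ Nat.card ↥(C ⊔ V) * Nat.card ↥(C ⊓ V) :=
      (PLocal.card_sup_mul_card_inf (A := C) (B := V) (by rw [normalizer_eq_top]; exact le_top)).ge
    refine h2.trans (Nat.mul_le_mul h1 (card_le_of_le fun y hy => mem_inf.2 ⟨hy.2, ?_⟩))
    haveI := hAab
    exact mem_centralizer_iff.2 fun a ha =>
      congrArg Subtype.val (mul_comm' (⟨a, ha⟩ : A) ⟨y, hy.1.1⟩)

end CfsgLib.WeakClosed
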