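import Cfsg.Agent.WeakClosed.Offender
import Cfsg.Agent.LocalEven.Involves

/-!
Products of an equivariant family of elements of `V` over the orbits of a smallest offender.
-/

set_option autoImplicit false

namespace CfsgLib.WeakClosed

open Cfsg Subgroup CfsgLib.ConjFunctor
open scoped commutatorElement

variable {X Ω A : Type*} [Group X] [MulAction X Ω] [Fintype Ω] [DecidableEq Ω] [CommMonoid A]

theorem lt_imp_mul_le {p m n : ℕ} (hp : 1 < p) {a b : ℕ} (ha : m = p ^ a) (hb : n = p ^ b)
    (h : m < n) : p * m ≤ n := by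
  subst ha hb
  rw [← pow_succ']
  exact Nat.pow_le_pow_right (by omega) ((Nat.pow_lt_pow_iff_right hp).1 h)

variable [Finite X] {p : ℕ} [Fact p.Prime]

theorem prod_orbit_offender {V E : Subgroup X} [V.Normal] (hV : IsPGroup p V)
    (hVc : ∀ u ∈ V, ∀ v ∈ V, u * v = v * u) (hE : E ∈ minOffenders p V)
    (q : V →* A) (hq : ∀ v : V, (v : X) ∈ center X → q v = 1)
    (w : Ω → V) (hw : ∀ (g : X) (x : Ω), ((w (g • x) : V) : X) = g * w x * g⁻¹)
    (hcen : ∀ x, ((w x : V) : X) ^ p ∈ center X) (hfix : ∀ c ∈ centralizer (V : Set X), ∀ x : Ω, c • x = x)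
    (hsq : p = 2 → ∀ v ∈ V, v ^ 2 ∈ center X)
    (htr : p = 2 → ∀ a : X, a ∉ centralizer (V : Set X) → a ^ 2 ∈ centralizer (V : Set X) →
      Nat.card V ≤ 2 * Nat.card ↥(V ⊓ centralizer ({a} : Set X)) → False)
    {x : Ω} (hx : ∃ e ∈ E, e • x ≠ x) : ∏ y ∈ orbitFinset E x, q (w y) = 1 := by
  classical
  obtain ⟨hoff, hmin⟩ := hE
  have hab := hoff.abelian
  -- the stabiliser is constant on the orbit
  have hstab : ∀ e ∈ E, ∀ y ∈ orbitFinset E x, (e • y = y ↔ e • x = x) := by
    intro e he y hy
    obtain ⟨s, hs, rfl⟩ := mem_orbitFinset.mp hy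
    rw [← mul_smul, hab e he s hs, mul_smul, smul_left_cancel_iff]
  obtain ⟨e, he, hex⟩ := hx
  obtain ⟨k, hk⟩ : ∃ k, orderOf e = p ^ k := by
    obtain ⟨k, hk⟩ := IsPGroup.iff_orderOf.1 hoff.pgroup ⟨e, he⟩
    exact ⟨k, (orderOf_mk e he).symm.trans hk⟩
  obtain ⟨i, hi1, hi2⟩ := LocalEven.exists_pow_step (M := MulAction.stabilizer X x) hk hex
  set a := e ^ p ^ i
  have ha : a ∈ E := pow_mem he _
  have hax : a • x ≠ x := hi1
  have hapx : a ^ p • x = x := hi2
  -- how an element of `E` acts on the values of `w`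
  obtain ⟨cm, hcm⟩ : ∃ cm : X → Ω → V, ∀ b y, cm b y = w (b • y) * (w y)⁻¹ :=
    ⟨_, fun _ _ => rfl⟩
  have hwb : ∀ b y, w (b • y) = cm b y * w y := fun b y => by rw [hcm, inv_mul_cancel_right]
  have hcmv : ∀ b y, ((cm b y : V) : X) = ⁅b, ((w y : V) : X)⁆ := fun b y => by
    rw [hcm, Subgroup.coe_mul, Subgroup.coe_inv, hw, commutatorElement_def]
  have hquad : ∀ b ∈ E, ∀ d ∈ E, ∀ y, d * ((cm b y : V) : X) * d⁻¹ = cm b y := fun b hb d hd y => by
    rw [hcmv, ← (hoff.quad b hb d hd _ (w y).2).eq, mul_inv_cancel_right]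
  have hpow : ∀ b ∈ E, ∀ (y : Ω) (j : ℕ), w (b ^ j • y) = cm b y ^ j * w y := by
    intro b hb y j
    induction j with
    | zero => simp
    | succ j ih =>
      refine Subtype.ext ?_
      calc ((w (b ^ (j + 1) • y) : V) : X)
          = b * (((cm b y : V) : X) ^ j * ((w y : V) : X)) * b⁻¹ := by
            rw [pow_succ', mul_smul, hw, ih, Subgroup.coe_mul, SubmonoidClass.coe_pow]
        _ = (b * ((cm b y : V) : X) * b⁻¹) ^ j * (b * ((w y : V) : X) * b⁻¹) := by
            rw [conj_pow, conj_mul]
        _ = ((cm b y : V) : X) ^ j * (((cm b y : V) : X) * ((w y : V) : X)) := by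
            rw [hquad b hb b hb, ← hw, hwb, Subgroup.coe_mul]
        _ = _ := by rw [Subgroup.coe_mul, SubmonoidClass.coe_pow, pow_succ, mul_assoc]
  have hcmp : ∀ b ∈ E, ∀ y, b ^ p • y = y → q (cm b y) ^ p = 1 := fun b hb y hy => by
    have h := hpow b hb y p
    rw [hy, right_eq_mul] at h
    rw [← map_pow, h, map_one]
  have hwp : ∀ y, q (w y) ^ p = 1 := fun y => by
    rw [← map_pow]; exact hq _ (by simpa using hcen y)
  rcases eq_or_ne p 2 with rfl | hp2
  swap
  · -- orbits of `⟨a⟩`
    refine prod_eq_one_of_orbits (zpowers a) (fun y => q (w y)) _ ?_ fun y hy => ?_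
    · intro z hz t ht
      obtain ⟨s, hs, rfl⟩ := mem_orbitFinset.mp hz
      exact mem_orbitFinset.mpr ⟨t * s, mul_mem (zpowers_le.2 ha ht) hs, mul_smul _ _ _⟩
    have hay : a • y ≠ y := fun h => hax ((hstab a ha y hy).1 h)
    have hapy : a ^ p • y = y := (hstab _ (pow_mem ha p) y hy).2 hapx
    have hper : Function.minimalPeriod (a • ·) y = p := by
      refine Function.minimalPeriod_eq_prime ?_ hay
      show (a • ·)^[p] y = y
      rw [smul_iterate]; exact hapy
    have horb : orbitFinset (zpowers a) y = (Finset.range p).image fun j => a ^ j • y := by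
      ext z
      rw [mem_orbitFinset, Finset.mem_image]
      constructor
      · rintro ⟨t, ht, rfl⟩
        obtain ⟨n, rfl⟩ := mem_powers_iff_mem_zpowers.2 ht
        refine ⟨n % p, Finset.mem_range.2 (Nat.mod_lt _ (Fact.out : p.Prime).pos), ?_⟩
        show a ^ (n % p) • y = a ^ n • y
        have h := Function.iterate_mod_minimalPeriod_eq (f := (a • ·)) (x := y) (n := n)
        rw [hper, smul_iterate, smul_iterate] at h
        exact h
      · rintro ⟨j, -, rfl⟩
        exact ⟨_, npow_mem_zpowers a j, rfl⟩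
    rw [horb, Finset.prod_image]
    · simp only [hpow a ha y, map_mul, map_pow]
      rw [Finset.prod_mul_distrib, Finset.prod_const, Finset.card_range, hwp, mul_one,
        Finset.prod_pow_eq_pow_sum, Finset.sum_range_id]
      obtain ⟨m, hm⟩ : 2 ∣ p - 1 :=
        ((Fact.out : p.Prime).even_sub_one hp2).two_dvd
      rw [hm, Nat.mul_div_assoc _ (dvd_mul_right 2 m), Nat.mul_div_cancel_left _ two_pos, pow_mul,
        hcmp a ha y hapy, one_pow]
    · intro j hj l hl h
      have hj' := Finset.mem_range.1 hj
      have hl' := Finset.mem_range.1 hl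
      have : j ∈ Finset.range (Function.minimalPeriod (a • ·) y) := by rw [hper]; exact hj
      exact Function.iterate_injOn_Iio_minimalPeriod (f := (a • ·)) (x := y)
        (by rw [hper]; exact hj') (by rw [hper]; exact hl') (by simpa [smul_iterate] using h)
  -- `p = 2`
  have hsqC : ∀ b ∈ E, b ^ 2 ∈ centralizer (V : Set X) := fun b hb => by
    refine mem_centralizer_iff.2 fun v hv => ?_
    have hc := (hoff.quad b hb b hb v hv)
    have hsqv : b * v ^ 2 * b⁻¹ = v ^ 2 := by
      rw [mem_center_iff.1 (hsq rfl v hv) b, mul_inv_cancel_right]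
    set c := ⁅b, v⁆ with hcdef
    have hcV : c ∈ V := by
      rw [hcdef, commutatorElement_def]
      exact mul_mem ((inferInstance : V.Normal).conj_mem v hv b) (inv_mem hv)
    have hbv : b * v * b⁻¹ = c * v := by rw [hcdef, commutatorElement_def, inv_mul_cancel_right]
    have hc2 : c ^ 2 = 1 := by
      rw [← conj_pow, hbv, (show Commute c v from hVc c hcV v hv).mul_pow] at hsqv
      exact mul_eq_right.1 hsqv
    have : b ^ 2 * v * (b ^ 2)⁻¹ = v := by
      calc b ^ 2 * v * (b ^ 2)⁻¹ = b * (b * v * b⁻¹) * b⁻¹ := by simp [sq, mul_assoc]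
        _ = (b * c * b⁻¹) * (b * v * b⁻¹) := by rw [conj_mul, ← hbv]
        _ = c ^ 2 * v := by rw [hc.symm.eq, mul_inv_cancel_right, hbv, ← mul_assoc, sq]
        _ = v := by rw [hc2, one_mul]
    exact (mul_inv_eq_iff_eq_mul.1 this).symm
  have hfix2 : ∀ b ∈ E, ∀ y : Ω, b • b • y = y := fun b hb y => by
    rw [← mul_smul, ← sq]; exact hfix _ (hsqC b hb) y
  have hxO : x ∈ orbitFinset E x := mem_orbitFinset.mpr ⟨1, one_mem _, one_smul _ _⟩
  by_cases hbig : ∃ b ∈ E, b • x ≠ x ∧ b • x ≠ a • x
  · obtain ⟨b, hb, hbx, hbax⟩ := hbig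
    set K := closure ({a, b} : Set X) with hK
    have hKE : K ≤ E := by
      rw [hK, closure_le]; rintro z (rfl | rfl) <;> assumption
    refine prod_eq_one_of_orbits K (fun y => q (w y)) _ ?_ fun y hy => ?_
    · intro z hz t ht
      obtain ⟨s, hs, rfl⟩ := mem_orbitFinset.mp hz
      exact mem_orbitFinset.mpr ⟨t * s, mul_mem (hKE ht) hs, mul_smul _ _ _⟩
    obtain ⟨s, hs, rfl⟩ := mem_orbitFinset.mp hy
    set y := s • x with hydef
    have hay : a • y ≠ y := fun h => hax ((hstab a ha y hy).1 h)
    have hby : b • y ≠ y := fun h => hbx ((hstab b hb y hy).1 h)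
    have hbay : b • y ≠ a • y := fun h => hbax (by
      rw [hydef, ← mul_smul, ← mul_smul, hab b hb s hs, hab a ha s hs, mul_smul, mul_smul,
        smul_left_cancel_iff] at h
      exact h)
    have hcomm : ∀ z : Ω, a • b • z = b • a • z := fun z => by
      rw [← mul_smul, ← mul_smul, hab a ha b hb]
    have h1 : y ≠ a • b • y := fun h => hbay (by
      have := congrArg (a • ·) h
      simp only [hfix2 a ha] at this
      exact this.symm)
    have h2 : a • y ≠ a • b • y := fun h => hby (smul_left_cancel a h).symm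
    have h3 : b • y ≠ a • b • y := fun h => hay (by
      rw [hcomm] at h; exact (smul_left_cancel b h).symm)
    let O : Finset Ω := {y, a • y, b • y, a • b • y}
    have horb : orbitFinset K y = O := by
      refine le_antisymm (fun z hz => ?_) ?_
      · obtain ⟨t, ht, rfl⟩ := mem_orbitFinset.mp hz
        have key : ∀ t ∈ K, ∀ z ∈ O, t • z ∈ O := by
          intro t ht
          induction ht using closure_induction with
          | mem t ht =>
            intro z hz
            simp only [O, Finset.mem_insert, Finset.mem_singleton] at hz ⊢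
            rcases ht with rfl | rfl <;> rcases hz with rfl | rfl | rfl | rfl <;>
              simp [hfix2 _ ha, hfix2 _ hb, hcomm]
          | one => intro z hz; rwa [one_smul]
          | mul u v _ _ hu hv => intro z hz; rw [mul_smul]; exact hu _ (hv z hz)
          | inv u _ hu =>
            intro z hz
            have himg : O.image (u • ·) = O := Finset.eq_of_subset_of_card_le
              (Finset.image_subset_iff.2 hu) (by rw [Finset.card_image_of_injective _
                (MulAction.injective u)])
            rw [← himg] at hz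
            obtain ⟨z', hz', rfl⟩ := Finset.mem_image.1 hz
            rwa [inv_smul_smul]
        exact key t ht y (by simp [O])
      · intro z hz
        simp only [O, Finset.mem_insert, Finset.mem_singleton] at hz
        rcases hz with rfl | rfl | rfl | rfl
        · exact mem_orbitFinset.mpr ⟨1, one_mem _, one_smul _ _⟩
        · exact mem_orbitFinset.mpr ⟨a, subset_closure (by simp), rfl⟩
        · exact mem_orbitFinset.mpr ⟨b, subset_closure (by simp), rfl⟩
        · exact mem_orbitFinset.mpr ⟨a * b, mul_mem (subset_closure (by simp))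
            (subset_closure (by simp)), mul_smul _ _ _⟩
    have hab_y : w (a • b • y) = cm b y * (cm a y * w y) := by
      refine Subtype.ext ?_
      rw [hw, hwb, Subgroup.coe_mul, conj_mul.symm, hquad b hb a ha, ← hw, hwb,
        Subgroup.coe_mul, Subgroup.coe_mul, Subgroup.coe_mul]
    have hca := hcmp a ha y (by rw [sq, mul_smul]; exact hfix2 a ha y)
    have hcb := hcmp b hb y (by rw [sq, mul_smul]; exact hfix2 b hb y)
    rw [horb, Finset.prod_insert (by simp [hay.symm, hby.symm, h1]),
      Finset.prod_insert (by simp [hbay.symm, h2]), Finset.prod_insert (by simp [h3]),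
      Finset.prod_singleton, hab_y, hwb a y, hwb b y, map_mul, map_mul, map_mul, map_mul]
    calc q (w y) * (q (cm a y) * q (w y) * (q (cm b y) * q (w y) * (q (cm b y) * (q (cm a y) * q (w y)))))
        = (q (w y) ^ 2) ^ 2 * q (cm a y) ^ 2 * q (cm b y) ^ 2 := by
          simp only [sq, mul_assoc, mul_comm, mul_left_comm]
      _ = 1 := by rw [hwp, hca, hcb, one_pow, one_mul, one_mul]
  · push Not at hbig
    have horb : orbitFinset E x = {x, a • x} := by
      ext z
      rw [mem_orbitFinset, Finset.mem_insert, Finset.mem_singleton]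
      refine ⟨?_, ?_⟩
      · rintro ⟨t, ht, rfl⟩
        by_cases h : t • x = x
        · exact Or.inl h
        · exact Or.inr (hbig t ht h)
      · rintro (rfl | rfl)
        · exact ⟨1, one_mem _, one_smul _ _⟩
        · exact ⟨a, ha, rfl⟩
    rw [horb, Finset.prod_insert (by simp [hax.symm]), Finset.prod_singleton, hwb a x, map_mul,
      mul_left_comm, ← sq, hwp, mul_one]
    suffices h : a * ((w x : V) : X) = (w x : V) * a by
      have : cm a x = 1 := Subtype.ext (by
        rw [hcmv, Subgroup.coe_one, commutatorElement_eq_one_iff_commute]; exact h)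
      rw [this, map_one]
    set B := E ⊓ MulAction.stabilizer X x with hB
    have hEB : Nat.card E ≤ 2 * Nat.card B := by
      let f : E → Fin 2 × B := fun t =>
        if h : (t : X) • x = x then (0, ⟨t, t.2, h⟩)
        else (1, ⟨a * t, mul_mem ha t.2, by
          show (a * t) • x = x
          rw [mul_smul, hbig t t.2 h, hfix2 a ha]⟩)
      have hf : Function.Injective f := by
        intro u v huv
        simp only [f] at huv
        split_ifs at huv with h1 h2
        · exact Subtype.ext (congrArg (fun z : Fin 2 × B => ((z.2 : B) : X)) huv)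
        · simp at huv
        · simp at huv
        · exact Subtype.ext (mul_left_cancel (congrArg (fun z : Fin 2 × B => ((z.2 : B) : X)) huv))
      have := Nat.card_le_card_of_injective f hf
      rwa [Nat.card_prod, Nat.card_fin] at this
    have hEC : E ⊓ centralizer (V : Set X) = B ⊓ centralizer (V : Set X) :=
      le_antisymm (fun c hc => ⟨⟨hc.1, hfix c hc.2 x⟩, hc.2⟩)
        (inf_le_inf_right _ inf_le_left)
    have hwB : ((w x : V) : X) ∈ V ⊓ centralizer (B : Set X) := mem_inf.2 ⟨(w x).2,
      mem_centralizer_iff.2 fun b hb => by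
        have := hw b x
        rw [show b • x = x from hb.2, eq_mul_inv_iff_mul_eq] at this
        exact this.symm⟩
    by_cases hBC : B ≤ centralizer (V : Set X)
    · exfalso
      refine htr rfl a (fun h => hax (hfix a h x)) (hsqC a ha) ?_
      have h1 := hoff.card_le
      rw [hEC, inf_eq_left.2 hBC] at h1
      refine Nat.le_of_mul_le_mul_left (h1.trans ?_) (Nat.card_pos (α := ↥B))
      calc Nat.card E * Nat.card ↥(V ⊓ centralizer (E : Set X))
          ≤ (2 * Nat.card B) * Nat.card ↥(V ⊓ centralizer ({a} : Set X)) :=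
            Nat.mul_le_mul hEB (card_le_of_le (inf_le_inf_left _
              (centralizer_le (Set.singleton_subset_iff.2 ha))))
        _ = Nat.card B * (2 * _) := by ring
    · have hBn : ¬ IsOffender 2 V B := fun h => by
        have h1 := hmin B h
        have hlt : B < E := lt_of_le_of_ne inf_le_left fun heq => hax ((heq.symm ▸ ha : a ∈ B).2)
        exact absurd (eq_of_le_of_card_ge hlt.le h1) hlt.ne
      have hlt : Nat.card B * Nat.card ↥(V ⊓ centralizer (B : Set X)) <
          Nat.card ↥(B ⊓ centralizer (V : Set X)) * Nat.card V := by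
        by_contra hle
        push Not at hle
        exact hBn ⟨hoff.pgroup.to_le inf_le_left, fun u hu v hv => hab u hu.1 v hv.1,
          fun u hu v hv z hz => hoff.quad u hu.1 v hv.1 z hz, hBC, hle⟩
      obtain ⟨n1, hn1⟩ := IsPGroup.iff_card.1 (hoff.pgroup.to_le (inf_le_left : B ≤ E))
      obtain ⟨n2, hn2⟩ := IsPGroup.iff_card.1 (hV.to_le (inf_le_left : V ⊓ centralizer (B : Set X) ≤ V))
      obtain ⟨n3, hn3⟩ := IsPGroup.iff_card.1
        (hoff.pgroup.to_le ((inf_le_left : B ⊓ centralizer (V : Set X) ≤ B).trans inf_le_left))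
      obtain ⟨n4, hn4⟩ := IsPGroup.iff_card.1 hV
      have h2 := lt_imp_mul_le (p := 2) one_lt_two (a := n1 + n2) (b := n3 + n4)
        (by rw [hn1, hn2, pow_add]) (by rw [hn3, hn4, pow_add]) hlt
      have h3 : Nat.card E * Nat.card ↥(V ⊓ centralizer (B : Set X)) ≤
          Nat.card E * Nat.card ↥(V ⊓ centralizer (E : Set X)) := by
        refine le_trans ?_ hoff.card_le
        rw [hEC]
        refine le_trans ?_ h2
        rw [← mul_assoc]
        exact Nat.mul_le_mul_right _ hEB
      have heq := eq_of_le_of_card_ge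
        (inf_le_inf_left V (centralizer_le (inf_le_left : B ≤ E)))
        (Nat.le_of_mul_le_mul_left h3 Nat.card_pos)
      exact mem_centralizer_iff.1 (heq.symm ▸ hwB).2 a ha

end CfsgLib.WeakClosed
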