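import Cfsg.Agent.WeakClosed.TorusCore
import Cfsg.Agent.WeakClosed.Group

/-!
Glauberman: let `X` be finite with `C_X(O_p(X)) ≤ O_p(X)`, `p` odd, and `T ≤ Z(P)` for a Sylow
`p`-subgroup `P` with `N(J(P)) ≤ N(T)`.  Then `T` is normal, or an element of `N(T)` inducing a
nontrivial `p'`-automorphism of `T` permutes transitively the nonidentity elements of a subgroup
containing its commutators with `T`.
-/

set_option autoImplicit false

universe u

namespace CfsgLib.WeakClosed.Torus

open Cfsg Subgroup CfsgLib.SL2Recognition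
open scoped IsMulCommutative commutatorElement

variable {p : ℕ} [Fact p.Prime]

/-- An element of `N(T)` acting as a torus on `T`. -/
def HasTorus (p : ℕ) {X : Type*} [Group X] (T : Subgroup X) : Prop :=
  ∃ k ∈ normalizer (T : Set X), (∃ m : ℕ, m.Coprime p ∧ k ^ m ∈ centralizer (T : Set X)) ∧
    (∃ t ∈ T, k * t * k⁻¹ ≠ t) ∧
    ∃ Y : Subgroup X, (∀ t ∈ T, ∀ i : ℕ, k ^ i * t * (k ^ i)⁻¹ * t⁻¹ ∈ Y) ∧
      ∀ a ∈ Y, ∀ b ∈ Y, a ≠ 1 → b ≠ 1 → ∃ i : ℕ, k ^ i * a * (k ^ i)⁻¹ = b

theorem HasTorus.map {X Z : Type*} [Group X] [Group Z] (f : X →* Z) (hf : Function.Injective f)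
    {T : Subgroup X} (h : HasTorus p T) : HasTorus p (T.map f) := by
  obtain ⟨k, hk, ⟨m, hm, hkm⟩, ⟨t, ht, htk⟩, Y, hY, htr⟩ := h
  refine ⟨f k, le_normalizer_map f ⟨k, hk, rfl⟩, ⟨m, hm, mem_centralizer_iff.2 ?_⟩,
    ⟨f t, mem_map_of_mem f ht, ?_⟩, Y.map f, ?_, ?_⟩
  · rintro _ ⟨s, hs, rfl⟩
    rw [← map_pow, ← map_mul, ← map_mul, mem_centralizer_iff.1 hkm s hs]
  · exact fun e => htk (hf (by rw [map_mul, map_mul, map_inv]; exact e))
  · rintro _ ⟨s, hs, rfl⟩ i
    exact ⟨_, hY s hs i, by rw [map_mul, map_mul, map_mul, map_inv, map_inv, map_pow]⟩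
  · rintro _ ⟨a, ha, rfl⟩ _ ⟨b, hb, rfl⟩ ha1 hb1
    obtain ⟨i, hi⟩ := htr a ha b hb (fun e => ha1 (by rw [e, map_one]))
      (fun e => hb1 (by rw [e, map_one]))
    exact ⟨i, by rw [← hi, map_mul, map_mul, map_inv, map_pow]⟩

section Step

variable {V : Type*} [AddCommGroup V] {G : Type*} [Group G] (σ : G →* AddMonoid.End V)

theorem apply_pow_of_diff {g : G} {v : V} (h : σ g (σ g v - v) = σ g v - v) (n : ℕ) :
    σ (g ^ n) v = v + n • (σ g v - v) := by
  induction n with
  | zero => simp [apply_one]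
  | succ n ih =>
    rw [pow_succ', apply_mul, ih, map_add, map_nsmul, h, succ_nsmul]; abel

/-- An element fixing the `p`-torsion of a `p`-group module is a `p`-element. -/
theorem eq_one_of_fix_torsion [Finite G] (hinj : Function.Injective σ) {h : G} {m : ℕ}
    (hm : m.Coprime p) (hh : h ^ m = 1) (hV : ∀ v : V, ∃ j : ℕ, p ^ j • v = 0)
    (hW : ∀ w : V, p • w = 0 → σ h w = w) : h = 1 := by
  refine hinj (AddMonoidHom.ext fun v => ?_)
  show σ h v = σ 1 v
  rw [apply_one]
  obtain ⟨j, hj⟩ := hV v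
  induction j generalizing v with
  | zero => rw [show v = 0 by simpa using hj, map_zero]
  | succ j ih =>
    have hpv : σ h (p • v) = p • v := ih (p • v) (by rw [smul_smul, ← pow_succ]; exact hj)
    have hd : p • (σ h v - v) = 0 := by rw [smul_sub, ← map_nsmul, hpv, sub_self]
    have h1 := apply_pow_of_diff σ (hW _ hd) m
    rw [hh, apply_one] at h1
    have h2 : m • (σ h v - v) = 0 := by simpa using h1.symm
    have h3 : addOrderOf (σ h v - v) ∣ 1 := by
      have := Nat.dvd_gcd (addOrderOf_dvd_of_nsmul_eq_zero h2) (addOrderOf_dvd_of_nsmul_eq_zero hd)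
      rwa [hm.gcd_eq_one] at this
    exact sub_eq_zero.1 (AddMonoid.addOrderOf_eq_one_iff.1 (Nat.dvd_one.1 h3))

end Step

theorem hasTorus_step {X : Type u} [Group X] [Finite X] (hp : p ≠ 2) (P : Sylow p X)
    (hc : centralizer (pCore p X : Set X) ≤ pCore p X) {T : Subgroup X}
    (hTP : T ≤ (P : Subgroup X)) (hTc : T ≤ centralizer ((P : Subgroup X) : Set X))
    (hN : normalizer (thompsonSubgroupAOf (P : Subgroup X) : Set X) ≤ normalizer (T : Set X))
    (hmax : ∀ H : Subgroup X, (P : Subgroup X) ≤ H → H ≠ ⊤ → H ≤ normalizer (T : Set X))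
    (hTn : normalizer (T : Set X) ≠ ⊤) : HasTorus p T := by
  classical
  set M := normalizer (T : Set X) with hM
  set Q := pCore p X with hQ
  have hQn : Q.Normal := inferInstance
  have hQP : Q ≤ P := PLocal.pCore_le_sylow P
  have hPC : (P : Subgroup X) ≤ centralizer (T : Set X) := le_centralizer_iff.1 hTc
  have hPM : (P : Subgroup X) ≤ M := hPC.trans (centralizer_le_normalizer _)
  have hTQ : T ≤ centralizer (Q : Set X) := hTc.trans (centralizer_le hQP)
  set V := normalClosure (T : Set X) with hV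
  have hTV : T ≤ V := le_normalClosure
  have hVQ : V ≤ Q ⊓ centralizer (Q : Set X) :=
    normalClosure_le_normal (fun t ht => mem_inf.2 ⟨hc (hTQ ht), hTQ ht⟩)
  have hVc : ∀ a ∈ V, ∀ b ∈ V, a * b = b * a := fun a ha b hb =>
    (mem_centralizer_iff.1 (hVQ ha).2 b (hVQ hb).1).symm
  haveI : IsMulCommutative V := ⟨⟨fun a b => Subtype.ext (hVc a a.2 b b.2)⟩⟩
  have hVP : V ≤ P := (hVQ.trans inf_le_left).trans hQP
  have hVp : IsPGroup p V := P.isPGroup'.to_le hVP
  set C := centralizer (V : Set X) with hC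
  have hCT : C ≤ centralizer (T : Set X) := centralizer_le hTV
  have hCM : C ≤ M := hCT.trans (centralizer_le_normalizer _)
  have hJ : ¬ thompsonSubgroupAOf (P : Subgroup X) ≤ C := by
    intro hle
    refine hTn (top_le_iff.1 ((frattini_inf P C).ge.trans (sup_le ?_ hCM)))
    refine (PLocal.normalizer_le_normalizer_thompsonSubgroupAOf _).trans ?_
    rw [PLocal.thompsonSubgroupAOf_eq_of_le inf_le_left
      (le_inf (PLocal.thompsonSubgroupAOf_le _) hle)]
    exact hN
  obtain ⟨E, hEP, hE⟩ := exists_offender P.isPGroup' hVP hVc hJ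
  -- the group induced on `V`
  let cn : X →* MulAut V := MulAut.conjNormal
  let G := cn.range
  let f : X →* G := cn.rangeRestrict
  have hfs : Function.Surjective f := cn.rangeRestrict_surjective
  let σ : G →* AddMonoid.End (Additive V) :=
    { toFun := fun g => MonoidHom.toAdditive (g : MulAut V).toMonoidHom
      map_one' := rfl
      map_mul' := fun _ _ => rfl }
  have hinj : Function.Injective σ := fun a b h => Subtype.ext (MulEquiv.ext fun v =>
    congrArg Additive.toMul (DFunLike.congr_fun h (Additive.ofMul v)))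
  have hσ : ∀ (x : X) (v : Additive V),
      (((σ (f x) v).toMul : V) : X) = x * (v.toMul : V) * x⁻¹ :=
    fun x v => MulAut.conjNormal_apply x v.toMul
  have hσfix : ∀ (x : X) (v : Additive V), σ (f x) v = v ↔
      x * (v.toMul : V) * x⁻¹ = ((v.toMul : V) : X) := fun x v => by
    rw [← hσ x v]
    exact ⟨fun h => by rw [h], fun h => Additive.toMul.injective (Subtype.ext h)⟩
  have hker : ∀ x, f x = 1 ↔ x ∈ C := fun x => by
    constructor
    · intro h
      refine mem_centralizer_iff.2 fun v hv => ?_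
      have := (hσfix x (Additive.ofMul ⟨v, hv⟩)).1 (by rw [h, apply_one])
      exact (mul_inv_eq_iff_eq_mul.1 this).symm
    · intro h
      refine Subtype.ext (MulEquiv.ext fun v => Subtype.ext ?_)
      rw [show ((f x : G) : MulAut V) = cn x from rfl, MulAut.conjNormal_apply]
      rw [← mem_centralizer_iff.1 h v v.2, mul_inv_cancel_right]
      rfl
  let S : Sylow p G := P.mapSurjective hfs
  have hScoe : (S : Subgroup G) = (P : Subgroup X).map f := rfl
  let T₀ : AddSubgroup (Additive V) := Subgroup.toAddSubgroup (T.subgroupOf V)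
  have hT₀ : ∀ v : Additive V, v ∈ T₀ ↔ ((v.toMul : V) : X) ∈ T := fun v => Iff.rfl
  -- normal `p`-subgroups of the induced group are trivial
  have hcore : ∀ N : Subgroup G, N.Normal → IsPGroup p N → N = ⊥ := by
    intro N hNn hNp
    haveI := hNn
    have hNS : N ≤ (S : Subgroup G) := by
      have := S.is_maximal' (hNp.to_sup_of_normal_left S.isPGroup') le_sup_right
      exact this ▸ le_sup_left
    refine eq_bot_iff.2 fun n hn => ?_
    obtain ⟨x, -, rfl⟩ := hScoe.le (hNS hn)
    rw [mem_bot, hker]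
    refine mem_centralizer_iff.2 fun v hv => ?_
    induction hv using closure_induction with
    | one => simp
    | mul a b _ _ iha ihb => exact ((show Commute a x from iha).mul_left ihb).eq
    | inv a _ iha => exact ((show Commute a x from iha).inv_left).eq
    | mem y hy =>
      obtain ⟨t, ht, hconj⟩ := Group.mem_conjugatesOfSet_iff.1 hy
      obtain ⟨g, rfl⟩ := isConj_iff.1 hconj
      obtain ⟨z, hz, hze⟩ := hScoe.le (hNS (hNn.conj_mem _ hn (f g)⁻¹))
      rw [inv_inv, ← map_inv, ← map_mul, ← map_mul] at hze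
      have hcz : z⁻¹ * (g⁻¹ * x * g) ∈ C :=
        (hker _).1 (by rw [map_mul, map_inv, hze, inv_mul_cancel])
      have hgt : g⁻¹ * x * g ∈ centralizer (T : Set X) := by
        simpa using mul_mem (hPC hz) (hCT hcz)
      have h1 := mem_centralizer_iff.1 hgt t ht
      calc g * t * g⁻¹ * x = g * (t * (g⁻¹ * x * g)) * g⁻¹ := by group
        _ = g * (g⁻¹ * x * g * t) * g⁻¹ := by rw [h1]
        _ = x * (g * t * g⁻¹) := by group
  have hpow : ∀ v : Additive V, ∃ j : ℕ, p ^ j • v = 0 := fun v => by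
    obtain ⟨j, hj⟩ := hVp v.toMul
    exact ⟨j, Additive.toMul.injective hj⟩
  -- elements fixing the `p`-torsion are trivial
  let W : Subgroup G :=
    { carrier := {g | ∀ w : Additive V, p • w = 0 → σ g w = w}
      one_mem' := fun w _ => apply_one σ w
      mul_mem' := fun {g h} hg hh w hw => by rw [apply_mul, hh w hw, hg w hw]
      inv_mem' := fun {g} hg w hw => by
        conv_lhs => rw [← hg w hw]
        rw [apply_inv_apply] }
  have hWn : W.Normal := ⟨fun n hn g w hw => by
    have h1 : σ n (σ g⁻¹ w) = σ g⁻¹ w := hn _ (by rw [← map_nsmul, hw, map_zero])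
    rw [apply_mul, apply_mul, h1, apply_apply_inv]⟩
  have hWp : IsPGroup p W := by
    intro g
    obtain ⟨k, m, hpm, hkm⟩ := Nat.exists_eq_pow_mul_and_not_dvd
      (orderOf_pos (g : G)).ne' p (Fact.out : p.Prime).ne_one
    refine ⟨k, Subtype.ext (eq_one_of_fix_torsion σ hinj (m := m) ?_ ?_ hpow
      fun w hw => (pow_mem g.2 _ : (g : G) ^ p ^ k ∈ W) w hw)⟩
    · rw [Nat.coprime_comm]; exact (Fact.out : p.Prime).coprime_iff_not_dvd.2 hpm
    · rw [SubgroupClass.coe_pow, ← pow_mul, ← hkm, pow_orderOf_eq_one]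
  have hW1 := hcore W hWn hWp
  -- a strict offender
  obtain ⟨A, ⟨hAS, hA⟩⟩ : ∃ A, A ≤ (S : Subgroup G) ∧ IsStrict σ p A := by
    set E' := E.map f with hE'
    have hE'fix : Nat.card (fix σ E') = Nat.card ↥(V ⊓ centralizer (E : Set X)) :=
      Nat.card_congr
        { toFun := fun v => ⟨((v.1.toMul : V) : X), mem_inf.2 ⟨v.1.toMul.2,
            mem_centralizer_iff.2 fun e he =>
              mul_inv_eq_iff_eq_mul.1 ((hσfix e v.1).1 (v.2 _ (mem_map_of_mem f he)))⟩⟩
          invFun := fun v => ⟨Additive.ofMul ⟨v.1, (mem_inf.1 v.2).1⟩, by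
            rintro _ ⟨e, he, rfl⟩
            exact (hσfix e _).2 (mul_inv_eq_iff_eq_mul.2
              (mem_centralizer_iff.1 (mem_inf.1 v.2).2 e he))⟩
          left_inv := fun v => rfl
          right_inv := fun v => rfl }
    have hcard : Nat.card E = Nat.card ↥(E ⊓ C) * Nat.card E' := by
      let g : E →* G := f.comp E.subtype
      have h1 : g.range = E' := by rw [MonoidHom.range_comp, range_subtype]
      have h2 : g.ker = C.subgroupOf E := by
        ext e; exact hker e
      have h3 := g.ker.card_mul_index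
      rw [index_ker, h1, h2] at h3
      rw [← h3, ← inf_comm, ← Nat.card_congr (subgroupOfEquivOfLe inf_le_right).toEquiv,
        inf_subgroupOf_right]
    have hle : Nat.card (Additive V) ≤ Nat.card E' * Nat.card (fix σ E') := by
      have h := hE.card_le
      rw [← hC, hcard, mul_assoc] at h
      rw [hE'fix]
      exact Nat.le_of_mul_le_mul_left h Nat.card_pos
    obtain ⟨A, ⟨hAE, hA1, hAle⟩, hmin⟩ := Set.exists_min_image
      {A : Subgroup G | A ≤ E' ∧ A ≠ ⊥ ∧ Nat.card (Additive V) ≤ Nat.card A * Nat.card (fix σ A)}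
      (fun A => Nat.card A) (Set.toFinite _)
      ⟨E', le_rfl, fun e => hE.not_le fun x hx => (hker x).1 (by
        rw [← mem_bot, ← e]; exact mem_map_of_mem f hx), hle⟩
    have hquad : ∀ a ∈ A, ∀ b ∈ A, ∀ v, σ a (σ b v - v) = σ b v - v := by
      intro a ha b hb v
      obtain ⟨x, hx, rfl⟩ := hAE ha
      obtain ⟨y, hy, rfl⟩ := hAE hb
      rw [hσfix]
      have he : (((σ (f y) v - v).toMul : V) : X) = ⁅y, ((v.toMul : V) : X)⁆ := by
        rw [toMul_sub, div_eq_mul_inv, coe_mul, coe_inv, hσ, commutatorElement_def]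
      rw [he]
      exact mul_inv_eq_iff_eq_mul.2 (hE.quad y hy x hx _ v.toMul.2).symm.eq
    have hAS : A ≤ (S : Subgroup G) := hAE.trans (map_mono hEP)
    refine ⟨A, hAS, S.isPGroup'.to_le hAS, hA1, hquad, fun a ha v => ?_, hAle, ?_⟩
    · have hap : a ^ p = 1 := by
        have : a ^ p ∈ W := fun w hw => by
          rw [apply_pow_of_diff σ (hquad a ha a ha w), smul_sub, ← map_nsmul, hw, map_zero,
            sub_zero, add_zero]
        rwa [hW1, mem_bot] at this
      have h1 := apply_pow_of_diff σ (hquad a ha a ha v) p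
      rw [hap, apply_one] at h1
      have h2 : p • (σ a v - v) = 0 := by simpa using h1.symm
      rw [smul_sub, ← map_nsmul, sub_eq_zero] at h2
      exact h2
    · intro A₀ h1 h2 h3
      by_contra hlt
      exact h3 (eq_of_le_of_card_ge h1
        (hmin A₀ ⟨h1.trans hAE, h2, hAle.trans (not_lt.1 hlt)⟩))
  set M' := M.map f with hM'
  have hMne : M' ≠ ⊤ := fun h => hTn (eq_top_iff.2 fun x _ => by
    obtain ⟨y, hy, hyx⟩ := h.ge (mem_top (f x))
    have : y⁻¹ * x ∈ C := (hker _).1 (by rw [map_mul, map_inv, hyx, inv_mul_cancel])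
    simpa using mul_mem hy (hCM this))
  have hMT : ∀ g : G, (∀ t ∈ T₀, σ g t = t) → g ∈ M' := fun g hg => by
    obtain ⟨x, rfl⟩ := hfs g
    refine ⟨x, centralizer_le_normalizer _ (mem_centralizer_iff.2 fun t ht => ?_), rfl⟩
    exact (mul_inv_eq_iff_eq_mul.1
      ((hσfix x (Additive.ofMul ⟨t, hTV ht⟩)).1 (hg _ ht))).symm
  have hfix : ∀ g ∈ M', (∃ k : ℕ, g ^ p ^ k = 1) → ∀ t ∈ T₀, σ g t = t := by
    rintro _ ⟨y, hy, rfl⟩ ⟨k, hk⟩ t ht
    rw [← map_pow, hker] at hk
    let Z : Subgroup M := (centralizer (T : Set X)).subgroupOf M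
    haveI : Z.Normal := ⟨fun n hn g => mem_subgroupOf.2 (mem_centralizer_iff.2 fun s hs => by
      have hgs : (g : X)⁻¹ * s * g ∈ T := by
        simpa using (mem_normalizer_iff.1 (inv_mem g.2 : (g : X)⁻¹ ∈ M) s).1 hs
      have h1 := mem_centralizer_iff.1 (mem_subgroupOf.1 hn) _ hgs
      show s * (g * n * (g : X)⁻¹) = g * n * (g : X)⁻¹ * s
      calc s * (g * n * (g : X)⁻¹) = g * ((g : X)⁻¹ * s * g * n) * (g : X)⁻¹ := by group
        _ = g * (n * ((g : X)⁻¹ * s * g)) * (g : X)⁻¹ := by rw [h1]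
        _ = _ := by group)⟩
    have hidx : ¬ p ∣ Z.index := fun hd => (P.subtype hPM).not_dvd_index
      (hd.trans (index_dvd_of_le fun z hz => hPC hz))
    have h1 : (QuotientGroup.mk (⟨y, hy⟩ : M) : M ⧸ Z) ^ p ^ k = 1 := by
      rw [← QuotientGroup.mk_pow, QuotientGroup.eq_one_iff]
      exact hCT hk
    have h2 : orderOf (QuotientGroup.mk (⟨y, hy⟩ : M) : M ⧸ Z) ∣ Nat.gcd (p ^ k) Z.index :=
      Nat.dvd_gcd (orderOf_dvd_of_pow_eq_one h1) (index_eq_card Z ▸ orderOf_dvd_natCard _)
    rw [Nat.Coprime.gcd_eq_one (Nat.Coprime.pow_left _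
      ((Fact.out : p.Prime).coprime_iff_not_dvd.2 hidx)), Nat.dvd_one, orderOf_eq_one_iff,
      QuotientGroup.eq_one_iff] at h2
    rw [hσfix]
    exact mul_inv_eq_iff_eq_mul.2 (mem_centralizer_iff.1 h2 _ ((hT₀ t).1 ht)).symm
  have hSM : (S : Subgroup G) ≤ M' := map_mono hPM
  have hNE : normalizer ((sSup {A | IsStrict σ p A ∧ A ≤ (S : Subgroup G)} : Subgroup G) : Set G) ≤
      M' := by
    set Es := sSup {A | IsStrict σ p A ∧ A ≤ (S : Subgroup G)} with hEs
    have hSN : (S : Subgroup G) ≤ normalizer (Es : Set G) := fun s hs => by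
      refine mem_normalizer_of_map_le ?_
      rw [hEs, map_le_iff_le_comap]
      refine sSup_le fun B hB => map_le_iff_le_comap.1 (le_sSup ⟨hB.1.map_conj s, ?_⟩)
      rintro _ ⟨b, hb, rfl⟩
      exact mul_mem (mul_mem hs (hB.2 hb)) (inv_mem hs)
    set H := (normalizer (Es : Set G)).comap f with hH
    by_cases htop : H = ⊤
    · have hEsn : Es.Normal := normalizer_eq_top_iff.1 (eq_top_iff.2 fun g _ => by
        obtain ⟨x, rfl⟩ := hfs g
        exact htop.ge (mem_top x))
      have hEsS : Es ≤ (S : Subgroup G) := sSup_le fun B hB => hB.2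
      refine absurd ?_ hA.ne_bot
      rw [eq_bot_iff, ← hcore Es hEsn (S.isPGroup'.to_le hEsS)]
      exact le_sSup ⟨hA, hAS⟩
    · intro g hg
      obtain ⟨x, rfl⟩ := hfs g
      exact ⟨x, hmax H (fun y hy => hSN ⟨y, hy, rfl⟩) htop hg, rfl⟩
  obtain ⟨k, hk, hcop, ⟨t, ht, htk⟩, Y, hY, htr⟩ :=
    exists_torus hinj hp hMne T₀ hMT hfix S hSM hNE
  obtain ⟨x, hx, rfl⟩ := hk
  refine ⟨x, hx, ⟨_, hcop, hCT ((hker _).1 (by rw [map_pow]; exact pow_orderOf_eq_one _))⟩,
    ⟨_, ht, fun e => htk ((hσfix x t).2 e)⟩,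
    (AddSubgroup.toSubgroup' Y).map V.subtype, fun s hs i => ?_, ?_⟩
  · refine ⟨_, hY (Additive.ofMul ⟨s, hTV hs⟩) hs i, ?_⟩
    show (((σ (f x ^ i) _ - Additive.ofMul (⟨s, hTV hs⟩ : V)).toMul : V) : X) = _
    rw [← map_pow, toMul_sub, div_eq_mul_inv, coe_mul, coe_inv, hσ]
    rfl
  · rintro _ ⟨a, ha, rfl⟩ _ ⟨b, hb, rfl⟩ ha1 hb1
    obtain ⟨i, hi⟩ := htr _ ha _ hb
      (fun e => ha1 (by rw [show a = 1 from Additive.ofMul.injective e]; rfl))
      (fun e => hb1 (by rw [show b = 1 from Additive.ofMul.injective e]; rfl))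
    rw [← map_pow] at hi
    exact ⟨i, (hσ _ _).symm.trans (congrArg (fun v : Additive V => ((v.toMul : V) : X)) hi)⟩

/-- Glauberman's theorem, constrained case. -/
theorem normal_or_hasTorus {X : Type u} [Group X] [Finite X] (hp : p ≠ 2) (P : Sylow p X)
    (hc : centralizer (pCore p X : Set X) ≤ pCore p X) {T : Subgroup X}
    (hTP : T ≤ (P : Subgroup X)) (hTc : T ≤ centralizer ((P : Subgroup X) : Set X))
    (hN : normalizer (thompsonSubgroupAOf (P : Subgroup X) : Set X) ≤ normalizer (T : Set X)) :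
    normalizer (T : Set X) = ⊤ ∨ HasTorus p T := by
  suffices H : ∀ (n : ℕ) (X : Type u) [Group X] [Finite X], Nat.card X = n → ∀ (P : Sylow p X),
      centralizer (pCore p X : Set X) ≤ pCore p X → ∀ T : Subgroup X,
      T ≤ (P : Subgroup X) → T ≤ centralizer ((P : Subgroup X) : Set X) →
      normalizer (thompsonSubgroupAOf (P : Subgroup X) : Set X) ≤ normalizer (T : Set X) →
      normalizer (T : Set X) = ⊤ ∨ HasTorus p T from H _ X rfl P hc T hTP hTc hN
  intro n
  induction n using Nat.strongRecOn with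
  | ind n ihn =>
  intro X _ _ hn P hc T hTP hTc hN
  by_contra hcon
  rw [not_or] at hcon
  refine hcon.2 (hasTorus_step hp P hc hTP hTc hN (fun H hPH hH => ?_) hcon.1)
  have hlt : Nat.card H < n := by
    rw [← hn]
    exact lt_of_le_of_ne (Subgroup.card_le_card_group H) fun h => hH (eq_top_of_card_eq H h)
  have hQH := PLocal.pCore_subgroupOf_le (p := p) H
  have hcH : centralizer (pCore p H : Set H) ≤ pCore p H := by
    intro c hc'
    refine hQH (mem_subgroupOf.2 (hc (mem_centralizer_iff.2 fun q hq => ?_)))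
    have hqH : q ∈ H := hPH (PLocal.pCore_le_sylow P hq)
    exact congrArg Subtype.val (mem_centralizer_iff.1 hc' ⟨q, hqH⟩ (hQH (mem_subgroupOf.2 hq)))
  have hTH : T ≤ H := hTP.trans hPH
  rcases ihn _ hlt H rfl (P.subtype hPH) hcH (T.subgroupOf H)
    (fun t ht => hTP ht)
    (fun t ht => mem_centralizer_iff.2 fun q hq => Subtype.ext
      (mem_centralizer_iff.1 (hTc ht) q hq))
    (fun g hg => by
      have hmap : (thompsonSubgroupAOf ((P.subtype hPH : Sylow p H) : Subgroup H)).map H.subtype =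
          thompsonSubgroupAOf (P : Subgroup X) := by
        rw [PLocal.map_thompsonSubgroupAOf H.subtype_injective, Sylow.coe_subtype,
          map_subgroupOf_eq_of_le hPH]
      have h1 := hN (hmap ▸ le_normalizer_map H.subtype ⟨g, hg, rfl⟩)
      refine mem_normalizer_iff.2 fun y => ?_
      exact mem_normalizer_iff.1 h1 (y : X)) with h | h
  · intro y hy
    have h1 : (⟨y, hy⟩ : H) ∈ normalizer ((T.subgroupOf H : Subgroup H) : Set H) := by
      rw [h]; exact mem_top _
    have h2 := le_normalizer_map H.subtype ⟨_, h1, rfl⟩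
    rwa [map_subgroupOf_eq_of_le hTH] at h2
  · refine absurd (h.map H.subtype H.subtype_injective) ?_
    rw [map_subgroupOf_eq_of_le hTH]
    exact hcon.2

end CfsgLib.WeakClosed.Torus
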